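import Mathlib
import Cfsg.Agent.H14.CenD
import Cfsg.Agent.H2.FratArg
import Cfsg.Agent.S3072

/-!
# Control of fusion in a normal subgroup and centric radical subgroups
-/

set_option autoImplicit false
set_option linter.style.haveILetI false
set_option linter.unusedSectionVars false

universe u

namespace Cfsg.Agent.H14.Cen

open Cfsg Cfsg.Agent.L Cfsg.Agent.H19 Subgroup
open scoped commutatorElement

variable {G : Type u} [Group G] [Finite G] {p : ℕ} [hp : Fact p.Prime]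

theorem mem_cent_of_eq {m y : G} {B : Subgroup G} (h : ∀ b ∈ B, m * b * m⁻¹ = y * b * y⁻¹) :
    m⁻¹ * y ∈ centralizer (B : Set G) := by
  rw [mem_centralizer_iff]
  intro a ha
  have h2 := h a ha
  calc a * (m⁻¹ * y) = m⁻¹ * (m * a * m⁻¹) * y := by group
    _ = m⁻¹ * (y * a * y⁻¹) * y := by rw [h2]
    _ = m⁻¹ * y * a := by group

/-- an element centralizing `R₀` and `R/R₀` acts on `R` as a `p`-element -/
theorem pow_mem_cent {R R₀ : Subgroup G} (hR₀ : IsPGroup p R₀) {z : G}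
    (hz : z ∈ centralizer (R₀ : Set G)) (h : ∀ r ∈ R, r⁻¹ * (z * r * z⁻¹) ∈ R₀) :
    ∃ k : ℕ, z ^ p ^ k ∈ centralizer (R : Set G) := by
  obtain ⟨n, hn⟩ := IsPGroup.iff_card.1 hR₀
  refine ⟨n, ?_⟩
  rw [mem_centralizer_iff]
  intro r hr
  obtain ⟨t, ht⟩ : ∃ t, t = r⁻¹ * (z * r * z⁻¹) := ⟨_, rfl⟩
  have htR : t ∈ R₀ := by rw [ht]; exact h r hr
  have hzt : t * z = z * t := mem_centralizer_iff.1 hz t htR
  have key : ∀ j : ℕ, z ^ j * r * (z ^ j)⁻¹ = r * t ^ j := by
    intro j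
    induction j with
    | zero => simp
    | succ j ih =>
      have e1 : z ^ (j + 1) * r * (z ^ (j + 1))⁻¹ = z * (z ^ j * r * (z ^ j)⁻¹) * z⁻¹ := by
        rw [pow_succ']; group
      have e2 : z * t ^ j = t ^ j * z := ((show Commute z t from hzt.symm).pow_right j)
      rw [e1, ih]
      calc z * (r * t ^ j) * z⁻¹ = (z * r * z⁻¹) * (z * t ^ j) * z⁻¹ := by group
        _ = (z * r * z⁻¹) * (t ^ j * z) * z⁻¹ := by rw [e2]
        _ = r * (r⁻¹ * (z * r * z⁻¹)) * t ^ j := by group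
        _ = r * t ^ (j + 1) := by rw [← ht, pow_succ']; group
  have h1 : t ^ p ^ n = 1 := by
    have := pow_card_eq_one' (x := (⟨t, htR⟩ : R₀))
    rw [hn] at this
    exact congrArg Subtype.val this
  have h2 := key (p ^ n)
  rw [h1, mul_one] at h2
  calc r * z ^ p ^ n = (z ^ p ^ n * r * (z ^ p ^ n)⁻¹) * z ^ p ^ n := by rw [h2]
    _ = z ^ p ^ n * r := by group

/-- centric radical subgroups contain the controlling subgroup `W` of `P ∩ N` -/
theorem le_of_ctrl {P N W R : Subgroup G} [hN : N.Normal] (hP : SylIn p P ⊤) (hWP : W ≤ P ⊓ N)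
    (hPW : P ≤ nz W) (hct : MtAll (nz W) (P ⊓ N)) (hR : R ≤ P)
    (hRs : ¬ p ∣ (P ⊓ nz R).relIndex (nz R)) (hRc : P ⊓ centralizer (R : Set G) ≤ R)
    (hrad : (pPrimePCore p ↥(normalizer (R : Set G))).map (normalizer (R : Set G)).subtype =
      R ⊔ centralizer (R : Set G)) : W ≤ R := by
  have hnN : ∀ K : Subgroup G, K ≤ nz N := by
    intro K
    have : nz N = ⊤ := normalizer_eq_top_iff.2 hN
    rw [this]; exact le_top
  obtain ⟨R₀, hR₀⟩ : ∃ R₀, R₀ = R ⊓ N := ⟨_, rfl⟩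
  have hRp : IsPGroup p R := hP.isPGroup.to_le hR
  have hR₀p : IsPGroup p R₀ := hRp.to_le (by rw [hR₀]; exact inf_le_left)
  have hR₀le : R₀ ≤ P ⊓ N := by rw [hR₀]; exact inf_le_inf_right _ hR
  have hnR : nz R ≤ nz R₀ := by
    intro x hx
    rw [mem_nz_iff, hR₀, cj_inf, mem_nz_iff.1 hx, mem_nz_iff.1 (hnN ⊤ (mem_top x))]
  -- the centralizer of `R`
  have hsyl : SylIn p (R ⊓ centralizer (R : Set G)) (centralizer (R : Set G)) := by
    have h1 : SylIn p (P ⊓ nz R) (nz R) := ⟨inf_le_right, hP.isPGroup.to_le inf_le_left, hRs⟩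
    have h2 := h1.inf_normal' (nz_le_nz_cent R) (cent_le_nz' R)
    have e : P ⊓ nz R ⊓ centralizer (R : Set G) = R ⊓ centralizer (R : Set G) := by
      apply le_antisymm
      · refine le_inf (le_trans (le_inf (inf_le_left.trans inf_le_left) inf_le_right) hRc) inf_le_right
      · exact inf_le_inf_right _ (le_inf hR (le_nz _))
    rwa [e] at h2
  obtain ⟨O, hOC, hOp, hdec, hchar, hnO⟩ := exists_O hsyl
  have hO := pPrimeCore_nz hRp hOC hOp hchar hnO
  -- the subgroup `D'`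
  obtain ⟨U, hU⟩ : ∃ U, U = (W ⊓ nz R₀) ⊔ centralizer (R₀ : Set G) := ⟨_, rfl⟩
  obtain ⟨D, hD⟩ : ∃ D, D = nz R ⊓ N ⊓ U := ⟨_, rfl⟩
  have hRU : nz R ≤ nz U := by
    intro y hy
    obtain ⟨m, hm, hmy⟩ := hct R₀ y hR₀le (by rw [mem_nz_iff.1 (hnR hy)]; exact hR₀le)
    have hmR : m ∈ nz R₀ := by rw [mem_nz_iff, Mt.cj_eq hmy, mem_nz_iff.1 (hnR hy)]
    have hc : m⁻¹ * y ∈ U := by rw [hU]; exact mem_sup_right (mem_cent_of_eq hmy)
    have e : y = m * (m⁻¹ * y) := by group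
    rw [e]
    refine mul_mem ?_ (le_nz U hc)
    rw [mem_nz_iff, hU, cj_sup, cj_inf, mem_nz_iff.1 hm, ← nz_cj, mem_nz_iff.1 hmR,
      mem_nz_iff.1 (nz_le_nz_cent R₀ hmR)]
  have hDR : D ≤ nz R := by rw [hD]; exact inf_le_left.trans inf_le_left
  have hRD : nz R ≤ nz D := by
    intro y hy
    rw [mem_nz_iff, hD, cj_inf, cj_inf, cj_eq_self_of_mem hy, mem_nz_iff.1 (hnN ⊤ (mem_top y)),
      mem_nz_iff.1 (hRU hy)]
  have hDle : D ≤ R ⊔ centralizer (R : Set G) := by
    rw [← hrad]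
    intro x hx
    refine ⟨⟨x, hDR hx⟩, ?_, rfl⟩
    have hle : D.subgroupOf (normalizer (R : Set G)) ≤ pPrimePCore p ↥(normalizer (R : Set G)) := by
      apply H19.le_pPrimePCore
      · exact (normal_subgroupOf_iff_le_normalizer hDR).2 hRD
      · rintro ⟨y, hy⟩ hyD
        rw [mem_subgroupOf] at hyD
        have hyD' : y ∈ nz R ⊓ N ⊓ U := by rw [← hD]; exact hyD
        obtain ⟨⟨hyR, hyN⟩, hyU⟩ := hyD'
        -- `y` acts on `R₀` as a `p`-element
        have h1 : ∃ a : ℕ, y ^ p ^ a ∈ centralizer (R₀ : Set G) := by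
          have hWn : W ⊓ nz R₀ ≤ nz (centralizer (R₀ : Set G)) :=
            inf_le_right.trans (nz_le_nz_cent R₀)
          have hyU' : y ∈ centralizer (R₀ : Set G) ⊔ (W ⊓ nz R₀) := by
            rw [sup_comm, ← hU]; exact hyU
          obtain ⟨c, hc, w, hw, rfl⟩ := (H1.mem_sup_iff_of_le_normalizer hWn).1 hyU'
          obtain ⟨a, ha⟩ := hP.isPGroup ⟨w, (hWP hw.1).1⟩
          have ha' : w ^ p ^ a = 1 := congrArg Subtype.val ha
          refine ⟨a, ?_⟩
          have key : ∀ j : ℕ, (c * w) ^ j * (w ^ j)⁻¹ ∈ centralizer (R₀ : Set G) := by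
            intro j
            induction j with
            | zero => simpa using one_mem _
            | succ j ih =>
              have e : (c * w) ^ (j + 1) * (w ^ (j + 1))⁻¹ =
                  c * (w * ((c * w) ^ j * (w ^ j)⁻¹) * w⁻¹) := by
                rw [pow_succ', pow_succ']; group
              rw [e]
              exact mul_mem hc ((mem_normalizer_iff.1 (hWn hw) _).1 ih)
          have := key (p ^ a)
          rwa [ha', inv_one, mul_one] at this
        obtain ⟨a, ha⟩ := h1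
        obtain ⟨z, hz⟩ : ∃ z, z = y ^ p ^ a := ⟨_, rfl⟩
        rw [← hz] at ha
        have hzR : z ∈ nz R := by rw [hz]; exact pow_mem hyR _
        have hzN : z ∈ N := by rw [hz]; exact pow_mem hyN _
        obtain ⟨b, hb⟩ := pow_mem_cent (R := R) hR₀p ha (by
          intro r hr
          rw [hR₀]
          refine mem_inf.2 ⟨mul_mem (inv_mem hr) ((mem_normalizer_iff.1 hzR r).1 hr), ?_⟩
          have e : r⁻¹ * (z * r * z⁻¹) = (r⁻¹ * z * r⁻¹⁻¹) * z⁻¹ := by group
          rw [e]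
          exact mul_mem (hN.conj_mem z hzN r⁻¹) (inv_mem hzN))
        obtain ⟨w, hw, o, ho, hwo⟩ := hdec _ hb
        obtain ⟨e, he⟩ := hRp ⟨w, hw.1⟩
        have he' : w ^ p ^ e = 1 := congrArg Subtype.val he
        have hcm : Commute w o := mem_centralizer_iff.1 (hOC ho) w hw.1
        refine ⟨a + b + e, ?_⟩
        have h2 : y ^ p ^ (a + b + e) ∈ O := by
          have e1 : y ^ p ^ (a + b + e) = (z ^ p ^ b) ^ p ^ e := by
            rw [hz, pow_add, pow_add, pow_mul, pow_mul]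
          rw [e1, hwo, hcm.mul_pow, he', one_mul]
          exact pow_mem ho _
        rw [← hO] at h2
        obtain ⟨v, hv, hv2⟩ := h2
        have h8 : (⟨y, hy⟩ : ↥(normalizer (R : Set G))) ^ p ^ (a + b + e) = v := Subtype.ext hv2.symm
        rw [h8]; exact hv
    exact hle hx
  have hRn : R ≤ nz (centralizer (R : Set G)) := (le_nz R).trans (nz_le_nz_cent R)
  have hXR : W ⊓ nz R ≤ R := by
    intro x hx
    have h1 : x ∈ D := by
      rw [hD]
      refine mem_inf.2 ⟨mem_inf.2 ⟨hx.2, (hWP hx.1).2⟩, ?_⟩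
      rw [hU]
      exact mem_sup_left (mem_inf.2 ⟨hx.1, hnR hx.2⟩)
    have h2 := hDle h1
    rw [sup_comm] at h2
    obtain ⟨c, hc, r, hr, rfl⟩ := (H1.mem_sup_iff_of_le_normalizer hRn).1 h2
    have h3 : c ∈ P := by
      have := mul_mem (mem_inf.1 (hWP hx.1)).1 (inv_mem (hR hr))
      rwa [mul_inv_cancel_right] at this
    exact mul_mem (hRc ⟨h3, hc⟩) hr
  by_contra hne
  have hlt : R < W ⊔ R := lt_of_le_of_ne le_sup_right (fun e => hne (by
    have : W ≤ W ⊔ R := le_sup_left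
    rwa [← e] at this))
  obtain ⟨x, hx, hxR⟩ := SetLike.exists_of_lt (lt_inf_nz (hP.isPGroup.to_le
    (sup_le (hWP.trans inf_le_left) hR)) hlt)
  obtain ⟨hx1, hx2⟩ := mem_inf.1 hx
  obtain ⟨q, hq, r, hr, rfl⟩ := (H1.mem_sup_iff_of_le_normalizer (hR.trans hPW)).1 hx1
  apply hxR
  refine mul_mem (hXR (mem_inf.2 ⟨hq, ?_⟩)) hr
  have := mul_mem hx2 (inv_mem (le_nz R hr))
  rwa [mul_inv_cancel_right] at this

/-- control in `P` from control in `P ∩ N` -/
theorem ctrl_of_normal {N W : Subgroup G} [hN : N.Normal] (P : Sylow p G) (hWP : W ≤ (P : Subgroup G) ⊓ N)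
    (hPW : nz (P : Subgroup G) ≤ nz W) (hct : MtAll (nz W) ((P : Subgroup G) ⊓ N)) (A : Subgroup G)
    (hA : A ≤ (P : Subgroup G)) (g : G) (hg : cj g A ≤ (P : Subgroup G)) :
    ∃ h ∈ nz W, ∃ c ∈ centralizer (A : Set G), g = h * c := by
  have hP := sylIn_top P
  by_cases hA1 : ∃ a ∈ (A : Set G), a ≠ 1
  · obtain ⟨n, H, X, x, c, y, hc, hy, hgx, h⟩ := S3072.result P (A : Set G) hA hA1 g⁻¹ (by
      rintro _ ⟨a, ha, rfl⟩
      show g⁻¹⁻¹ * a * g⁻¹ ∈ (P : Subgroup G)
      rw [inv_inv]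
      exact hg (conj_mem_cj ha))
    have hx : ∀ i, x i ∈ nz W := by
      intro i
      obtain ⟨h1, h2, h3, h4, -, h6, h7, -⟩ := h i
      have hWR := le_of_ctrl hP hWP ((le_nz _).trans hPW) hct h1 h2 h3 h4
      have hxn : x i ∈ nz (H i) := by
        obtain ⟨w, -, hw⟩ := h7
        rw [← hw]
        exact h6.2.1 w.2
      have hcj : cj (x i) W ≤ (P : Subgroup G) ⊓ N := by
        refine le_inf ?_ ?_
        · refine (cj_mono hWR).trans ?_
          rw [mem_nz_iff.1 hxn]; exact h1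
        · apply cj_le_of_forall
          intro w hw
          exact hN.conj_mem w (hWP hw).2 _
      obtain ⟨m, hm, hmx⟩ := hct W (x i) hWP hcj
      rw [mem_nz_iff, ← Mt.cj_eq hmx, mem_nz_iff.1 hm]
    have hprod : (List.ofFn x).prod ∈ nz W := by
      apply list_prod_mem
      intro z hz
      rw [List.mem_ofFn] at hz
      obtain ⟨i, rfl⟩ := hz
      exact hx i
    refine ⟨((List.ofFn x).prod * y)⁻¹, inv_mem (mul_mem hprod (hPW hy)), c⁻¹, inv_mem hc, ?_⟩
    rw [← mul_inv_rev, ← mul_assoc, ← hgx, inv_inv]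
  · push_neg at hA1
    refine ⟨1, one_mem _, g, ?_, by group⟩
    rw [mem_centralizer_iff]
    intro a ha
    rw [hA1 a ha, one_mul, mul_one]

end Cfsg.Agent.H14.Cen
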