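import Mathlib.GroupTheory.GroupAction.Jordan
import Mathlib.GroupTheory.Perm.MaximalSubgroups
import Mathlib.GroupTheory.SpecificGroups.Alternating.MaximalSubgroups

set_option autoImplicit false

/-! Stabilizers of uniform partitions in symmetric groups -/

namespace Cfsg.Agent.H14.Imp

open MulAction
open scoped Pointwise

variable {Ω : Type*} {b : ℕ}

/-- the stabilizer of the partition into fibres of `f` -/
def W (f : Ω → Fin b) : Subgroup (Equiv.Perm Ω) where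
  carrier := {g | ∀ x y : Ω, f x = f y ↔ f (g x) = f (g y)}
  mul_mem' := by
    intro g h hg hh x y
    rw [hh x y, hg (h x) (h y)]; rfl
  one_mem' := fun x y => Iff.rfl
  inv_mem' := by
    intro g hg x y
    rw [hg (g⁻¹ x) (g⁻¹ y)]
    simp

theorem mem_W {f : Ω → Fin b} {g : Equiv.Perm Ω} :
    g ∈ W f ↔ ∀ x y : Ω, f x = f y ↔ f (g x) = f (g y) := Iff.rfl

theorem closure_eq (f : Ω → Fin b) :
    Subgroup.closure {g : Equiv.Perm Ω | ∀ x y : Ω, f x = f y ↔ f (g x) = f (g y)} = W f :=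
  Subgroup.closure_eq (W f)

/-- enough elements in `G` -/
structure Enough (f : Ω → Fin b) (G : Subgroup (Equiv.Perm Ω)) : Prop where
  hA : ∀ x y y' : Ω, f y = f y' → y ≠ x → y' ≠ x → ∃ g ∈ G, g x = x ∧ g y = y'
  hB : ∀ k i j : Fin b, i ≠ k → j ≠ k → ∃ g ∈ G, (∀ x, f x = k → f (g x) = k) ∧
    (∀ x, f x = i → f (g x) = j)
  hC : ∀ i j : Fin b, ∃ g ∈ G, g ∈ W f ∧ ∀ x, f x = i → f (g x) = j

variable [Finite Ω] {f : Ω → Fin b} {G : Subgroup (Equiv.Perm Ω)}

theorem smul_def' (g : G) (x : Ω) : g • x = (g : Equiv.Perm Ω) x := rfl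

theorem Enough.block (h : Enough f G) (h2 : ∀ i, ∃ x y : Ω, x ≠ y ∧ f x = i ∧ f y = i)
    {B : Set Ω} (hB : IsBlock G B) {x : Ω} (hx : x ∈ B) (hns : ∃ y ∈ B, y ≠ x) :
    B = {z | f z = f x} ∨ B = Set.univ := by
  -- elements of `G` mapping a point of `B` to a point of `B` stabilize `B`
  have key : ∀ g ∈ G, ∀ u ∈ B, g u ∈ B → ∀ v ∈ B, g v ∈ B := by
    intro g hg u hu hgu v hv
    have h1 : (⟨g, hg⟩ : G) • B = B := by
      by_contra hne
      have h3 := hB (g₁ := (⟨g, hg⟩ : G)) (g₂ := 1) (by rwa [one_smul])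
      rw [one_smul] at h3
      exact Set.disjoint_left.1 h3 (Set.smul_mem_smul_set hu) hgu
    rw [← h1]
    exact Set.smul_mem_smul_set hv
  have hmove : ∀ y y' : Ω, f y = f y' → ∀ z ∈ B, y ≠ z → y' ≠ z → y ∈ B → y' ∈ B := by
    intro y y' hyy z hz hyz hy'z hy
    obtain ⟨g, hg, h1, h2⟩ := h.hA z y y' hyy hyz hy'z
    have := key g hg z hz (by rw [h1]; exact hz) y hy
    rwa [h2] at this
  by_cases hcase : ∃ y ∈ B, f y ≠ f x
  · right
    obtain ⟨y, hy, hyx⟩ := hcase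
    have hfx : ∀ z, f z = f x → z ∈ B := by
      intro z hz
      exact hmove x z hz.symm y hy (fun e => hyx (by rw [e])) (fun e => hyx (by rw [← e, hz])) hx
    have hfy : ∀ z, f z = f y → z ∈ B := by
      intro z hz
      exact hmove y z hz.symm x hx (fun e => hyx (by rw [e])) (fun e => hyx (by rw [← hz, e])) hy
    rw [Set.eq_univ_iff_forall]
    intro z
    by_cases hzx : f z = f x
    · exact hfx z hzx
    obtain ⟨g, hg, h1, h2'⟩ := h.hB (f x) (f y) (f z) hyx hzx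
    have h3 : ∀ v ∈ B, g v ∈ B := key g hg x hx (hfx _ (h1 x rfl))
    have h4 : g y ∈ B := h3 y hy
    have h5 : f (g y) = f z := h2' y rfl
    exact hmove (g y) z h5 x hx (fun e => hzx (by rw [← h5, e])) (fun e => hzx (by rw [e])) h4
  · left
    push Not at hcase
    obtain ⟨y, hy, hyx⟩ := hns
    ext z
    refine ⟨fun hz => hcase z hz, fun hz => ?_⟩
    by_cases hzx : z = x
    · rw [hzx]; exact hx
    · exact hmove y z ((hcase y hy).trans hz.symm) x hx hyx hzx hy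

theorem Enough.pretransitive (h : Enough f G) (h2 : ∀ i, ∃ x y : Ω, x ≠ y ∧ f x = i ∧ f y = i)
    (hb : 2 ≤ b) : IsPretransitive G Ω := by
  have key : ∀ x y : Ω, f x = f y → ∃ g ∈ G, g x = y := by
    intro x y hxy
    obtain ⟨j, hj⟩ : ∃ j : Fin b, j ≠ f x := by
      by_cases h0 : f x = ⟨0, by omega⟩
      · exact ⟨⟨1, by omega⟩, by rw [h0]; simp⟩
      · exact ⟨⟨0, by omega⟩, fun e => h0 e.symm⟩
    obtain ⟨z, -, -, hz, -⟩ := h2 j
    obtain ⟨g, hg, -, h3⟩ := h.hA z x y hxy (fun e => hj (by rw [← hz, e]))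
      (fun e => hj (by rw [← hz, hxy, e]))
    exact ⟨g, hg, h3⟩
  refine ⟨fun x y => ?_⟩
  obtain ⟨g, hg, -, h3⟩ := h.hC (f x) (f y)
  obtain ⟨g', hg', h4⟩ := key (g x) y (h3 x rfl)
  exact ⟨⟨g' * g, G.mul_mem hg' hg⟩, h4⟩

theorem Enough.le_or_prim (h : Enough f G) (h2 : ∀ i, ∃ x y : Ω, x ≠ y ∧ f x = i ∧ f y = i)
    (hb : 2 ≤ b) : G ≤ W f ∨ IsPreprimitive G Ω := by
  by_cases hcase : ∃ B : Set Ω, IsBlock G B ∧ ¬ B.Subsingleton ∧ B ≠ Set.univ
  · left
    obtain ⟨B, hB, hns, hnu⟩ := hcase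
    rw [Set.not_subsingleton_iff] at hns
    obtain ⟨x, hx, y, hy, hxy⟩ := hns
    have hBf : B = {z | f z = f x} :=
      (h.block h2 hB hx ⟨y, hy, hxy.symm⟩).resolve_right hnu
    -- every fibre is a translate of `B`
    have htr : ∀ i : Fin b, ∃ g : G, g • B = {z | f z = i} := by
      intro i
      obtain ⟨g, hg, hgW, h3⟩ := h.hC (f x) i
      refine ⟨⟨g, hg⟩, ?_⟩
      ext z
      rw [Set.mem_smul_set_iff_inv_smul_mem, hBf]
      change f (g⁻¹ z) = f x ↔ f z = i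
      rw [hgW (g⁻¹ z) x, h3 x rfl]
      simp
    have key : ∀ k ∈ G, ∀ u v : Ω, f u = f v → f (k u) = f (k v) := by
      intro k hk u v huv
      obtain ⟨g₁, hg₁⟩ := htr (f u)
      obtain ⟨g₂, hg₂⟩ := htr (f (k u))
      have h3 : ((⟨k, hk⟩ : G) * g₁) • B = g₂ • B := by
        by_contra hne
        have h4 := hB (g₁ := (⟨k, hk⟩ : G) * g₁) (g₂ := g₂) hne
        have h6 : k u ∈ ((⟨k, hk⟩ : G) * g₁) • B := by
          rw [mul_smul, hg₁]
          exact Set.smul_mem_smul_set (a := (⟨k, hk⟩ : G)) (by rfl)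
        have h7 : k u ∈ g₂ • B := by
          rw [hg₂]; rfl
        exact Set.disjoint_left.1 h4 h6 h7
      have h5 : k v ∈ ((⟨k, hk⟩ : G) * g₁) • B := by
        rw [mul_smul, hg₁]
        exact Set.smul_mem_smul_set (a := (⟨k, hk⟩ : G)) huv.symm
      rw [h3, hg₂] at h5
      exact h5.symm
    intro k hk x y
    refine ⟨key k hk x y, fun h3 => ?_⟩
    have := key k⁻¹ (G.inv_mem hk) _ _ h3
    simpa using this
  · right
    push Not at hcase
    haveI := h.pretransitive h2 hb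
    refine ⟨fun {B} hB => ?_⟩
    by_cases hs : B.Subsingleton
    · exact Or.inl hs
    · exact Or.inr (hcase B hB (Set.not_subsingleton_iff.1 hs))

omit [Finite Ω] in
/-- permuting the blocks -/
theorem exists_blockPerm (σ : Equiv.Perm (Fin b))
    (e : ∀ i, Nonempty ({x : Ω // f x = i} ≃ {x : Ω // f x = σ i})) :
    ∃ g : Equiv.Perm Ω, ∀ x, f (g x) = σ (f x) := by
  have e' := fun i => (e i).some
  refine ⟨(Equiv.sigmaFiberEquiv f).symm.trans ((Equiv.sigmaCongr σ e').trans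
    (Equiv.sigmaFiberEquiv f)), fun x => ?_⟩
  have h1 := (e' (f x) ⟨x, rfl⟩).2
  exact h1

theorem exists_blockPerm' {a : ℕ} (hf : ∀ i : Fin b, Nat.card {x : Ω // f x = i} = a)
    (σ : Equiv.Perm (Fin b)) : ∃ g : Equiv.Perm Ω, ∀ x, f (g x) = σ (f x) :=
  exists_blockPerm σ (fun i => Finite.card_eq.1 (by rw [hf, hf]))

omit [Finite Ω] in
theorem mem_W_of_block {σ : Equiv.Perm (Fin b)} {g : Equiv.Perm Ω}
    (h : ∀ x, f (g x) = σ (f x)) : g ∈ W f := fun x y => by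
  rw [h, h, σ.injective.eq_iff]

theorem exists_pair {a : ℕ} (ha : 2 ≤ a) (hf : ∀ i : Fin b, Nat.card {x : Ω // f x = i} = a)
    (i : Fin b) : ∃ x y : Ω, x ≠ y ∧ f x = i ∧ f y = i := by
  have h1 : 1 < Nat.card {x : Ω // f x = i} := by rw [hf]; omega
  obtain ⟨⟨x, hx⟩, ⟨y, hy⟩, hxy⟩ := (Finite.one_lt_card_iff_nontrivial.1 h1).exists_pair_ne
  exact ⟨x, y, fun e => hxy (Subtype.ext e), hx, hy⟩

omit [Finite Ω] in
theorem swap_mem_W [DecidableEq Ω] {x y : Ω} (h : f x = f y) : Equiv.swap x y ∈ W f := by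
  have key : ∀ u, f (Equiv.swap x y u) = f u := by
    intro u
    by_cases h1 : u = x
    · rw [h1, Equiv.swap_apply_left, h]
    by_cases h2 : u = y
    · rw [h2, Equiv.swap_apply_right, h]
    · rw [Equiv.swap_apply_of_ne_of_ne h1 h2]
  intro u v
  rw [key, key]

theorem enough_of_W_le {a : ℕ} (hf : ∀ i : Fin b, Nat.card {x : Ω // f x = i} = a)
    (hG : W f ≤ G) : Enough f G := by
  classical
  refine ⟨?_, ?_, ?_⟩
  · intro x y y' hyy hyx hy'x
    exact ⟨Equiv.swap y y', hG (swap_mem_W hyy), Equiv.swap_apply_of_ne_of_ne hyx.symm hy'x.symm,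
      Equiv.swap_apply_left _ _⟩
  · intro k i j hik hjk
    obtain ⟨g, hg⟩ := exists_blockPerm' hf (Equiv.swap i j)
    refine ⟨g, hG (mem_W_of_block hg), fun x hx => ?_, fun x hx => ?_⟩
    · rw [hg, hx, Equiv.swap_apply_of_ne_of_ne hik.symm hjk.symm]
    · rw [hg, hx, Equiv.swap_apply_left]
  · intro i j
    obtain ⟨g, hg⟩ := exists_blockPerm' hf (Equiv.swap i j)
    refine ⟨g, hG (mem_W_of_block hg), mem_W_of_block hg, fun x hx => ?_⟩
    rw [hg, hx, Equiv.swap_apply_left]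

/-- the stabilizer of a uniform partition is maximal in the symmetric group -/
theorem isCoatom_W {a : ℕ} (ha : 2 ≤ a) (hb : 2 ≤ b)
    (hf : ∀ i : Fin b, Nat.card {x : Ω // f x = i} = a) : IsCoatom (W f) := by
  classical
  have h2 := exists_pair ha hf
  obtain ⟨x, y, hxy, hx, hy⟩ := h2 ⟨0, by omega⟩
  obtain ⟨z, -, -, hz, -⟩ := h2 ⟨1, by omega⟩
  have hyz : f y ≠ f z := by rw [hy, hz]; simp
  constructor
  · intro htop
    have h1 : Equiv.swap y z ∈ W f := htop ▸ Subgroup.mem_top _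
    have h3 := (h1 x y).1 (hx.trans hy.symm)
    rw [Equiv.swap_apply_left, Equiv.swap_apply_of_ne_of_ne hxy
      (fun e => hyz (by rw [hy, ← hx, e]))] at h3
    exact hyz (by rw [hy, ← hx, h3])
  · intro G hG
    rcases (enough_of_W_le hf hG.le).le_or_prim h2 hb with h3 | h3
    · exact absurd h3 (not_le_of_gt hG)
    · exact Equiv.Perm.subgroup_eq_top_of_isPreprimitive_of_isSwap_mem h3 (Equiv.swap x y)
        ⟨x, y, hxy, rfl⟩ (hG.le (swap_mem_W (hx.trans hy.symm)))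

end Cfsg.Agent.H14.Imp
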