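import Cfsg.Agent.H14.OTool

set_option autoImplicit false

/-! Basic vocabulary for BG 12.15 - 14.2. -/

namespace Cfsg.Agent.H14.O

open Subgroup
open Cfsg.Agent.L (cj nz SylIn)
open Cfsg.Agent.H14 (IsPiSub)
open Cfsg.Agent.OOT
open Cfsg.Agent.H21
open scoped commutatorElement

universe u

variable {G : Type u} [Group G]

def sc (M : Subgroup G) : Set ℕ := {q | q.Prime ∧ q ∉ sigma M}
def bc (M : Subgroup G) : Set ℕ := {q | q.Prime ∧ q ∉ beta M}
/-- `M_β` -/
abbrev Mb (M : Subgroup G) : Subgroup G := piCoreOf (beta M) M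
/-- `L` is not a conjugate of `M` -/
def NC (M L : Subgroup G) : Prop := ∀ g : G, cj g M ≠ L
/-- `M` is the only maximal subgroup containing `C` -/
def Only (C M : Subgroup G) : Prop := C ≤ M ∧ ∀ L : Subgroup G, IsCoatom L → C ≤ L → L = M

theorem NC.symm {M D : Subgroup G} (h : NC M D) : NC D M := fun g hg =>
  h g⁻¹ (by rw [← hg, L.cj_inv_cj])

theorem NC.ne {M D : Subgroup G} (h : NC M D) : M ≠ D := fun e => h 1 (by rw [L.cj_one, e])

theorem NC.cj_left {M D : Subgroup G} (h : NC M D) (g : G) : NC (cj g M) D := fun x hx =>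
  h (x * g) (by rw [← L.cj_cj, hx])

theorem NC.cj_right {M D : Subgroup G} (h : NC M D) (g : G) : NC M (cj g D) :=
  (h.symm.cj_left g).symm

theorem Only.mono {C D M : Subgroup G} [Finite G] (h : Only C M) (hCD : C ≤ D) (hD : D ≠ ⊤) :
    Only D M := by
  obtain ⟨X, hX, hDX⟩ := exists_coatom_ge hD
  have := h.2 X hX (hCD.trans hDX)
  exact ⟨this ▸ hDX, fun L' hL' h' => h.2 L' hL' (hCD.trans h')⟩

theorem Only.cj {C M : Subgroup G} (h : Only C M) (g : G) : Only (cj g C) (cj g M) := by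
  refine ⟨L.cj_mono h.1, fun L' hL' h' => ?_⟩
  have := h.2 (L.cj g⁻¹ L') (coatom_cj hL' _) (by
    rw [← L.cj_inv_cj g C]; exact L.cj_mono h')
  rw [← this, L.cj_cj_inv]

theorem Only.of_uniq {C M : Subgroup G} (h : InUniqueMaximal C) (hM : IsCoatom M) (hC : C ≤ M) :
    Only C M := ⟨hC, fun _ hL hCL => uniq_eq h hM hC hL hCL⟩

section Coprime
variable [Finite G] {A K : Subgroup G} (hAK : A ≤ nz K) (hcop : (Nat.card A).Coprime (Nat.card K))
  (hs : Group.IsSolvable K) {p : ℕ} [hp : Fact p.Prime]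
include hAK hcop hs

theorem inv_syl {U : Subgroup G} (hU : U ≤ K) (hUp : IsPGroup p U) (hAU : A ≤ nz U) :
    ∃ P, SylIn p P K ∧ A ≤ nz P ∧ U ≤ P := by
  obtain ⟨P, h1, h2⟩ := H1.exists_invariant_sylow_ge A K hAK hcop (Or.inr hs) p U hU hUp hAU
  exact ⟨_, L.sylIn_of_sylow P, h2, h1⟩

theorem inv_syl' (p : ℕ) [hp : Fact p.Prime] : ∃ P, SylIn p P K ∧ A ≤ nz P := by
  obtain ⟨P, h1, h2, -⟩ := inv_syl hAK hcop hs (p := p) (U := ⊥) bot_le (IsPGroup.of_bot)
    (le_of_le_of_eq le_top (Subgroup.normalizer_eq_top_iff.2 inferInstance).symm)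
  exact ⟨P, h1, h2⟩

theorem inv_syl_conj {P Q : Subgroup G} (hP : SylIn p P K) (hAP : A ≤ nz P) (hQ : SylIn p Q K)
    (hAQ : A ≤ nz Q) : ∃ c ∈ K ⊓ centralizer (A : Set G), cj c P = Q := by
  have h1 : (hP.toSylow : Subgroup K).map K.subtype = P := hP.map_toSylow
  have h2 : (hQ.toSylow : Subgroup K).map K.subtype = Q := hQ.map_toSylow
  obtain ⟨c, hc, h⟩ := H1.invariant_sylow_conj A K hAK hcop (Or.inr hs) p hP.toSylow hQ.toSylow
    (by rw [h1]; exact hAP) (by rw [h2]; exact hAQ)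
  refine ⟨c, ⟨c.2, hc⟩, ?_⟩
  rw [← h1, ← h2, ← h]
  exact (H1.map_subtype_smul c (hP.toSylow : Subgroup K)).symm

theorem inv_syl_conj_le {P U : Subgroup G} (hP : SylIn p P K) (hAP : A ≤ nz P) (hU : U ≤ K)
    (hUp : IsPGroup p U) (hAU : A ≤ nz U) : ∃ c ∈ K ⊓ centralizer (A : Set G), cj c U ≤ P := by
  obtain ⟨Q, hQ, hAQ, hUQ⟩ := inv_syl hAK hcop hs hU hUp hAU
  obtain ⟨c, hc, h⟩ := inv_syl_conj hAK hcop hs hQ hAQ hP hAP
  exact ⟨c, hc, h ▸ L.cj_mono hUQ⟩

end Coprime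

section Hall
variable [Finite G] {M H N K : Subgroup G} {π : Set ℕ}

/-- a normal Hall subgroup contains all `π`-subgroups -/
theorem le_of_hall_normal (hs : Group.IsSolvable M) (h : IsPiHallOf π N M) (hn : M ≤ nz N)
    (hH : H ≤ M) (hπ : IsPiSub π H) : H ≤ N := by
  obtain ⟨g, hg, h1⟩ := IsPiHallOf.exists_conj_le hs h hH hπ
  rw [L.cj_le_iff, L.mem_nz_iff.1 (hn (M.inv_mem hg))] at h1
  exact h1

theorem compl_iff {π π' : Set ℕ} (hππ : ∀ p, p.Prime → (p ∈ π' ↔ p ∉ π)) {E S M : Subgroup G}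
    (hS : IsPiHallOf π S M) : IsComplIn E S M ↔ IsPiHallOf π' E M := by
  constructor
  · intro h
    exact complIn_hall hππ (complIn_symm h) hS
  · intro h
    exact (IsPiHallOf.isComplIn (π := π') (π' := π) (fun p hp => by rw [hππ p hp]; tauto) h hS).1

end Hall

section
variable [Finite G]
theorem sig_norm (M : Subgroup G) : M ≤ nz (sigmaCore M) := le_normalizer_piCoreOf (sigma M) M
theorem sig_le (M : Subgroup G) : sigmaCore M ≤ M := piCoreOf_le (sigma M) M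
theorem mb_norm (M : Subgroup G) : M ≤ nz (Mb M) := le_normalizer_piCoreOf (beta M) M
theorem mb_le (M : Subgroup G) : Mb M ≤ M := piCoreOf_le (beta M) M

/-- `O_{q'}(M)`-subgroups normalizing a `q`-subgroup centralize it -/
theorem cent_of_pPrime {q : ℕ} [hq : Fact q.Prime] {M H S : Subgroup G} (hS : IsPGroup q S)
    (hSM : S ≤ M) (hH : H ≤ (pPrimeCore q M).map M.subtype) (hn : H ≤ nz S) :
    H ≤ centralizer (S : Set G) := by
  rw [← Subgroup.commutator_eq_bot_iff_le_centralizer, eq_bot_iff]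
  have h1 : ⁅H, S⁆ ≤ S := by
    rw [Subgroup.commutator_comm]; exact H1.commutator_le_left_of_le_normalizer hn
  have h2 : ⁅H, S⁆ ≤ (pPrimeCore q M).map M.subtype := by
    refine (Subgroup.commutator_mono hH le_rfl).trans
      (H1.commutator_le_left_of_le_normalizer ?_)
    exact hSM.trans (le_normalizer_map_subtype inferInstance)
  have h3 : (pPrimeCore q M).map M.subtype ⊓ S = ⊥ := by
    apply H1.inf_eq_bot_of_card_coprime
    obtain ⟨m, hm⟩ := IsPGroup.iff_card.1 hS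
    rw [hm]
    exact (((H1.pPrimeCore_coprime q M).coprime_dvd_left (card_map_dvd _ _))).pow_right m
  rw [← h3]; exact le_inf h2 h1

/-- a `q`-subgroup of `M` lies in `O_{r'}(M)` if `q` does not divide the index -/
theorem le_pPrime_of {q r : ℕ} [hq : Fact q.Prime] {M A : Subgroup G} (hA : IsPGroup q A)
    (hAM : A ≤ M) (h : ¬ q ∣ (pPrimeCore r M).index) : A ≤ (pPrimeCore r M).map M.subtype := by
  have h1 : A.subgroupOf M ≤ pPrimeCore r M := by
    apply H1.le_of_coprime_index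
    rw [card_subgroupOf hAM]
    obtain ⟨m, hm⟩ := IsPGroup.iff_card.1 hA
    rw [hm]
    exact Nat.Coprime.pow_left m ((Nat.Prime.coprime_iff_not_dvd hq.out).2 h)
  have := Subgroup.map_mono (f := M.subtype) h1
  rwa [Subgroup.map_subgroupOf_eq_of_le hAM] at this
end

section MinSimple
variable [Finite G] (hG : IsMinSimpleOddOrder G)
include hG

omit [Finite G] hG in
theorem ne_top_of_le {M H : Subgroup G} (hM : IsCoatom M) (h : H ≤ M) : H ≠ ⊤ := fun e =>
  hM.1 (top_le_iff.1 (e ▸ h))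

theorem Only.normalizer {X M : Subgroup G} (hX : X ≠ ⊥) (hXt : X ≠ ⊤)
    (h : Only (centralizer (X : Set G)) M) : Only (nz X) M :=
  h.mono (cent_le_nz X) (normalizer_ne_top hG hX hXt)

variable {M : Subgroup G} (hM : IsCoatom M)
include hM

theorem sig_hall : IsPiHallOf (sigma M) (sigmaCore M) M := sigmaCore_hall hG hM
theorem mb_hall : IsPiHallOf (beta M) (Mb M) M := betaCore_hall hG hM
theorem msol : Group.IsSolvable M := coatom_sol hG hM

theorem beta_sub_sigma : beta M ⊆ sigma M := fun _ h => alpha_subset_sigma hG hM h.1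

theorem sigma_iff {p : ℕ} : p ∈ sigma M ↔ p.Prime ∧ p ∣ Nat.card M ∧
    ∀ P : Subgroup G, SylIn p P M → normalizer (P : Set G) ≤ M := mem_sigma_iff hG

theorem compl_sig_iff {E : Subgroup G} : IsComplIn E (sigmaCore M) M ↔ IsPiHallOf (sc M) E M :=
  compl_iff (π := sigma M) (π' := sc M) (fun _ hp => ⟨fun h => h.2, fun h => ⟨hp, h⟩⟩) (sig_hall hG hM)

theorem exists_compl_ge {H : Subgroup G} (hH : H ≤ M) (hs : IsPiSub (sc M) H) :
    ∃ E, IsPiHallOf (sc M) E M ∧ H ≤ E := exists_hallOf_ge (msol hG hM) hH hs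

theorem le_sigmaCore {H : Subgroup G} (hH : H ≤ M) (hs : IsPiSub (sigma M) H) :
    H ≤ sigmaCore M :=
  le_of_hall_normal (msol hG hM) (sig_hall hG hM) (sig_norm M) hH hs

theorem le_mb {H : Subgroup G} (hH : H ≤ M) (hs : IsPiSub (beta M) H) :
    H ≤ Mb M :=
  le_of_hall_normal (msol hG hM) (mb_hall hG hM) (mb_norm M) hH hs

theorem mb_le_sig : Mb M ≤ sigmaCore M :=
  le_sigmaCore hG hM (mb_le M) (IsPiSub.mono_set (beta_sub_sigma hG hM) (IsPiHallOf.isPi (mb_hall hG hM)))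

theorem sylIn_top_of_sigma {p : ℕ} [hp : Fact p.Prime] (hpσ : p ∈ sigma M) {P : Subgroup G}
    (hP : SylIn p P M) : SylIn p P ⊤ :=
  sylow_mem_sylIn hP (((sigma_iff hG hM).1 hpσ).2.2 P hP)

theorem sigma_nz_le {p : ℕ} [hp : Fact p.Prime] (hpσ : p ∈ sigma M) {P : Subgroup G}
    (hP : SylIn p P ⊤) (hPM : P ≤ M) : nz P ≤ M :=
  ((sigma_iff hG hM).1 hpσ).2.2 P (hP.of_le hPM le_top)

/-- conjugation of `σ(M)`-elements with centralizer in `M` -/
theorem mem_of_cj_le {p : ℕ} [hp : Fact p.Prime] (hpσ : p ∈ sigma M) {X : Subgroup G}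
    (hXp : IsPGroup p X) (hXM : X ≤ M) (hC : centralizer (X : Set G) ≤ M) {g : G}
    (hg : cj g X ≤ M) : g ∈ M := by
  obtain ⟨m, hm, c, hc, rfl⟩ := sigma_group_trans hG hM hpσ hXp hXM hg
  exact M.mul_mem hm (hC hc)

theorem nz_le_of_cent {p : ℕ} [hp : Fact p.Prime] (hpσ : p ∈ sigma M) {X : Subgroup G}
    (hXp : IsPGroup p X) (hXM : X ≤ M) (hC : centralizer (X : Set G) ≤ M) : nz X ≤ M := by
  change normalizer (X : Set G) ≤ M
  rw [sigma_group_norm hG hM hpσ hXp hXM]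
  exact sup_le inf_le_left hC

/-- Sylow subgroups for `β`-primes are uniqueness subgroups -/
theorem beta_uniq {p : ℕ} [hp : Fact p.Prime] (hpβ : p ∈ beta M) {P : Subgroup G}
    (hP : SylIn p P M) : InUniqueMaximal P :=
  sylow_uniq hG hP.isPGroup (by rw [pRankLE_sylIn hP]; exact hpβ.1.2)

theorem alpha_uniq {p : ℕ} [hp : Fact p.Prime] (hpβ : p ∈ alpha M) {P : Subgroup G}
    (hP : SylIn p P M) : InUniqueMaximal P :=
  sylow_uniq hG hP.isPGroup (by rw [pRankLE_sylIn hP]; exact hpβ.2)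

theorem not_sigma_of_alpha {D : Subgroup G} (hD : IsCoatom D) (hnc : NC M D) {p : ℕ}
    (hp : p ∈ alpha D) : p ∉ sigma M := by
  intro hpσ
  haveI : Fact p.Prime := ⟨hp.1⟩
  obtain ⟨P, hP⟩ := L.exists_sylIn (p := p) M
  have hPt := sylIn_top_of_sigma hG hM hpσ hP
  obtain ⟨Q, hQ⟩ := L.exists_sylIn (p := p) D
  have hQt := sylIn_top_of_sigma hG hD (alpha_subset_sigma hG hD hp) hQ
  obtain ⟨x, -, hx⟩ := hPt.exists_conj_eq hQt
  have h1 : Q ≤ cj x M := hx ▸ L.cj_mono hP.le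
  exact hnc x (uniq_eq (alpha_uniq hG hD hp hQ) hD hQ.le (coatom_cj hM x) h1)

theorem not_sigma_of_beta {D : Subgroup G} (hD : IsCoatom D) (hnc : NC M D) {p : ℕ}
    (hp : p ∈ beta D) : p ∉ sigma M := not_sigma_of_alpha hG hM hD hnc hp.1

/-- an ideal prime in `σ(M)` is in `β(M)` -/
theorem beta_of_ideal {p : ℕ} (hp : p ∈ sigma M) (hi : IsIdealPrime p G) : p ∈ beta M := by
  haveI : Fact p.Prime := ⟨hp.1⟩
  refine ⟨⟨hp.1, ?_⟩, hi⟩
  obtain ⟨P, hP⟩ := L.exists_sylIn (p := p) M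
  have hPt := sylIn_top_of_sigma hG hM hp hP
  rw [← pRankLE_sylIn hP]
  intro h
  apply hi.2.1
  have h2 : PRankLE p 2 (⊤ : Subgroup G) := (pRankLE_sylIn hPt).1 h
  intro E hE hEp
  have := h2 (E.subgroupOf ⊤) (by
    rw [mulComm_iff] at hE ⊢
    intro a ha b hb
    exact Subtype.ext (hE a (Subgroup.mem_subgroupOf.1 ha) b (Subgroup.mem_subgroupOf.1 hb))) (by
    intro a ha
    exact Subtype.ext (hEp a (Subgroup.mem_subgroupOf.1 ha)))
  rwa [card_subgroupOf le_top] at this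

end MinSimple

end Cfsg.Agent.H14.O
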