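import Cfsg.Agent.H14.OFour
import Cfsg.Agent.H1.BG6

set_option autoImplicit false

/-! BG 13.5, 13.6 -/

namespace Cfsg.Agent.H14.O

open Subgroup
open Cfsg.Agent.L (cj nz SylIn)
open Cfsg.Agent.H14 (IsPiSub)
open Cfsg.Agent.OOT
open Cfsg.Agent.H21
open scoped commutatorElement

universe u

variable {G : Type u} [Group G] [Finite G] (hG : IsMinSimpleOddOrder G)

section Conj
variable {M : Subgroup G} {p : ℕ}

theorem alpha_cj_le (g : G) (h : p ∈ alpha M) : p ∈ alpha (cj g M) := by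
  haveI : Fact p.Prime := ⟨h.1⟩
  refine ⟨h.1, fun h' => h.2 ?_⟩
  have := pRankLE_cj g⁻¹ h'
  rwa [L.cj_inv_cj] at this

theorem beta_cj_le (g : G) (h : p ∈ beta M) : p ∈ beta (cj g M) := ⟨alpha_cj_le g h.1, h.2⟩

include hG

theorem tau1_cj_le (g : G) (h : p ∈ tau1 M) : p ∈ tau1 (cj g M) := by
  haveI : Fact p.Prime := ⟨h.1⟩
  refine ⟨h.1, fun h' => h.2.1 ((sigma_cj hG g).1 h'), by rw [L.card_cj]; exact h.2.2.1, ?_,
    pRankLE_cj g h.2.2.2.2⟩
  rw [← L.cj_commutator, L.card_cj]; exact h.2.2.2.1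

theorem tau3_cj_le (g : G) (h : p ∈ tau3 M) : p ∈ tau3 (cj g M) := by
  haveI : Fact p.Prime := ⟨h.1⟩
  refine ⟨h.1, fun h' => h.2.1 ((sigma_cj hG g).1 h'), ?_, pRankLE_cj g h.2.2.2⟩
  rw [← L.cj_commutator, L.card_cj]; exact h.2.2.1

theorem tau2_cj_le (g : G) (h : p ∈ tau2 M) : p ∈ tau2 (cj g M) := by
  haveI : Fact p.Prime := ⟨h.1⟩
  refine ⟨h.1, fun h' => h.2.1 ((sigma_cj hG g).1 h'), pRankLE_cj g h.2.2.1, fun h' => h.2.2.2 ?_⟩
  have := pRankLE_cj g⁻¹ h'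
  rwa [L.cj_inv_cj] at this

end Conj

theorem cj_sigmaCore (g : G) (M : Subgroup G) (hG : IsMinSimpleOddOrder G) :
    cj g (sigmaCore M) = sigmaCore (cj g M) := by
  have h1 : sigma (cj g M) = sigma M := Set.ext fun p => sigma_cj hG g
  have := cj_piCoreOf (sigma M) M g
  have h2 : sigmaCore (cj g M) = piCoreOf (sigma (cj g M)) (cj g M) := rfl
  rw [h2, h1, ← this]; rfl

theorem cj_mb (g : G) (M : Subgroup G) : cj g (Mb M) = Mb (cj g M) := by
  have h1 : beta (cj g M) = beta M := by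
    ext p
    refine ⟨fun h => ?_, beta_cj_le g⟩
    have := beta_cj_le g⁻¹ h
    rwa [L.cj_inv_cj] at this
  have := cj_piCoreOf (beta M) M g
  change cj g (piCoreOf (beta M) M) = piCoreOf (beta (cj g M)) (cj g M)
  rw [h1, ← this]

include hG

/-- a `τ₁(M)`-subgroup of `M` is cyclic -/
theorem tau1_cyclic {M E₁ : Subgroup G} (hM : IsCoatom M) (hE₁M : E₁ ≤ M)
    (hE₁ : IsPiSub (tau1 M) E₁) : IsCyclic E₁ := by
  obtain ⟨E, hE, h1⟩ := exists_compl_ge hG hM hE₁M (fun r hr hd => ⟨hr, (hE₁ r hr hd).2.1⟩)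
  obtain ⟨F, hF, hE₁F⟩ := exists_hallOf_ge (π := tau1 M) (sol hG (ne_top_of_le hM hE.1)) h1 hE₁
  exact cyclic_of_le hE₁F
    ((Cfsg.Agent.S1415.result hG M hM E ((compl_sig_iff hG hM).2 hE)).2.1 F hF)

omit hG in
theorem cent_self_of_cyclic {A B : Subgroup G} (hB : IsCyclic B) (h : A ≤ B) :
    B ≤ centralizer (A : Set G) := by
  intro x hx
  exact Subgroup.mem_centralizer_iff.2 fun y hy => comm_of_cyclic hB y (h hy) x hx

/-- BG 13.5 : `τ₁`-subgroups act in a prime manner on `M_σ` -/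
theorem bg135 {M P₀ E₁ : Subgroup G} (hM : IsCoatom M) (hE₁M : E₁ ≤ M)
    (hE₁ : IsPiSub (tau1 M) E₁) {p : ℕ} [hp : Fact p.Prime] (hP₀ : P₀ ≤ E₁)
    (hP₀c : Nat.card P₀ = p) :
    sigmaCore M ⊓ centralizer (P₀ : Set G) ≤ centralizer (E₁ : Set G) := by
  have hc := tau1_cyclic hG hM hE₁M hE₁
  have hpτ : p ∈ tau1 M := hE₁ p hp.out (by rw [← hP₀c]; exact Subgroup.card_dvd_of_le hP₀)
  rw [le_cent_comm]
  apply le_of_sylow_le
  intro r hr' hrd
  have hr : Fact r.Prime := ⟨hr'⟩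
  obtain ⟨R, hR⟩ := L.exists_sylIn (p := r) E₁
  refine ⟨R, hR, ?_⟩
  rw [le_cent_comm]
  have hR1 : R ≠ ⊥ := by
    rintro rfl
    have := hR.not_dvd
    rw [Subgroup.relIndex_bot_left] at this
    exact this hrd
  have hrτ := hE₁ r hr' hrd
  obtain ⟨R₀, hR₀, hR₀c⟩ := exists_order_p hG hR.isPGroup hR1
  have hR₀M : R₀ ≤ M := (hR₀.trans hR.le).trans hE₁M
  have h1 := bg134 hG hM hpτ (hP₀.trans hE₁M) hP₀c hrτ.2.1 hR₀M hR₀c
    ((hR₀.trans hR.le).trans (cent_self_of_cyclic hc hP₀))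
  have h2 := bg133a hG hM hrτ.2.1 hrτ.2.2.2.2 (hR.le.trans hE₁M) hR.isPGroup hR₀
    (ne_bot_of_card hR₀c)
  exact (le_inf inf_le_left h1).trans h2

omit hG in
/-- a Sylow subgroup of a Hall subgroup -/
theorem syl_hall {π : Set ℕ} {H M S : Subgroup G} (h : IsPiHallOf π H M) {p : ℕ}
    [hp : Fact p.Prime] (hpπ : p ∈ π) (hS : SylIn p S H) : SylIn p S M := by
  rw [sylIn_iff_hallOf] at hS ⊢
  exact IsPiHallOf.trans (Set.singleton_subset_iff.2 hpπ) hS h

omit hG in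
theorem cent_cj_le {A B : Subgroup G} {c : G} (hc : c ∈ centralizer (A : Set G))
    (hB : B ≤ centralizer (A : Set G)) : cj c B ≤ centralizer (A : Set G) := by
  rw [← L.cj_eq_self_of_mem hc]; exact L.cj_mono hB

/-- `M_σ` has a normal complement to its Sylow `q`-subgroup, `q ∉ β(M)` -/
theorem syl_not_le_derived {M S : Subgroup G} (hM : IsCoatom M) {q : ℕ} [hq : Fact q.Prime]
    (hqσ : q ∈ sigma M) (hqβ : q ∉ beta M) (hS : SylIn q S M) :
    ¬ S ≤ ⁅sigmaCore M, sigmaCore M⁆ := by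
  intro h
  have hSσ := sigma_sylow_le hG hM hqσ hS
  have hS' : SylIn q S (sigmaCore M) := hS.of_le hSσ (sig_le M)
  have hqM : q ∣ Nat.card M := hqσ.2.1
  obtain ⟨N, hN, hNq, k, hk⟩ := H2.hasNormalPComplement_iff.1
    (H2.HasNormalPComplement.of_le (beta_struct hG hM hqM hqβ).1 (sigmaCore_le_derived hG hM))
  obtain ⟨N', hN'⟩ : ∃ N' : Subgroup G, N' = N.map (sigmaCore M).subtype := ⟨_, rfl⟩
  have hN'le : N' ≤ sigmaCore M := hN' ▸ Subgroup.map_subtype_le N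
  have hN'n : sigmaCore M ≤ nz N' := hN' ▸ le_normalizer_map_subtype hN
  have hcard' : Nat.card N' = Nat.card N := by
    rw [hN']; exact Nat.card_congr (N.equivMapOfInjective _ (sigmaCore M).subtype_injective).toEquiv.symm
  have hN'q : ¬ q ∣ Nat.card N' := hcard' ▸ hNq
  have hcop : (Nat.card N').Coprime (Nat.card S) := (coprime_of_pgroup hS.isPGroup hN'q).symm
  have hinf : N' ⊓ S = ⊥ := H1.inf_eq_bot_of_card_coprime hcop
  have hsup : N' ⊔ S = sigmaCore M := by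
    apply L.eq_of_le_of_card_le (sup_le hN'le hSσ)
    rw [H1.card_sup_of_coprime (hSσ.trans hN'n) hcop, hcard']
    have h1 := Subgroup.card_mul_index N
    have h2 := L.card_mul_relIndex hSσ
    have h3 : N.index ∣ Nat.card S := by
      have h4 : N.index ∣ Nat.card S * S.relIndex (sigmaCore M) := by
        rw [h2, ← h1]; exact Dvd.intro_left _ rfl
      refine Nat.Coprime.dvd_of_dvd_mul_right ?_ h4
      rw [hk]
      exact Nat.Coprime.pow_left k ((Nat.Prime.coprime_iff_not_dvd hq.out).2 hS'.not_dvd)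
    rw [← h1]
    exact Nat.mul_le_mul_left _ (Nat.le_of_dvd Nat.card_pos h3)
  have hc : IsComplIn N' S (sigmaCore M) :=
    complIn_of_sup (hSσ.trans hN'n) hinf hsup
  have h5 := inf_derived_le hc hN'n
  have h6 : S ≤ ⁅S, S⁆ := (le_inf le_rfl h).trans h5
  have h7 : S = ⊥ := H1.eq_bot_of_commutator_eq_self hS.isPGroup.isNilpotent le_rfl h6
  have h8 := hS.not_dvd
  rw [h7, Subgroup.relIndex_bot_left] at h8
  exact h8 hqM

end Cfsg.Agent.H14.O
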