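import Cfsg.Agent.H14.OThirt

set_option autoImplicit false

/-! BG 13.4 -/

namespace Cfsg.Agent.H14.O

open Subgroup
open Cfsg.Agent.L (cj nz SylIn)
open Cfsg.Agent.H14 (IsPiSub)
open Cfsg.Agent.OOT
open Cfsg.Agent.H21
open scoped commutatorElement

universe u

section General
variable {G : Type u} [Group G] [Finite G]

/-- `b ∈ N`, `T` a complement of the normal subgroup `N`; elements of `T ∩ bTb⁻¹` commute
with `b` -/
theorem compl_conj_cent {M N T R : Subgroup G} (hc : IsComplIn N T M) (hn : M ≤ nz N) {b : G}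
    (hb : b ∈ N) (hRT : R ≤ T) (hRb : R ≤ cj b T) : b ∈ centralizer (R : Set G) := by
  refine Subgroup.mem_centralizer_iff.2 fun x hx => ?_
  have h1 : b⁻¹ * x * b ∈ T := L.mem_cj.1 (hRb hx)
  have hxT := hRT hx
  have h2 : x⁻¹ * (b⁻¹ * x * b) ∈ N ⊓ T := by
    refine ⟨?_, T.mul_mem (T.inv_mem hxT) h1⟩
    have h3 : x⁻¹ * b⁻¹ * x⁻¹⁻¹ ∈ N :=
      (Subgroup.mem_normalizer_iff.1 (hn (hc.2.1 (T.inv_mem hxT))) b⁻¹).1 (N.inv_mem hb)
    have := N.mul_mem h3 hb
    simpa [mul_assoc] using this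
  rw [hc.2.2.1, Subgroup.mem_bot, inv_mul_eq_one] at h2
  -- x = b⁻¹ x b
  have h4 : b * x = b * (b⁻¹ * x * b) := congrArg (b * ·) h2
  rw [h4]; group

theorem card_sup_of_order_p {p : ℕ} [hp : Fact p.Prime] {P : Subgroup G} (hP : Nat.card P = p)
    {y : G} (hy : y ∉ P) (hyp : y ^ p = 1) (hyP : y ∈ centralizer (P : Set G)) :
    Nat.card (P ⊔ zpowers y : Subgroup G) = p ^ 2 := by
  have hy1 : y ≠ 1 := fun h => hy (h ▸ P.one_mem)
  have hcy := card_zpowers_eq_prime hyp hy1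
  have hn : zpowers y ≤ nz P := (Subgroup.zpowers_le.2 hyP).trans (cent_le_nz P)
  have h1 := H1.card_sup_mul_card_inf_of_le_normalizer hn
  have h2 : P ⊓ zpowers y = ⊥ := by
    rcases (Nat.dvd_prime hp.out).1 (hcy ▸ Subgroup.card_dvd_of_le
      (inf_le_right : P ⊓ zpowers y ≤ zpowers y)) with h | h
    · exact Subgroup.card_eq_one.1 h
    · have := L.eq_of_le_of_card_le (inf_le_right : P ⊓ zpowers y ≤ zpowers y) (by rw [h, hcy])
      exact absurd (this.symm.le (Subgroup.mem_zpowers y)).1 hy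
  rw [h2, Subgroup.card_bot, mul_one, hP, hcy] at h1
  rw [h1, sq]

theorem isPGroup_of_card {p : ℕ} {P : Subgroup G} (h : Nat.card P = p) : IsPGroup p P :=
  IsPGroup.of_card (n := 1) (by rw [h, pow_one])

theorem ne_bot_of_card {p : ℕ} [hp : Fact p.Prime] {P : Subgroup G} (h : Nat.card P = p) :
    P ≠ ⊥ := by
  rintro rfl
  rw [Subgroup.card_bot] at h
  exact hp.out.ne_one h.symm

theorem isEA_of_card {p : ℕ} [hp : Fact p.Prime] {P : Subgroup G} (h : Nat.card P = p) :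
    IsElementaryAbelian p P := by
  have hc : IsCyclic P := isCyclic_of_prime_card h
  refine ⟨inferInstance, fun a ha => ?_⟩
  have : (⟨a, ha⟩ : P) ^ p = 1 := by rw [← h]; exact pow_card_eq_one'
  exact congrArg Subtype.val this

end General

variable {G : Type u} [Group G] [Finite G] (hG : IsMinSimpleOddOrder G)
include hG

/-- `M_β ∩ H` centralizes `H_σ ∩ M` -/
theorem comm_cores {M H : Subgroup G} (hM : IsCoatom M) (hH : IsCoatom H) (hnc : NC M H) :
    Mb M ⊓ H ≤ centralizer ((sigmaCore H ⊓ M : Subgroup G) : Set G) := by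
  refine le_cent_of_card_coprime ?_ ?_ ?_
  · exact nz_inf_le (inf_le_right.trans (sig_norm H)) ((inf_le_left.trans (mb_le M)).trans
      Subgroup.le_normalizer)
  · exact nz_inf_le (inf_le_right.trans (mb_norm M))
      ((inf_le_left.trans (sig_le H)).trans Subgroup.le_normalizer)
  · apply H1.coprime_of_forall_prime
    intro p hp h1 h2
    have h3 : p ∈ beta M := (IsPiHallOf.isPi (mb_hall hG hM)) p hp
      (h1.trans (Subgroup.card_dvd_of_le inf_le_left))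
    have h4 : p ∈ sigma H := (IsPiHallOf.isPi (sig_hall hG hH)) p hp
      (h2.trans (Subgroup.card_dvd_of_le inf_le_left))
    exact not_sigma_of_beta hG hH hM hnc.symm h3 h4

/-- for an ideal prime, the centralizer of a subgroup of order `p` in a Sylow subgroup has
rank at least 3 -/
theorem ideal_cent {p : ℕ} [hp : Fact p.Prime] (hi : IsIdealPrime p G) {S P : Subgroup G}
    (hS : SylIn p S ⊤) (hPS : P ≤ S) (hP : Nat.card P = p) :
    ¬ PRankLE p 2 (S ⊓ centralizer (P : Set G) : Subgroup G) := by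
  -- an element `y ∉ P` of order `p` in `C_S(P)`
  have hPab : IsMulCommutative P := (isEA_of_card hP).1
  have hPC : P ≤ centralizer (P : Set G) := by
    rw [mulComm_iff] at hPab
    intro x hx
    exact Subgroup.mem_centralizer_iff.2 fun y hy => hPab y hy x hx
  have hr : ¬ PRankLE p 2 S := by
    rw [pRankLE_sylIn hS]
    intro h
    apply hi.2.1
    intro E hE hEp
    have := h (E.subgroupOf ⊤) (by
      rw [mulComm_iff] at hE ⊢
      intro a ha b hb
      exact Subtype.ext (hE a (Subgroup.mem_subgroupOf.1 ha) b (Subgroup.mem_subgroupOf.1 hb))) (by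
      intro a ha
      exact Subtype.ext (hEp a (Subgroup.mem_subgroupOf.1 ha)))
    rwa [card_subgroupOf le_top] at this
  obtain ⟨y, hyS, hyC, hyp, hyP⟩ : ∃ y ∈ S, y ∈ centralizer (P : Set G) ∧ y ^ p = 1 ∧ y ∉ P := by
    by_cases hZ : omZ p S ≤ P
    · have hZ1 : omZ p S ≠ ⊥ := omZ_ne_bot hS.isPGroup (by
        rintro rfl
        exact ne_bot_of_card hP (le_bot_iff.1 hPS))
      have hZP : omZ p S = P := by
        apply L.eq_of_le_of_card_le hZ
        rcases (Nat.dvd_prime hp.out).1 (hP ▸ Subgroup.card_dvd_of_le hZ) with h | h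
        · exact absurd (Subgroup.card_eq_one.1 h) hZ1
        · rw [h, hP]
      obtain ⟨E, hES, hE, hEc⟩ := exists_ea_of_not_pRankLE hr
      have hEP : ¬ E ≤ P := by
        intro h
        have h1 := Nat.le_of_dvd hp.out.pos (hP ▸ Subgroup.card_dvd_of_le h)
        rw [hEc] at h1
        have h2 : p ^ 1 < p ^ (2 + 1) := Nat.pow_lt_pow_right hp.out.one_lt (by norm_num)
        rw [pow_one] at h2
        omega
      obtain ⟨y, hyE, hyP⟩ := SetLike.not_le_iff_exists.1 hEP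
      refine ⟨y, hES hyE, ?_, hE.2 y hyE, hyP⟩
      rw [← hZP]
      exact (le_cent_comm.1 (omZ_le_centralizer p S)) (hES hyE)
    · obtain ⟨y, hyZ, hyP⟩ := SetLike.not_le_iff_exists.1 hZ
      have h1 := mem_omZ.1 hyZ
      exact ⟨y, h1.1.1, Subgroup.centralizer_le hPS h1.1.2, h1.2, hyP⟩
  have hA : IsElementaryAbelian p (P ⊔ zpowers y : Subgroup G) :=
    isEA_sup (isEA_of_card hP) (isEA_zpowers hyp)
      (le_cent_comm.1 (Subgroup.zpowers_le.2 hyC))
  have hAS : P ⊔ zpowers y ≤ S := sup_le hPS (Subgroup.zpowers_le.2 hyS)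
  have hcard := card_sup_of_order_p hP hyP hyp hyC
  have hSt : ∃ S' : Sylow p G, (S' : Subgroup G) = S := by
    refine ⟨Sylow.ofCard S ?_, rfl⟩
    obtain ⟨S'⟩ : Nonempty (Sylow p G) := inferInstance
    have h1 : Nat.card S = Nat.card (S' : Subgroup G) := by
      obtain ⟨x, -, hx⟩ := hS.exists_conj_eq (L.sylIn_top S')
      rw [← hx, L.card_cj]
    rw [h1]
    exact S'.card_eq_multiplicity
  obtain ⟨S', hS'⟩ := hSt
  obtain ⟨B, hBS, hB, hAB⟩ := hi.2.2 S' _ (hS' ▸ hAS) hA hcard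
  rw [hS'] at hBS
  have hBP : P ≤ B := le_sup_left.trans hAB.le
  have hBC : B ≤ centralizer (P : Set G) := by
    have := hB.1
    rw [mulComm_iff] at this
    intro x hx
    exact Subgroup.mem_centralizer_iff.2 fun z hz => this z (hBP hz) x hx
  refine not_pRankLE_of_ea (le_inf hBS hBC) hB ?_
  have h1 := L.card_lt_of_lt hAB
  rw [hcard] at h1
  obtain ⟨m, hm⟩ := IsPGroup.iff_card.1 (isEA_isPGroup hB)
  rw [hm] at h1 ⊢
  exact Nat.pow_le_pow_right hp.out.pos ((Nat.pow_lt_pow_iff_right hp.out.one_lt).1 h1)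

/-- the configuration obtained from a failure of BG 13.4 -/
structure Fail (M P R : Subgroup G) (p r : ℕ) (H Q : Subgroup G) (q : ℕ) : Prop where
  coatom : IsCoatom H
  nz_le : nz P ≤ H
  nc : NC M H
  pβ : p ∈ beta H
  rτH : r ∈ tau1 H
  rτM : r ∈ tau1 M
  hq : q.Prime
  qM : q ∈ sigma M
  qH : q ∈ sigma H
  Qq : IsPGroup q Q
  Q1 : Q ≠ ⊥
  QC : Q ≤ sigmaCore M ⊓ centralizer (P : Set G)
  QR : ⁅Q, R⁆ = Q
  nQ : nz Q ≤ H
  RQ : R ≤ nz Q

theorem exists_fail {M P R : Subgroup G} (hM : IsCoatom M) {p r : ℕ} [hp : Fact p.Prime]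
    [hr : Fact r.Prime] (hpτ : p ∈ tau1 M) (hPM : P ≤ M) (hPc : Nat.card P = p)
    (hrσ : r ∉ sigma M) (hRM : R ≤ M) (hRc : Nat.card R = r) (hRP : R ≤ centralizer (P : Set G))
    (hrp : r ≠ p)
    (hfail : ¬ sigmaCore M ⊓ centralizer (P : Set G) ≤ centralizer (R : Set G)) :
    ∃ H Q q, Fail M P R p r H Q q := by
  have hPp := isPGroup_of_card hPc
  have hRr := isPGroup_of_card hRc
  have hP1 := ne_bot_of_card hPc
  have hR1 := ne_bot_of_card hRc
  have hPt : P ≠ ⊤ := ne_top_of_le hM hPM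
  have hRt : R ≠ ⊤ := ne_top_of_le hM hRM
  obtain ⟨H, hH, hNH⟩ := exists_coatom_ge (normalizer_ne_top hG hP1 hPt)
  have hRH : R ≤ H := hRP.trans ((cent_le_nz P).trans hNH)
  have hPH : P ≤ H := (L.le_nz P).trans hNH
  have hCH : centralizer (P : Set G) ≤ H := (cent_le_nz P).trans hNH
  obtain ⟨h1, h2, hnc, h3⟩ := bg132 hG hM hH hpτ.2.1 hpτ.2.2.2.2 hPp hP1 hPM hNH
  have hKH : sigmaCore M ⊓ centralizer (P : Set G) ≤ sigmaCore M ⊓ H := inf_le_inf_left _ hCH
  have hrτH : r ∈ tau1 H := by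
    by_contra hrτ
    have h4 := h1 R (le_inf hRM hRH) (by
      intro s hs hd
      rw [hRc] at hd
      obtain rfl := (Nat.prime_dvd_prime_iff_eq hs hr.out).1 hd
      exact ⟨hrσ, hrτ⟩)
    exact hfail (hKH.trans (le_cent_comm.1 h4))
  have hne : ⁅sigmaCore M ⊓ H, M ⊓ H⁆ ≠ ⊥ := by
    intro h
    rw [Subgroup.commutator_eq_bot_iff_le_centralizer] at h
    exact hfail (hKH.trans (h.trans (Subgroup.centralizer_le (le_inf hRM hRH))))
  obtain ⟨hpσH, hpβ'⟩ := h3 hne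
  have hpβ := hpβ' hpτ
  -- the `q`-group
  obtain ⟨K, hK⟩ : ∃ K, K = sigmaCore M ⊓ centralizer (P : Set G) := ⟨_, rfl⟩
  have hKM : K ≤ sigmaCore M := hK ▸ inf_le_left
  have hKC : K ≤ centralizer (P : Set G) := hK ▸ inf_le_right
  have hKs : Group.IsSolvable K := sol hG (ne_top_of_le hM (hKM.trans (sig_le M)))
  have hKπ : IsPiSub (sigma M) K := IsPiSub.mono hKM (IsPiHallOf.isPi (sig_hall hG hM))
  have hRCP : R ≤ nz (centralizer (P : Set G)) := hRP.trans Subgroup.le_normalizer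
  have hRK : R ≤ nz K := by
    rw [hK]; exact nz_inf_le (hRM.trans (sig_norm M)) hRCP
  have hRKc : (Nat.card R).Coprime (Nat.card K) :=
    coprime_of_pgroup hRr (fun hd => hrσ (hKπ r hr.out hd))
  obtain ⟨q, hq, Q', hqd, hQ', hRQ', hnot⟩ : ∃ (q : ℕ) (_ : Fact q.Prime) (Q' : Subgroup G),
      q ∣ Nat.card K ∧ SylIn q Q' K ∧ R ≤ nz Q' ∧ ¬ R ≤ centralizer (Q' : Set G) := by
    by_contra hcon
    push Not at hcon
    apply hfail
    rw [← hK, le_cent_comm]
    exact le_cent_of_syl hG hRK hRKc hKs fun s hs S h1 h2 h3 => hcon s hs S h1 h2 h3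
  have hqσ : q ∈ sigma M := hKπ q hq.out hqd
  have hrq : r ≠ q := fun h => hrσ (h ▸ hqσ)
  have hQ'K := hQ'.le
  have hRQc : (Nat.card R).Coprime (Nat.card Q') :=
    hRKc.coprime_dvd_right (Subgroup.card_dvd_of_le hQ'K)
  have hQ's : Group.IsSolvable Q' := sol hG (ne_top_of_le hM (hQ'K.trans (hKM.trans (sig_le M))))
  obtain ⟨Q, hQdef⟩ : ∃ Q, Q = ⁅Q', R⁆ := ⟨_, rfl⟩
  have hQQ' : Q ≤ Q' := hQdef ▸ H1.commutator_le_left_of_le_normalizer hRQ'
  have hQ1 : Q ≠ ⊥ := by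
    intro h
    rw [hQdef, Subgroup.commutator_eq_bot_iff_le_centralizer] at h
    exact hnot (le_cent_comm.1 h)
  have hQR : ⁅Q, R⁆ = Q := by
    rw [hQdef]; exact H1.commutator_commutator_eq R Q' hRQ' hRQc (Or.inr hQ's)
  have hRQ : R ≤ nz Q := hQdef ▸ H1.right_le_normalizer_commutator Q' R
  have hQq : IsPGroup q Q := hQ'.isPGroup.to_le hQQ'
  have hQK : Q ≤ K := hQQ'.trans hQ'K
  have hQC : Q ≤ centralizer (P : Set G) := hQK.trans hKC
  have hQH : Q ≤ H := hQC.trans hCH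
  have hQM : Q ≤ M := hQK.trans (hKM.trans (sig_le M))
  have hqβH : q ∉ beta H := fun h => not_sigma_of_beta hG hM hH hnc h hqσ
  have hrβH : r ∉ beta H := fun h => hrτH.2.1 (beta_sub_sigma hG hH h)
  have hqp : q ≠ p := fun h => hqβH (h ▸ hpβ)
  -- the group `C = C_{H_β}(P)` and its invariant Sylow subgroup
  obtain ⟨C, hC⟩ : ∃ C, C = Mb H ⊓ centralizer (P : Set G) := ⟨_, rfl⟩
  have hCπ : IsPiSub (beta H) C := IsPiSub.mono (hC ▸ inf_le_left) (IsPiHallOf.isPi (mb_hall hG hH))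
  have hCH' : C ≤ H := hC ▸ (inf_le_left.trans (mb_le H))
  have hCs : Group.IsSolvable C := sol hG (ne_top_of_le hH hCH')
  have hPmb : P ≤ Mb H := le_mb hG hH hPH (isPiSub_of_isPGroup hpβ hPp)
  have hPab := (isEA_of_card hPc).1
  have hPCP : P ≤ centralizer (P : Set G) := by
    rw [mulComm_iff] at hPab
    intro x hx
    exact Subgroup.mem_centralizer_iff.2 fun y hy => hPab y hy x hx
  have hPC : P ≤ C := hC ▸ le_inf hPmb hPCP
  have hQRC : Q ⊔ R ≤ nz C := by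
    rw [hC]
    refine nz_inf_le (sup_le (hQH.trans (mb_norm H)) (hRH.trans (mb_norm H)))
      ((sup_le hQC hRP).trans Subgroup.le_normalizer)
  have hQRcop : (Nat.card Q).Coprime (Nat.card R) :=
    (hRQc.symm).coprime_dvd_left (Subgroup.card_dvd_of_le hQQ')
  have hcQR := H1.card_sup_of_coprime hRQ hQRcop
  have hQRC' : (Nat.card (Q ⊔ R : Subgroup G)).Coprime (Nat.card C) := by
    rw [hcQR]
    exact (coprime_of_pgroup hQq (fun hd => hqβH (hCπ q hq.out hd))).mul_left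
      (coprime_of_pgroup hRr (fun hd => hrβH (hCπ r hr.out hd)))
  have hQRP : Q ⊔ R ≤ nz P := (sup_le hQC hRP).trans (cent_le_nz P)
  obtain ⟨D, hD, hQRD, hPD⟩ := inv_syl (p := p) hQRC hQRC' hCs hPC hPp hQRP
  -- rank of `D`
  obtain ⟨S, hS, hDS⟩ := L.exists_sylIn_ge hD.isPGroup (hD.le.trans hCH')
  have hSt := sylIn_top_of_sigma hG hH hpσH hS
  have hSD : S ⊓ centralizer (P : Set G) = D := by
    have hle : D ≤ S ⊓ centralizer (P : Set G) := le_inf hDS (hD.le.trans (hC ▸ inf_le_right))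
    have h5 : S ⊓ centralizer (P : Set G) ≤ C := by
      rw [hC]
      exact inf_le_inf_right _ (le_mb hG hH hS.le (isPiSub_of_isPGroup hpβ hS.isPGroup))
    exact (hD.eq_of_le (hS.isPGroup.to_le inf_le_left) h5 hle).symm
  have hDr : ¬ PRankLE p 2 D := by
    rw [← hSD]; exact ideal_cent hG hpβ.2 hSt (hPD.trans hDS) hPc
  have hDu : InUniqueMaximal D := sylow_uniq hG hD.isPGroup hDr
  -- rank of `C_{H_α}(R)`
  have hrk : RankLE 1 ↥(alphaCore H ⊓ centralizer (R : Set G)) := by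
    by_contra hrk
    have h5 := cent_alpha_uniq hG hH hRH (by
      intro s hs hd h
      rw [hRc] at hd
      obtain rfl := (Nat.prime_dvd_prime_iff_eq hs hr.out).1 hd
      exact hrτH.2.1 (alpha_subset_sigma hG hH h)) hrk
    have h6 : nz R ≤ H := uniq_le h5 hH inf_le_left (inf_le_right.trans (cent_le_nz R))
      (normalizer_ne_top hG hR1 hRt)
    exact not_rank_one hG hH hRr hR1 h6 hrτH.2.1 hrτH.2.2.2.2
  -- `Q` centralizes `D`
  have hp2 : p ≠ 2 := prime_ne_two hG (H := P) (by rw [hPc])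
  obtain ⟨D₁, hD₁, hD₁n, hD₁p, -, -, hD₁c⟩ := exists_omega_critical hp2 hD.isPGroup
  have hD₁C : D₁ ⊓ centralizer (R : Set G) ≤ centralizer (Q : Set G) := by
    rintro x ⟨hx1, hx2⟩
    have hxP : x ∈ P := by
      by_contra hxP
      have hxC : x ∈ centralizer (P : Set G) := (hD.le.trans (hC ▸ inf_le_right)) (hD₁ hx1)
      have h5 := card_sup_of_order_p hPc hxP (hD₁p x hx1) hxC
      have hxH : x ∈ H := hCH' (hD.le (hD₁ hx1))
      have h6 : IsElementaryAbelian p (P ⊔ zpowers x : Subgroup G) :=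
        isEA_sup (isEA_of_card hPc) (isEA_zpowers (hD₁p x hx1))
          (le_cent_comm.1 (Subgroup.zpowers_le.2 hxC))
      have h7 : P ⊔ zpowers x ≤ alphaCore H :=
        le_of_hall_normal (msol hG hH) (alphaCore_hall hG hH) (le_normalizer_piCoreOf _ _)
          (sup_le hPH (Subgroup.zpowers_le.2 hxH))
          (isPiSub_of_isPGroup hpβ.1 (isEA_isPGroup h6))
      have h8 : P ⊔ zpowers x ≤ centralizer (R : Set G) :=
        sup_le (le_cent_comm.1 hRP) (Subgroup.zpowers_le.2 hx2)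
      exact not_pRankLE_of_ea (le_inf h7 h8) h6 (by rw [h5]) (hrk p hp.out)
    exact (le_cent_comm.1 hQC) hxP
  have hQp : (Nat.card Q).Coprime p := coprime_of_pgroup hQq
    (fun hd => hqp ((Nat.prime_dvd_prime_iff_eq hq.out hp.out).1 hd))
  have hRp : (Nat.card R).Coprime p := coprime_of_pgroup hRr
    (fun hd => hrp ((Nat.prime_dvd_prime_iff_eq hr.out hp.out).1 hd))
  have hQD : Q ≤ nz D := le_sup_left.trans hQRD
  have hRD : R ≤ nz D := le_sup_right.trans hQRD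
  have h9 : Q ≤ centralizer (D₁ : Set G) :=
    t3 (s := p) (odd_card hG) (sol hG (ne_top_of_le hM hQM)) (hD.isPGroup.to_le hD₁)
      (hQD.trans hD₁n) (hRD.trans hD₁n) hRQ (by rw [hRc]; exact hr.out) hQp hRp hQRcop hQR hD₁C
  have h10 : D ≤ centralizer (Q : Set G) := hD₁c Q hQD hQp (le_cent_comm.1 h9)
  have hQt : Q ≠ ⊤ := ne_top_of_le hM hQM
  have hNQ : nz Q ≤ H := uniq_le hDu hH (hD.le.trans hCH') (h10.trans (cent_le_nz Q))
    (normalizer_ne_top hG hQ1 hQt)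
  -- `q ∈ σ(H)`
  have hqσH : q ∈ sigma H := by
    by_contra h
    obtain ⟨-, -, -, h11, -⟩ := emb_e hG hM hH hnc.ne.symm hqσ hQq hQ1 hQM hNQ h
    have h12 : P ≤ sigmaCore H ⊓ M :=
      le_inf (le_sigmaCore hG hH hPH (isPiSub_of_isPGroup hpσH hPp)) hPM
    exact hP1 (le_bot_iff.1 (h11 ▸ h12))
  -- `r ∈ τ₁(M)`
  obtain ⟨-, -, hTH, -⟩ := emb_d hG hM hH hnc.ne.symm hqσ hQq hQ1 hQM hNQ hqσH
  have hqβM : q ∉ beta M := fun h => not_sigma_of_beta hG hH hM hnc.symm h hqσH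
  have hrb : r ∈ bc M := ⟨hr.out, fun h => hrσ (beta_sub_sigma hG hM h)⟩
  obtain ⟨T, hT, hQT⟩ := exists_hallOf_ge (π := bc M) (msol hG hM) hQM
    (isPiSub_of_isPGroup (⟨hq.out, hqβM⟩ : q ∈ bc M) hQq)
  have hTH' := hTH T hT hQT
  have hrM : r ∣ Nat.card M := by rw [← hRc]; exact Subgroup.card_dvd_of_le hRM
  have hrτM : r ∈ tau1 M := by
    refine ⟨hr.out, hrσ, hrM, ?_, ?_⟩
    · exact no_dvd_derived (mb_compl hG hM hT) (mb_norm M) hT hr.out hrb (fun hd =>
        hrτH.2.2.2.1 (hd.trans (Subgroup.card_dvd_of_le (Subgroup.commutator_mono hTH' hTH'))))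
    · obtain ⟨R', hR'⟩ := L.exists_sylIn (p := r) T
      have hR'M : SylIn r R' M := by
        rw [sylIn_iff_hallOf] at hR' ⊢
        exact IsPiHallOf.trans (Set.singleton_subset_iff.2 hrb) hR' hT
      exact pRankLE_of_cyclic_syl hR'M
        (sylow_cyclic hG hrτH.2.2.2.2 (hR'.le.trans hTH') hR'.isPGroup)
  exact ⟨H, Q, q, hH, hNH, hnc, hpβ, hrτH, hrτM, hq.out, hqσ, hqσH, hQq, hQ1, hK ▸ hQK, hQR,
    hNQ, hRQ⟩

/-- `Q = [Q,R]`, `N_G(Q) ≤ H`, `q ∈ σ(M) ∩ σ(H)`: then `C_{M_β}(R) ≰ C(Q)` -/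
theorem nreg {M H Q R : Subgroup G} (hM : IsCoatom M) (hH : IsCoatom H) (hnc : NC M H) {q r : ℕ}
    [hq : Fact q.Prime] (hr : r.Prime) (hqM : q ∈ sigma M) (hqH : q ∈ sigma H)
    (hQq : IsPGroup q Q) (hQ1 : Q ≠ ⊥) (hQM : Q ≤ M) (hNQ : nz Q ≤ H)
    (hRM : R ≤ M) (hRc : Nat.card R = r) (hrβ : r ∉ beta M) (hrq : r ≠ q) (hRQ : R ≤ nz Q)
    (hQR : ⁅Q, R⁆ = Q)
    (hC : Mb M ⊓ centralizer (R : Set G) ≤ centralizer (Q : Set G)) : False := by
  have hrf : Fact r.Prime := ⟨hr⟩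
  have hqβ : q ∉ beta M := fun h => not_sigma_of_beta hG hH hM hnc.symm h hqH
  have hπ := IsPiHallOf.isPi (mb_hall hG hM)
  have hQRcop : (Nat.card Q).Coprime (Nat.card R) := by
    rw [hRc]
    exact coprime_of_pgroup hQq (fun hd => hrq.symm ((Nat.prime_dvd_prime_iff_eq hq.out hr).1 hd))
  have h1 : Q ≤ centralizer ((Mb M : Subgroup G) : Set G) := by
    refine t3_solv (q := q) (odd_card hG) (sol hG (ne_top_of_le hM (mb_le M))) hQq
      (hQM.trans (mb_norm M)) (hRM.trans (mb_norm M)) hRQ (by rw [hRc]; exact hr)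
      (coprime_of_pgroup hQq (fun hd => hqβ (hπ q hq.out hd)))
      (coprime_of_pgroup (isPGroup_of_card hRc) (fun hd => hrβ (hπ r hr hd))) hQRcop hQR hC
  have h2 : Mb M ≤ H := (le_cent_comm.1 h1).trans ((cent_le_nz Q).trans hNQ)
  obtain ⟨-, -, hTH, -⟩ := emb_d hG hM hH hnc.ne.symm hqM hQq hQ1 hQM hNQ hqH
  obtain ⟨T, hT, hQT⟩ := exists_hallOf_ge (π := bc M) (msol hG hM) hQM
    (isPiSub_of_isPGroup (⟨hq.out, hqβ⟩ : q ∈ bc M) hQq)
  have h3 := hTH T hT hQT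
  have h4 : M ≤ H := by
    intro x hx
    obtain ⟨b, hb, t, ht, rfl⟩ := (mb_compl hG hM hT).2.2.2 x hx
    exact H.mul_mem (h2 hb) (h3 ht)
  exact hnc.ne ((hM.le_iff_eq hH.1).1 h4).symm

/-- BG 13.4 -/
theorem bg134 {M P R : Subgroup G} (hM : IsCoatom M) {p r : ℕ} [hp : Fact p.Prime]
    [hr : Fact r.Prime] (hpτ : p ∈ tau1 M) (hPM : P ≤ M) (hPc : Nat.card P = p)
    (hrσ : r ∉ sigma M) (hRM : R ≤ M) (hRc : Nat.card R = r) (hRP : R ≤ centralizer (P : Set G)) :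
    sigmaCore M ⊓ centralizer (P : Set G) ≤ centralizer (R : Set G) := by
  have hPp := isPGroup_of_card hPc
  have hRr := isPGroup_of_card hRc
  by_cases hrp : r = p
  · subst hrp
    -- `P = R`
    have h1 : IsPGroup r (P ⊔ R : Subgroup G) :=
      H1.isPGroup_sup_of_le_normalizer hPp hRr (hRP.trans (cent_le_nz P))
    have h2 := sylow_cyclic hG hpτ.2.2.2.2 (sup_le hPM hRM) h1
    have h3 : P = R := OOT.eq_of_card_of_cyclic h2 le_sup_left le_sup_right (by rw [hPc, hRc])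
    rw [h3]; exact inf_le_right
  by_contra hfail
  obtain ⟨H, Q, q, F⟩ := exists_fail hG hM hpτ hPM hPc hrσ hRM hRc hRP hrp hfail
  have hq : Fact q.Prime := ⟨F.hq⟩
  have hQM : Q ≤ M := F.QC.trans (inf_le_left.trans (sig_le M))
  have hrq : r ≠ q := fun h => hrσ (h ▸ F.qM)
  have hrβ : r ∉ beta M := fun h => hrσ (beta_sub_sigma hG hM h)
  have hpβ : p ∉ beta M := fun h => hpτ.2.1 (beta_sub_sigma hG hM h)
  apply nreg hG hM F.coatom F.nc hr.out F.qM F.qH F.Qq F.Q1 hQM F.nQ hRM hRc hrβ hrq F.RQ F.QR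
  have hPR : P ≤ centralizer (R : Set G) := le_cent_comm.1 hRP
  have hQH : Q ≤ H := (L.le_nz Q).trans F.nQ
  by_cases hcl : sigmaCore M ⊓ centralizer (R : Set G) ≤ centralizer (P : Set G)
  · rintro x ⟨hx1, hx2⟩
    have h1 : x ∈ centralizer (P : Set G) := hcl ⟨mb_le_sig hG hM hx1, hx2⟩
    have h2 : x ∈ H := F.nz_le (cent_le_nz P h1)
    have h3 := comm_cores hG hM F.coatom F.nc ⟨hx1, h2⟩
    exact Subgroup.centralizer_le (le_inf (le_sigmaCore hG F.coatom hQH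
      (isPiSub_of_isPGroup F.qH F.Qq)) hQM) h3
  · obtain ⟨H', Q', q', F'⟩ := exists_fail hG hM F.rτM hRM hRc hpτ.2.1 hPM hPc hPR
      (fun h => hrp h.symm) hcl
    have hq' : Fact q'.Prime := ⟨F'.hq⟩
    have hQ'M : Q' ≤ M := F'.QC.trans (inf_le_left.trans (sig_le M))
    have hb : ∀ {s : ℕ}, s.Prime → s ∉ beta M → s ∈ bc M := fun h1 h2 => ⟨h1, h2⟩
    have hqβ : q ∉ beta M := fun h => not_sigma_of_beta hG F.coatom hM F.nc.symm h F.qH
    have hqβ' : q' ∉ beta M := fun h => not_sigma_of_beta hG F'.coatom hM F'.nc.symm h F'.qH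
    have hPRb : IsPiSub (bc M) (P ⊔ R) := isPiSub_sup (hRP.trans (cent_le_nz P))
      (isPiSub_of_isPGroup (hb hp.out hpβ) hPp) (isPiSub_of_isPGroup (hb hr.out hrβ) hRr)
    have hPQ : P ≤ nz Q := (le_cent_comm.1 (F.QC.trans inf_le_right)).trans (cent_le_nz Q)
    have hRQ' : R ≤ nz Q' := (le_cent_comm.1 (F'.QC.trans inf_le_right)).trans (cent_le_nz Q')
    have hA : IsPiSub (bc M) (Q ⊔ (P ⊔ R)) := isPiSub_sup (sup_le hPQ F.RQ)
      (isPiSub_of_isPGroup (hb hq.out hqβ) F.Qq) hPRb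
    have hA' : IsPiSub (bc M) (Q' ⊔ (P ⊔ R)) := isPiSub_sup (sup_le F'.RQ hRQ')
      (isPiSub_of_isPGroup (hb hq'.out hqβ') F'.Qq) hPRb
    have hPRM : P ⊔ R ≤ M := sup_le hPM hRM
    obtain ⟨T, hT, hAT⟩ := exists_hallOf_ge (π := bc M) (msol hG hM) (sup_le hQM hPRM) hA
    obtain ⟨T', hT', hAT'⟩ := exists_hallOf_ge (π := bc M) (msol hG hM) (sup_le hQ'M hPRM) hA'
    obtain ⟨-, -, hTH', -⟩ := emb_d hG hM F'.coatom F'.nc.ne.symm F'.qM F'.Qq F'.Q1 hQ'M
      F'.nQ F'.qH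
    have hT'H' := hTH' T' hT' (le_sup_left.trans hAT')
    obtain ⟨g, hg, hgT⟩ := IsPiHallOf.conj (msol hG hM) hT hT'
    obtain ⟨b, hbm, t, ht, rfl⟩ := (mb_compl hG hM hT').2.2.2 g hg
    rw [← L.cj_cj, L.cj_eq_self_of_mem ht] at hgT
    have hbR : b ∈ centralizer (R : Set G) :=
      compl_conj_cent (mb_compl hG hM hT') (mb_norm M) hbm
        ((le_sup_right.trans le_sup_right).trans hAT')
        (hgT ▸ ((le_sup_right.trans le_sup_right).trans hAT))
    have hCR : centralizer (R : Set G) ≤ H' := (cent_le_nz R).trans F'.nz_le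
    have hTH'' : T ≤ H' := by
      rw [← hgT]
      exact (L.cj_mono hT'H').trans (L.cj_eq_self_of_mem (hCR hbR)).le
    have hQH' : Q ≤ H' := (le_sup_left.trans hAT).trans hTH''
    have hRσ : R ≤ sigmaCore H' := le_sigmaCore hG F'.coatom ((L.le_nz R).trans F'.nz_le)
      (isPiSub_of_isPGroup (beta_sub_sigma hG F'.coatom F'.pβ) hRr)
    have hQσ : Q ≤ sigmaCore H' := by
      rw [← F.QR, Subgroup.commutator_comm]
      exact (Subgroup.commutator_mono hRσ hQH').trans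
        (H1.commutator_le_left_of_le_normalizer (sig_norm H'))
    rintro x ⟨hx1, hx2⟩
    exact Subgroup.centralizer_le (le_inf hQσ hQM)
      (comm_cores hG hM F'.coatom F'.nc ⟨hx1, hCR hx2⟩)

end Cfsg.Agent.H14.O
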