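import Cfsg.Agent.H14.OTen2
import Cfsg.Agent.H20.Fpf

set_option autoImplicit false

/-! BG 14.1, 14.2 -/

namespace Cfsg.Agent.H14.O

open Subgroup
open Cfsg.Agent.L (cj nz SylIn)
open Cfsg.Agent.H14 (IsPiSub)
open Cfsg.Agent.OOT
open Cfsg.Agent.H21
open scoped commutatorElement

universe u

section General
variable {G : Type u} [Group G] [Finite G]

theorem nil_of_fpf {K : Subgroup G} {x : G} {r : ℕ} (hr : r.Prime) (hx : x ^ r = 1)
    (hn : x ∈ nz K) (hf : ∀ k ∈ K, x * k = k * x → k = 1) : Group.IsNilpotent K := by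
  refine H20.Fpf.isNilpotent_of_fpf hr (Nat.card K) K le_rfl
    (K.normalizerMonoidHom ⟨x, hn⟩) ?_ ?_
  · intro g
    have h1 : (K.normalizerMonoidHom ⟨x, hn⟩) ^ r = 1 := by
      rw [← map_pow]
      have : (⟨x, hn⟩ : normalizer (K : Set G)) ^ r = 1 := Subtype.ext hx
      rw [this, map_one]
    have h2 : ∀ (f : MulAut K) (n : ℕ) (g : K), (f ^ n) g = (f^[n]) g := by
      intro f n g
      induction n with
      | zero => rfl
      | succ n ih => rw [pow_succ', MulAut.mul_apply, ih, Function.iterate_succ_apply']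
    rw [← h2, h1]; rfl
  · intro g hg
    have h1 : x * g * x⁻¹ = g := congrArg Subtype.val hg
    exact Subtype.ext (hf g g.2 (by rw [mul_inv_eq_iff_eq_mul] at h1; exact h1))

theorem isCyclic_map_subtype {M : Subgroup G} {P : Subgroup M} (h : IsCyclic P) :
    IsCyclic (P.map M.subtype : Subgroup G) := by
  haveI := h
  exact isCyclic_of_surjective (M.subtype.subgroupMap P) (M.subtype.subgroupMap_surjective P)

theorem isCyclic_of_map_subtype {M : Subgroup G} {P : Subgroup M}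
    (h : IsCyclic (P.map M.subtype : Subgroup G)) : IsCyclic P := by
  refine isCyclic_of_injective (M.subtype.subgroupMap P) ?_
  intro a b hab
  have h5 : ((M.subtype.subgroupMap P) a : G) = (M.subtype.subgroupMap P) b :=
    congrArg Subtype.val hab
  exact Subtype.ext (M.subtype_injective h5)

theorem cent_zpowers_le {X : Subgroup G} {x : G} (hx : x ∈ X) :
    centralizer (X : Set G) ≤ centralizer ({x} : Set G) :=
  centralizer_le (Set.singleton_subset_iff.2 hx)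

end General

variable {G : Type u} [Group G] [Finite G] (hG : IsMinSimpleOddOrder G)
include hG

section kappa
variable {M : Subgroup G} (hM : IsCoatom M) {p : ℕ} [hp : Fact p.Prime]
include hM

omit hG hM in
theorem kappa_rank (h : p ∈ kappa M) : PRankLE p 1 M := by
  obtain ⟨P⟩ : Nonempty (Sylow p M) := inferInstance
  exact pRankLE_of_cyclic_syl (L.sylIn_of_sylow P) (isCyclic_map_subtype (h.2.2.2 P).1)

theorem kappa_cent (h : p ∈ kappa M) {X : Subgroup G} (hXM : X ≤ M) (hXc : Nat.card X = p) :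
    sigmaCore M ⊓ centralizer (X : Set G) ≠ ⊥ := by
  obtain ⟨P, hP, hXP⟩ := L.exists_sylIn_ge (isPGroup_of_card hXc) hXM
  obtain ⟨-, x, hx, hx1, y, hy, hy1, hxy⟩ := h.2.2.2 hP.toSylow
  have hxP : (x : G) ∈ P := by
    rw [hP.toSylow_coe] at hx; exact hx
  have h1 := bg133a hG hM h.2.2.1 (kappa_rank h) hP.le hP.isPGroup (P₀ := zpowers (x : G))
    (Subgroup.zpowers_le.2 hxP) (fun e => hx1 (Subtype.ext (Subgroup.zpowers_eq_bot.1 e)))
  rw [centralizer_zpowers] at h1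
  have h2 : y ∈ centralizer (P : Set G) :=
    h1 ⟨hy, Subgroup.mem_centralizer_singleton_iff.2 hxy.symm⟩
  intro e
  have h3 : y ∈ sigmaCore M ⊓ centralizer (X : Set G) := ⟨hy, centralizer_le hXP h2⟩
  rw [e, Subgroup.mem_bot] at h3
  exact hy1 h3

theorem kappa_of_cent (hpσ : p ∉ sigma M) (hr : PRankLE p 1 M) {X : Subgroup G} (hXM : X ≤ M)
    (hXc : Nat.card X = p) (hne : sigmaCore M ⊓ centralizer (X : Set G) ≠ ⊥) : p ∈ kappa M := by
  have hpM : p ∣ Nat.card M := by rw [← hXc]; exact Subgroup.card_dvd_of_le hXM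
  refine ⟨hp.out, hpM, hpσ, fun P => ?_⟩
  have hPs := L.sylIn_of_sylow P
  refine ⟨isCyclic_of_map_subtype (sylow_cyclic hG hr hPs.le hPs.isPGroup), ?_⟩
  obtain ⟨g, hg, hgX⟩ := hPs.exists_conj_le (isPGroup_of_card hXc) hXM
  obtain ⟨x, hxX, hx1⟩ := exists_mem_ne_one (ne_bot_of_card hXc)
  obtain ⟨y, hy, hy1⟩ := exists_mem_ne_one hne
  obtain ⟨x', hx', hx'e⟩ := hgX (L.conj_mem_cj hxX)
  have hx'e' : (x' : G) = g * x * g⁻¹ := hx'e
  have hxy : x * y = y * x := Subgroup.mem_centralizer_iff.1 hy.2 x hxX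
  refine ⟨x', hx', ?_, g * y * g⁻¹, (Subgroup.mem_normalizer_iff.1 (sig_norm M hg) y).1 hy.1,
    ?_, ?_⟩
  · rintro rfl
    apply hx1
    have : g * x * g⁻¹ = 1 := hx'e'.symm
    rwa [mul_inv_eq_one, mul_eq_left] at this
  · intro h7
    apply hy1
    rwa [mul_inv_eq_one, mul_eq_left] at h7
  · rw [hx'e']
    calc g * x * g⁻¹ * (g * y * g⁻¹) = g * (x * y) * g⁻¹ := by group
      _ = g * (y * x) * g⁻¹ := by rw [hxy]
      _ = g * y * g⁻¹ * (g * x * g⁻¹) := by group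

theorem kappa_tau (h : p ∈ kappa M) : p ∈ tau1 M ∨ p ∈ tau3 M := by
  rcases tau_cases hG hM hp.out h.2.1 h.2.2.1 with h1 | h1 | h1
  · exact Or.inl h1
  · exact absurd (kappa_rank h) h1.2.2.2
  · exact Or.inr h1

end kappa

/-- the structure of BG 14.2 -/
structure KD (M K : Subgroup G) : Prop where
  hM : IsCoatom M
  hK : IsPiHallOf (kappa M) K M
  K1 : K ≠ ⊥
  act : ∀ (x : ℕ) (X : Subgroup G), x.Prime → X ≤ K → Nat.card X = x →
    sigmaCore M ⊓ centralizer (X : Set G) ≤ centralizer (K : Set G)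
  ne : sigmaCore M ⊓ centralizer (K : Set G) ≠ ⊥
  only : ∀ (q : ℕ) (Y : Subgroup G), q.Prime → Y ≤ sigmaCore M ⊓ centralizer (K : Set G) →
    Nat.card Y = q → q ∈ sigma M ∧ Only (centralizer (Y : Set G)) M ∧
      ∀ S, SylIn q S M → InUniqueMaximal S
  uniq : ∀ (x : ℕ) (X X' : Subgroup G), x.Prime → X ≤ K → X' ≤ K → Nat.card X = x →
    Nat.card X' = x → X = X'
  nzX : ∀ (x : ℕ) (X : Subgroup G), x.Prime → X ≤ K → Nat.card X = x →
    M ⊓ nz X ≤ K ⊔ (sigmaCore M ⊓ centralizer (K : Set G))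
  nzK : M ⊓ nz K ≤ K ⊔ (sigmaCore M ⊓ centralizer (K : Set G))
  nK : ∀ (x : ℕ) (X : Subgroup G), x.Prime → X ≤ K → Nat.card X = x → K ≤ nz X
  exU : ∃ U : Subgroup G, IsMulCommutative U ∧
    IsPiHallOf {q | q.Prime ∧ q ∉ kappa M ∧ q ∉ sigma M} U M ∧ K ≤ nz U ∧
    ∀ k ∈ K, k ≠ 1 → U ⊓ centralizer ({k} : Set G) = ⊥

theorem nz_fact {M E X : Subgroup G} (hM : IsCoatom M) (hE : IsPiHallOf (sc M) E M) (hX : X ≤ E)
    {m : G} (hm : m ∈ M ⊓ nz X) :
    ∃ a ∈ E ⊓ nz X, ∃ b ∈ sigmaCore M ⊓ centralizer (X : Set G), m = a * b := by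
  have hc := (compl_sig_iff hG hM).2 hE
  obtain ⟨a, ha, b, hb, rfl⟩ := hc.2.2.2 m hm.1
  have h1 : b⁻¹ ∈ centralizer (X : Set G) := by
    refine compl_conj_cent (complIn_symm hc) (sig_norm M) ((sigmaCore M).inv_mem hb) hX ?_
    have h2 : cj a (cj b X) = X := by rw [L.cj_cj]; exact L.mem_nz_iff.1 hm.2
    have h3 : cj b X = cj a⁻¹ X := (L.cj_eq_iff.1 h2)
    have h4 : cj b X ≤ E := by
      rw [h3, ← L.cj_eq_self_of_mem (E.inv_mem ha)]
      exact L.cj_mono hX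
    exact L.cj_le_iff.1 h4
  have h5 : b ∈ centralizer (X : Set G) := by
    simpa using Subgroup.inv_mem _ h1
  refine ⟨a, ⟨ha, ?_⟩, b, ⟨hb, h5⟩, rfl⟩
  have := (nz X).mul_mem hm.2 ((nz X).inv_mem (cent_le_nz X h5))
  simpa using this

theorem exists_cauchy {H : Subgroup G} {s : ℕ} [hs : Fact s.Prime] (h : s ∣ Nat.card H) :
    ∃ X ≤ H, Nat.card X = s := by
  obtain ⟨x, hx⟩ := exists_prime_orderOf_dvd_card' s h
  refine ⟨zpowers (x : G), Subgroup.zpowers_le.2 x.2, ?_⟩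
  rw [Nat.card_zpowers, Subgroup.orderOf_coe, hx]

theorem ne_bot_mono {A B : Subgroup G} (h : A ≤ B) (hA : A ≠ ⊥) : B ≠ ⊥ := fun e =>
  hA (le_bot_iff.1 (e ▸ h))

theorem kd1 {M K : Subgroup G} (hM : IsCoatom M) (hK : IsPiHallOf (kappa M) K M) (hK1 : K ≠ ⊥)
    {r : ℕ} (hrκ : r ∈ kappa M) (hr3 : r ∈ tau3 M) : KD M K := by
  haveI hr : Fact r.Prime := ⟨hrκ.1⟩
  obtain ⟨E, hE, hKE⟩ := exists_compl_ge hG hM hK.1
    (fun s hs hd => ⟨hs, ((IsPiHallOf.isPi hK) s hs hd).2.2.1⟩)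
  obtain ⟨R, hRE, hRc⟩ := exists_cauchy hG
    (dvd_hall hE hr.out ⟨hr.out, hr3.2.1⟩ hrκ.2.1)
  obtain ⟨hτ2, hC, hX⟩ := bg1310 hG hM hE hr3 hRE hRc
    (kappa_cent hG hM hrκ (hRE.trans hE.1) hRc)
  have hKE' : K = E := by
    apply le_antisymm hKE
    apply le_of_sylow_le
    intro s hs hsd
    haveI : Fact s.Prime := ⟨hs⟩
    have hsM := hsd.trans (Subgroup.card_dvd_of_le hE.1)
    have hsσ := ((IsPiHallOf.isPi hE) s hs hsd).2
    have hr1 : PRankLE s 1 M := by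
      rcases tau_cases hG hM hs hsM hsσ with h1 | h1 | h1
      · exact h1.2.2.2.2
      · exact absurd h1 (hτ2 s)
      · exact h1.2.2.2
    obtain ⟨X, hXE, hXc⟩ := exists_cauchy hG hsd
    have hsκ := kappa_of_cent hG hM hsσ hr1 (hXE.trans hE.1) hXc
      (ne_bot_mono hG (inf_le_inf_left _ (centralizer_le hXE)) hC)
    obtain ⟨S, hS⟩ := L.exists_sylIn (p := s) K
    exact ⟨S, (syl_hall hK hsκ hS).of_le (hS.le.trans hKE) hE.1, hS.le⟩
  subst hKE'
  have hcomp := (compl_sig_iff hG hM).2 hE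
  have hKs : Group.IsSolvable K := sol hG (ne_top_of_le hM hK.1)
  refine ⟨hM, hK, hK1, fun x X hx hXK hXc => (hX x X hx hXK hXc).1, hC, ?_, ?_, ?_, ?_,
    fun x X hx hXK hXc => (hX x X hx hXK hXc).2, ?_⟩
  · intro q Y hq hY hYc
    haveI : Fact q.Prime := ⟨hq⟩
    have hqσ : q ∈ sigma M := mem_of_isPiSub_card hYc
      (IsPiSub.mono (hY.trans inf_le_left) (IsPiHallOf.isPi (sig_hall hG hM)))
    exact ⟨hqσ, s1423 hG hM hqσ ((hY.trans inf_le_left).trans (sig_le M)) hYc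
      (Or.inr (hY.trans (bg1217 hG hM hcomp).1))⟩
  · intro x X X' hx hXK hX'K hXc hX'c
    haveI : Fact x.Prime := ⟨hx⟩
    have hxκ : x ∈ kappa M := mem_of_isPiSub_card hXc (IsPiSub.mono hXK (IsPiHallOf.isPi hK))
    obtain ⟨P, hP, hX'P⟩ := L.exists_sylIn_ge (isPGroup_of_card hX'c) hX'K
    obtain ⟨g, hg, hgX⟩ := hP.exists_conj_le (isPGroup_of_card hXc) hXK
    rw [L.mem_nz_iff.1 ((hX x X hx hXK hXc).2 hg)] at hgX
    have hc := sylow_cyclic hG (kappa_rank hxκ) (hP.le.trans hK.1) hP.isPGroup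
    exact OOT.eq_of_card_of_cyclic hc hgX hX'P (by rw [hXc, hX'c])
  · intro x X hx hXK hXc m hm
    obtain ⟨a, ha, b, hb, rfl⟩ := nz_fact hG hM hE hXK hm
    exact mul_mem (Subgroup.mem_sup_left ha.1)
      (Subgroup.mem_sup_right ⟨hb.1, (hX x X hx hXK hXc).1 hb⟩)
  · intro m hm
    obtain ⟨a, ha, b, hb, rfl⟩ := nz_fact hG hM hE le_rfl hm
    exact mul_mem (Subgroup.mem_sup_left ha.1) (Subgroup.mem_sup_right hb)
  · refine ⟨⊥, inferInstance, ⟨bot_le, ?_, ?_⟩, ?_, ?_⟩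
    · intro q hq hd
      rw [Subgroup.card_bot] at hd
      exact absurd (Nat.dvd_one.1 hd) hq.one_lt.ne'
    · rintro q hq ⟨-, hqκ, hqσ⟩ hd
      rw [Subgroup.relIndex_bot_left] at hd
      exact hqκ ((IsPiHallOf.isPi hK) q hq (dvd_hall hE hq ⟨hq, hqσ⟩ hd))
    · intro g _
      rw [L.mem_nz_iff, L.cj_bot]
    · intro k _ _
      exact bot_inf_eq _

theorem kd2 {M K : Subgroup G} (hM : IsCoatom M) (hK : IsPiHallOf (kappa M) K M) (hK1 : K ≠ ⊥)
    (hκ : ∀ r ∈ kappa M, r ∈ tau1 M) : KD M K := by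
  obtain ⟨E, hE, hKE⟩ := exists_compl_ge hG hM hK.1
    (fun s hs hd => ⟨hs, ((IsPiHallOf.isPi hK) s hs hd).2.2.1⟩)
  have hEs : Group.IsSolvable E := sol hG (ne_top_of_le hM hE.1)
  have hcomp := (compl_sig_iff hG hM).2 hE
  obtain ⟨E₁, hE₁, hKE₁⟩ := exists_hallOf_ge (π := tau1 M) hEs hKE
    (fun s hs hd => hκ s ((IsPiHallOf.isPi hK) s hs hd))
  have hE₁M := hE₁.1.trans hE.1
  obtain ⟨p, hp, P, hPK, hPc⟩ := exists_prime_sub hK1
  have hpκ : p ∈ kappa M := mem_of_isPiSub_card hPc (IsPiSub.mono hPK (IsPiHallOf.isPi hK))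
  have hPne := kappa_cent hG hM hpκ (hPK.trans hK.1) hPc
  have hPE₁ := hPK.trans hKE₁
  have hne₁ : sigmaCore M ⊓ centralizer (E₁ : Set G) ≠ ⊥ :=
    ne_bot_mono hG (le_inf inf_le_left (bg135 hG hM hE₁M (IsPiHallOf.isPi hE₁) hPE₁ hPc)) hPne
  have hKE' : K = E₁ := by
    apply le_antisymm hKE₁
    apply le_of_sylow_le
    intro s hs hsd
    haveI : Fact s.Prime := ⟨hs⟩
    have hsτ := (IsPiHallOf.isPi hE₁) s hs hsd
    obtain ⟨X, hXE, hXc⟩ := exists_cauchy hG hsd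
    have hsκ := kappa_of_cent hG hM hsτ.2.1 hsτ.2.2.2.2 (hXE.trans hE₁M) hXc
      (ne_bot_mono hG (inf_le_inf_left _ (centralizer_le hXE)) hne₁)
    obtain ⟨S, hS⟩ := L.exists_sylIn (p := s) K
    exact ⟨S, (syl_hall hK hsκ hS).of_le (hS.le.trans hKE₁) hE₁M, hS.le⟩
  subst hKE'
  clear hKE₁ hPE₁
  have hKc : IsCyclic K := tau1_cyclic hG hM hE₁M (IsPiHallOf.isPi hE₁)
  have hact : ∀ (x : ℕ) (X : Subgroup G), x.Prime → X ≤ K → Nat.card X = x →
      sigmaCore M ⊓ centralizer (X : Set G) ≤ centralizer (K : Set G) := by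
    intro x X hx hXK hXc
    haveI : Fact x.Prime := ⟨hx⟩
    exact bg135 hG hM hE₁M (IsPiHallOf.isPi hE₁) hXK hXc
  have hnK : ∀ X ≤ K, K ≤ nz X := fun X hXK =>
    (cent_self_of_cyclic hKc hXK).trans (cent_le_nz X)
  -- the subgroup `U`
  have hder : ⁅E, E⁆ ≤ E := H1.commutator_le_left_of_le_normalizer Subgroup.le_normalizer
  obtain ⟨U, hU, hEU⟩ := exists_hallOf_ge (π := {q | q.Prime ∧ q ∉ tau1 M}) hEs hder
    (fun q hq hd => ⟨hq, fun h1 => h1.2.2.2.1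
      (hd.trans (Subgroup.card_dvd_of_le (commutator_mono hE.1 hE.1)))⟩)
  have hUn : E ≤ nz U := by
    intro g hg
    rw [L.mem_nz_iff]
    apply L.eq_of_le_of_card_le
    · apply L.cj_le_of_forall
      intro u hu
      have h1 : ⁅g, u⁆ ∈ U := hEU (Subgroup.commutator_mem_commutator hg (hU.1 hu))
      have h2 : g * u * g⁻¹ = ⁅g, u⁆ * u := by simp [commutatorElement_def]
      rw [h2]; exact U.mul_mem h1 hu
    · rw [L.card_cj]
  have hUM := hU.1.trans hE.1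
  have hUK : IsComplIn U K E := by
    have := (compl_iff (π := {q | q.Prime ∧ q ∉ tau1 M}) (π' := tau1 M)
      (fun q hq => ⟨fun h1 h2 => h2.2 h1, fun h1 => by
        by_contra h2; exact h1 ⟨hq, h2⟩⟩) hU).2 hE₁
    exact complIn_symm this
  -- regularity
  have hreg : ∀ (x : ℕ) (X : Subgroup G), x.Prime → X ≤ K → Nat.card X = x →
      U ⊓ centralizer (X : Set G) = ⊥ := by
    intro x X hx hXK hXc
    haveI : Fact x.Prime := ⟨hx⟩
    by_contra hne
    obtain ⟨r, hr, R, hR, hRc⟩ := exists_prime_sub hne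
    have hRU := hR.trans inf_le_left
    have hRX := hR.trans inf_le_right
    have hRM := hRU.trans hUM
    have hr1 : r ∉ tau1 M := (mem_of_isPiSub_card hRc
      (IsPiSub.mono hRU (IsPiHallOf.isPi hU)) : r ∈ {q | q.Prime ∧ q ∉ tau1 M}).2
    have hrσ : r ∉ sigma M := (mem_of_isPiSub_card hRc
      (IsPiSub.mono (hRU.trans hU.1) (IsPiHallOf.isPi hE)) : r ∈ sc M).2
    have hrM : r ∣ Nat.card M := by rw [← hRc]; exact Subgroup.card_dvd_of_le hRM
    have hxκ : x ∈ kappa M := mem_of_isPiSub_card hXc (IsPiSub.mono hXK (IsPiHallOf.isPi hK))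
    have hX1 := kappa_cent hG hM hxκ (hXK.trans hK.1) hXc
    rcases tau_cases hG hM hr.out hrM hrσ with h1 | h1 | h1
    · exact hr1 h1
    · exact t7 hG hM (hκ x hxκ) h1 (hXK.trans hK.1) hXc hX1 hRM hRc hRX
    · have h2 := bg134 hG hM (hκ x hxκ) (hXK.trans hK.1) hXc hrσ hRM hRc hRX
      exact hr1 (hκ r (kappa_of_cent hG hM hrσ h1.2.2.2 hRM hRc
        (ne_bot_mono hG (le_inf inf_le_left h2) hX1)))
  have hregk : ∀ k ∈ K, k ≠ 1 → U ⊓ centralizer ({k} : Set G) = ⊥ := by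
    intro k hk hk1
    obtain ⟨x, hx, X, hXk, hXc⟩ := exists_prime_sub
      (fun e => hk1 (Subgroup.zpowers_eq_bot.1 e) : zpowers k ≠ ⊥)
    rw [← le_bot_iff, ← hreg x X hx.out (hXk.trans (Subgroup.zpowers_le.2 hk)) hXc,
      ← centralizer_zpowers]
    exact inf_le_inf_left _ (centralizer_le hXk)
  have hnzX : ∀ (x : ℕ) (X : Subgroup G), x.Prime → X ≤ K → Nat.card X = x →
    M ⊓ nz X ≤ K ⊔ (sigmaCore M ⊓ centralizer (K : Set G)) := by
    intro x X hx hXK hXc m hm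
    obtain ⟨a, ha, b, hb, rfl⟩ := nz_fact hG hM hE (hXK.trans hE₁.1) hm
    refine mul_mem (Subgroup.mem_sup_left ?_)
      (Subgroup.mem_sup_right ⟨hb.1, hact x X hx hXK hXc hb⟩)
    obtain ⟨u, hu, k, hk, rfl⟩ := hUK.2.2.2 a ha.1
    have h1 : cj u X = X := by
      have h2 := L.mem_nz_iff.1 ha.2
      rwa [← L.cj_cj, L.mem_nz_iff.1 (hnK X hXK hk)] at h2
    have h3 : u ∈ U ⊓ centralizer (X : Set G) :=
      ⟨hu, compl_conj_cent hUK hUn hu hXK (by rw [← h1]; exact L.cj_mono hXK)⟩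
    rw [hreg x X hx hXK hXc, Subgroup.mem_bot] at h3
    rw [h3, one_mul]; exact hk
  refine ⟨hM, hK, hK1, hact, hne₁, ?_, ?_, hnzX, ?_, fun x X _ hXK _ => hnK X hXK,
    U, ?_, ?_, hE₁.1.trans hUn, hregk⟩
  · intro q Y hq hY hYc
    haveI : Fact q.Prime := ⟨hq⟩
    have hqσ : q ∈ sigma M := mem_of_isPiSub_card hYc
      (IsPiSub.mono (hY.trans inf_le_left) (IsPiHallOf.isPi (sig_hall hG hM)))
    exact ⟨hqσ, bg136 hG hM (hκ p hpκ) (hPK.trans hK.1) hPc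
      (hY.trans (inf_le_inf_left _ (centralizer_le hPK))) hYc⟩
  · intro x X X' hx hXK hX'K hXc hX'c
    exact OOT.eq_of_card_of_cyclic hKc hXK hX'K (by rw [hXc, hX'c])
  · have h1 : nz K ≤ nz P := nz_of_cyclic hKc le_rfl hPK
    exact (inf_le_inf_left _ h1).trans (hnzX p P hp.out hPK hPc)
  · -- `U` is abelian
    obtain ⟨x, hxP, hx1⟩ := exists_mem_ne_one (ne_bot_of_card hPc)
    have hxp : x ^ p = 1 := by
      have := pow_card_eq_one' (G := P) (x := ⟨x, hxP⟩)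
      rw [hPc] at this
      exact congrArg Subtype.val this
    have hn : Group.IsNilpotent U := by
      refine nil_of_fpf hp.out hxp (hUn (hE₁.1 (hPK hxP))) fun k hk hxk => ?_
      have h1 : k ∈ U ⊓ centralizer ({x} : Set G) :=
        ⟨hk, Subgroup.mem_centralizer_singleton_iff.2 hxk.symm⟩
      rw [hregk x (hPK hxP) hx1, Subgroup.mem_bot] at h1
      exact h1
    exact (Cfsg.Agent.S1420.result hG M hM E hcomp).1 U hUM hn
      (fun q hq hd => ((IsPiHallOf.isPi hE) q hq (hd.trans (Subgroup.card_dvd_of_le hU.1))).2)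
  · refine ⟨hUM, ?_, ?_⟩
    · intro q hq hd
      exact ⟨hq, fun h1 => ((IsPiHallOf.isPi hU) q hq hd).2 (hκ q h1),
        ((IsPiHallOf.isPi hE) q hq (hd.trans (Subgroup.card_dvd_of_le hU.1))).2⟩
    · rintro q hq ⟨-, hqκ, hqσ⟩ hd
      have h1 : q ∈ {q | q.Prime ∧ q ∉ tau1 M} := by
        refine ⟨hq, fun h2 => hqκ ?_⟩
        have h3 : q ∣ Nat.card K := dvd_hall hE₁ hq h2
          (dvd_hall hE hq ⟨hq, hqσ⟩ h2.2.2.1)
        exact (IsPiHallOf.isPi hK) q hq h3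
      rw [← Subgroup.relIndex_mul_relIndex U E M hU.1 hE.1] at hd
      rcases hq.dvd_mul.1 hd with h2 | h2
      · exact hU.2.2 q hq h1 h2
      · exact hE.2.2 q hq ⟨hq, hqσ⟩ h2

theorem kd {M K : Subgroup G} (hM : IsCoatom M) (hK : IsPiHallOf (kappa M) K M) (hK1 : K ≠ ⊥) :
    KD M K := by
  by_cases h : ∀ r ∈ kappa M, r ∈ tau1 M
  · exact kd2 hG hM hK hK1 h
  · push Not at h
    obtain ⟨r, hr, hr1⟩ := h
    haveI : Fact r.Prime := ⟨hr.1⟩
    exact kd1 hG hM hK hK1 hr ((kappa_tau hG hM hr).resolve_left hr1)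

namespace KD
variable {M K : Subgroup G} (h : KD M K)
include h

/-- `X ≤ M*_σ` for `N(X) ≤ M*` -/
theorem sigma_over {x : ℕ} {X H : Subgroup G} (hx : x.Prime) (hXK : X ≤ K) (hXc : Nat.card X = x)
    (hH : IsCoatom H) (hN : nz X ≤ H) : x ∈ sigma H ∧ X ≤ sigmaCore H := by
  haveI : Fact x.Prime := ⟨hx⟩
  have hxκ : x ∈ kappa M := mem_of_isPiSub_card hXc (IsPiSub.mono hXK (IsPiHallOf.isPi h.hK))
  obtain ⟨q, hq, Y, hY, hYc⟩ := exists_prime_sub h.ne
  have h1 := b2 hG h.hM hH hxκ.2.2.1 (kappa_rank hxκ) (hXK.trans h.hK.1) hXc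
    (hY.trans (inf_le_inf_left _ (centralizer_le hXK))) hYc (h.only q Y hq.out hY hYc).2.1 hN
  exact ⟨h1, le_sigmaCore hG hH (Subgroup.le_normalizer.trans hN) (isPiSub_of_card hXc h1)⟩

end KD

end Cfsg.Agent.H14.O
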