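import Cfsg.Agent.H14.OSix

set_option autoImplicit false

/-! BG 13.9 -/

namespace Cfsg.Agent.H14.O

open Subgroup
open Cfsg.Agent.L (cj nz SylIn)
open Cfsg.Agent.H14 (IsPiSub)
open Cfsg.Agent.OOT
open Cfsg.Agent.H21
open scoped commutatorElement

universe u

variable {G : Type u} [Group G] [Finite G]

theorem ne_bot_of_sylIn {q : ℕ} [hq : Fact q.Prime] {S M : Subgroup G} (hS : SylIn q S M)
    (hd : q ∣ Nat.card M) : S ≠ ⊥ := by
  rintro rfl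
  have := hS.not_dvd
  rw [Subgroup.relIndex_bot_left] at this
  exact this hd

theorem isPiSub_of_card {p : ℕ} [hp : Fact p.Prime] {P : Subgroup G} (hPc : Nat.card P = p)
    {π : Set ℕ} (h : p ∈ π) : IsPiSub π P := by
  intro r hr hd
  rw [hPc] at hd
  rwa [(Nat.prime_dvd_prime_iff_eq hr hp.out).1 hd]

theorem mem_of_isPiSub_card {p : ℕ} [hp : Fact p.Prime] {P : Subgroup G} (hPc : Nat.card P = p)
    {π : Set ℕ} (h : IsPiSub π P) : p ∈ π := h p hp.out (by rw [hPc])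

theorem exists_prime_sub {H : Subgroup G} (h : H ≠ ⊥) :
    ∃ s, ∃ _ : Fact s.Prime, ∃ X ≤ H, Nat.card X = s := by
  obtain ⟨s, hs, hd⟩ := Nat.exists_prime_and_dvd (fun h' => h (Subgroup.card_eq_one.1 h'))
  haveI : Fact s.Prime := ⟨hs⟩
  obtain ⟨x, hx⟩ := exists_prime_orderOf_dvd_card' s hd
  refine ⟨s, this, zpowers (x : G), Subgroup.zpowers_le.2 x.2, ?_⟩
  rw [Nat.card_zpowers, Subgroup.orderOf_coe, hx]

variable (hG : IsMinSimpleOddOrder G)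

structure Sh (M D S P : Subgroup G) (q p : ℕ) : Prop where
  hM : IsCoatom M
  hD : IsCoatom D
  nc : NC M D
  qM : q ∈ sigma M
  qD : q ∈ sigma D
  hS : SylIn q S ⊤
  SM : S ≤ M
  SD : S ≤ D
  pM : p ∈ tau1 M
  pD : p ∈ tau1 D
  Pc : Nat.card P = p
  PM : P ≤ M
  PD : P ≤ D
  PS : P ≤ nz S

omit [Finite G] in
theorem Sh.symm {M D S P : Subgroup G} {q p : ℕ} (h : Sh M D S P q p) : Sh D M S P q p :=
  ⟨h.hD, h.hM, h.nc.symm, h.qD, h.qM, h.hS, h.SD, h.SM, h.pD, h.pM, h.Pc, h.PD, h.PM, h.PS⟩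

include hG

section
variable {M D S P : Subgroup G} {q p : ℕ} (h : Sh M D S P q p)
include h

theorem Sh.ne_bot : S ≠ ⊥ := by
  haveI : Fact q.Prime := ⟨h.qM.1⟩
  exact ne_bot_of_sylIn h.hS (h.qM.2.1.trans (Subgroup.card_dvd_of_le le_top))

theorem Sh.cent : S ⊓ centralizer (P : Set G) = ⊥ := by
  haveI : Fact q.Prime := ⟨h.qM.1⟩
  haveI : Fact p.Prime := ⟨h.pM.1⟩
  by_contra hne
  have h1 : IsPGroup q (S ⊓ centralizer (P : Set G) : Subgroup G) := h.hS.isPGroup.to_le inf_le_left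
  obtain ⟨X, hX, hXc⟩ := exists_order_p hG h1 hne
  have hSM := sigma_sylow_le hG h.hM h.qM (h.hS.of_le h.SM le_top)
  have hSD := sigma_sylow_le hG h.hD h.qD (h.hS.of_le h.SD le_top)
  have h2 := (bg136 hG h.hM (p := p) (q := q) h.pM h.PM h.Pc (hX.trans (inf_le_inf_right _ hSM)) hXc).1
  have h3 := (bg136 hG h.hD (p := p) (q := q) h.pD h.PD h.Pc (hX.trans (inf_le_inf_right _ hSD)) hXc).1
  exact h.nc.ne (h3.2 M h.hM h2.1)

theorem Sh.pq : p ≠ q := fun e => h.pM.2.1 (e ▸ h.qM)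

theorem Sh.comm : ⁅S, P⁆ = S := by
  haveI : Fact q.Prime := ⟨h.qM.1⟩
  haveI : Fact p.Prime := ⟨h.pM.1⟩
  have hcop : (Nat.card P).Coprime (Nat.card S) := by
    rw [h.Pc]
    exact (coprime_of_pgroup h.hS.isPGroup (fun hd =>
      h.pq hG ((Nat.prime_dvd_prime_iff_eq h.qM.1 h.pM.1).1 hd).symm)).symm
  have := H23.commutator_sup_centralizer h.PS hcop
    (Or.inl (sol hG (ne_top_of_le h.hM h.PM)))
  rwa [h.cent hG, sup_bot_eq] at this

theorem Sh.nreg (hC : Mb M ⊓ centralizer (P : Set G) ≤ centralizer (S : Set G)) : False := by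
  haveI : Fact q.Prime := ⟨h.qM.1⟩
  haveI : Fact p.Prime := ⟨h.pM.1⟩
  exact O.nreg hG h.hM h.hD h.nc h.pM.1 h.qM h.qD h.hS.isPGroup (h.ne_bot hG) h.SM
    (sigma_nz_le hG h.hD h.qD h.hS h.SD) h.PM h.Pc
    (fun hb => h.pM.2.1 (beta_sub_sigma hG h.hM hb)) (h.pq hG) h.PS (h.comm hG) hC

theorem Sh.mb_ne : Mb M ⊓ centralizer (P : Set G) ≠ ⊥ := fun h' =>
  h.nreg hG (h' ▸ bot_le)

theorem Sh.claim : Mb M ⊓ D ⊓ centralizer (P : Set G) = ⊥ := by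
  haveI : Fact q.Prime := ⟨h.qM.1⟩
  haveI : Fact p.Prime := ⟨h.pM.1⟩
  by_contra hne
  obtain ⟨s, hs, X, hX, hXc⟩ := exists_prime_sub hne
  have hXb : X ≤ Mb M := hX.trans (inf_le_left.trans inf_le_left)
  have hXD : X ≤ D := hX.trans (inf_le_left.trans inf_le_right)
  have hXP : X ≤ centralizer (P : Set G) := hX.trans inf_le_right
  have hsβ : s ∈ beta M := mem_of_isPiSub_card hXc (IsPiSub.mono hXb (IsPiHallOf.isPi (mb_hall hG h.hM)))
  have hsσ := beta_sub_sigma hG h.hM hsβ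
  have hXM : X ≤ M := hXb.trans (mb_le M)
  have hCX : Only (centralizer (X : Set G)) M := (s1423 hG h.hM hsσ hXM hXc (Or.inl hsβ)).1
  have h1 := bg134 hG h.hD (p := p) (r := s) h.pD h.PD h.Pc
    (not_sigma_of_beta hG h.hD h.hM h.nc.symm hsβ) hXD hXc hXP
  have h2 : Mb D ⊓ centralizer (P : Set G) ≤ Mb D ⊓ M :=
    le_inf inf_le_left ((inf_le_inf_right _ (mb_le_sig hG h.hD)).trans (h1.trans hCX.1))
  have h3 := h2.trans (comm_cores hG h.hD h.hM h.nc.symm)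
  have hSM := sigma_sylow_le hG h.hM h.qM (h.hS.of_le h.SM le_top)
  exact h.symm.nreg hG (h3.trans (centralizer_le (le_inf hSM h.SD)))

end


/-! ### the W-lemma -/

section W
variable {M P : Subgroup G} (hM : IsCoatom M) {p s : ℕ} [hp : Fact p.Prime] [hs : Fact s.Prime]
  (hpτ : p ∈ tau1 M) (hPM : P ≤ M) (hPc : Nat.card P = p)
include hM hpτ hPM hPc

theorem nz_le_of_13 {O : Subgroup G} (hO : IsPGroup s O) (hO1 : O ≠ ⊥)
    (hOM : O ≤ sigmaCore M ⊓ centralizer (P : Set G)) :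
    centralizer (O : Set G) ≤ M ∧ nz O ≤ M := by
  obtain ⟨X, hX, hXc⟩ := exists_order_p hG hO hO1
  have h1 := (bg136 hG hM hpτ hPM hPc (hX.trans hOM) hXc).1
  have hC : centralizer (O : Set G) ≤ M := (centralizer_le hX).trans h1.1
  have hXπ : IsPiSub (sigma M) X :=
    IsPiSub.mono (hX.trans (hOM.trans inf_le_left)) (IsPiHallOf.isPi (sig_hall hG hM))
  exact ⟨hC, nz_le_of_cent hG hM (mem_of_isPiSub_card hXc hXπ) hO
    ((hOM.trans inf_le_left).trans (sig_le M)) hC⟩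

theorem syl_cent_le {X R : Subgroup G} (hX : X ≤ sigmaCore M ⊓ centralizer (P : Set G))
    (hXc : Nat.card X = s) (hR : IsPGroup s R) (hRP : R ≤ centralizer (P : Set G)) (hXR : X ≤ R) :
    R ≤ M := by
  have hR1 : R ≠ ⊥ := fun h => ne_bot_of_card hXc (le_bot_iff.1 (h ▸ hXR))
  obtain ⟨x, hx, hx1⟩ := exists_mem_ne_one (omZ_ne_bot hR hR1)
  have hXM : X ≤ M := hX.trans (inf_le_left.trans (sig_le M))
  have hCX := (bg136 hG hM hpτ hPM hPc hX hXc).1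
  have hxR : x ∈ centralizer (R : Set G) := omZ_le_centralizer s R hx
  have hxM : x ∈ M := hCX.1 (centralizer_le hXR hxR)
  have hxs : x ^ s = 1 := hx.2
  have hXσ : s ∈ sigma M := mem_of_isPiSub_card hXc
    (IsPiSub.mono (hX.trans inf_le_left) (IsPiHallOf.isPi (sig_hall hG hM)))
  have hc := card_zpowers_eq_prime hxs hx1
  have h1 : zpowers x ≤ sigmaCore M := le_sigmaCore hG hM (Subgroup.zpowers_le.2 hxM)
    (isPiSub_of_card hc hXσ)
  have h2 : zpowers x ≤ centralizer (P : Set G) := Subgroup.zpowers_le.2 (hRP (omZ_le s R hx))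
  have h3 := (bg136 hG hM hpτ hPM hPc (le_inf h1 h2) hc).1
  exact (le_cent_comm.1 (Subgroup.zpowers_le.2 hxR)).trans h3.1

end W

structure Wd (M D P X Y : Subgroup G) (p s t : ℕ) : Prop where
  hM : IsCoatom M
  hD : IsCoatom D
  pM : p ∈ tau1 M
  pD : p ∈ tau1 D
  Pc : Nat.card P = p
  PM : P ≤ M
  PD : P ≤ D
  hs : s.Prime
  ht : t.Prime
  hX : X ≤ sigmaCore M ⊓ centralizer (P : Set G)
  Xc : Nat.card X = s
  hY : Y ≤ sigmaCore D ⊓ centralizer (P : Set G)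
  Yc : Nat.card Y = t
  sD : s ∉ sigma D
  tM : t ∉ sigma M

omit hG [Finite G] in
theorem Wd.symm {M D P X Y : Subgroup G} {p s t : ℕ} (h : Wd M D P X Y p s t) :
    Wd D M P Y X p t s :=
  ⟨h.hD, h.hM, h.pD, h.pM, h.Pc, h.PD, h.PM, h.ht, h.hs, h.hY, h.Yc, h.hX, h.Xc, h.tM, h.sD⟩

theorem Wd.aux {M D P X Y : Subgroup G} {p s t : ℕ} (h : Wd M D P X Y p s t) {W O : Subgroup G}
    (hW : IsPiHallOf {s, t} W (centralizer (P : Set G))) (hOW : O ≤ W) (hO : IsPGroup s O)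
    (hO1 : O ≠ ⊥) (hWO : W ≤ nz O) :
    ∃ c ∈ centralizer (P : Set G), ∃ d ∈ centralizer (P : Set G),
      cj c X ≤ cj d D ∧ cj d Y ≤ cj c M := by
  haveI hp : Fact p.Prime := ⟨h.pM.1⟩
  haveI hs : Fact s.Prime := ⟨h.hs⟩
  haveI ht : Fact t.Prime := ⟨h.ht⟩
  have hXP : X ≤ centralizer (P : Set G) := h.hX.trans inf_le_right
  have hYP : Y ≤ centralizer (P : Set G) := h.hY.trans inf_le_right
  obtain ⟨Ws, hWs, hOWs⟩ := L.exists_sylIn_ge hO hOW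
  have hWs' := syl_hall hW (by simp) hWs
  obtain ⟨R, hR, hXR⟩ := L.exists_sylIn_ge (isPGroup_of_card h.Xc) hXP
  obtain ⟨c, hc, hcR⟩ := hR.exists_conj_eq hWs'
  have hRM := syl_cent_le hG h.hM h.pM h.PM h.Pc h.hX h.Xc hR.isPGroup hR.le hXR
  have hcM := coatom_cj h.hM c
  have hcP : L.cj c P = P := L.mem_nz_iff.1 (cent_le_nz P hc)
  have hPcM : P ≤ cj c M := by rw [← hcP]; exact L.cj_mono h.PM
  have hpc := tau1_cj_le hG c h.pM
  have hsσ : s ∈ sigma M := mem_of_isPiSub_card h.Xc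
    (IsPiSub.mono (h.hX.trans inf_le_left) (IsPiHallOf.isPi (sig_hall hG h.hM)))
  have hsσ' := sigma_cj_le hG c hsσ
  have hOcM : O ≤ cj c M := hOWs.trans (hcR ▸ L.cj_mono hRM)
  have hOσ : O ≤ sigmaCore (cj c M) := le_sigmaCore hG hcM hOcM (isPiSub_of_isPGroup hsσ' hO)
  have h1 := nz_le_of_13 hG hcM hpc hPcM h.Pc hO hO1 (le_inf hOσ (hOW.trans hW.1))
  have hWM : W ≤ cj c M := hWO.trans h1.2
  obtain ⟨Wt, hWt⟩ := L.exists_sylIn (p := t) W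
  have hWt' := syl_hall hW (by simp) hWt
  obtain ⟨R', hR', hYR'⟩ := L.exists_sylIn_ge (isPGroup_of_card h.Yc) hYP
  obtain ⟨d, hd, hdR'⟩ := hR'.exists_conj_eq hWt'
  have hYM : cj d Y ≤ cj c M := (L.cj_mono hYR').trans (hdR' ▸ (hWt.le.trans hWM))
  refine ⟨c, hc, d, hd, ?_, hYM⟩
  have hdP : L.cj d P = P := L.mem_nz_iff.1 (cent_le_nz P hd)
  have hPdD : P ≤ L.cj d D := by rw [← hdP]; exact L.cj_mono h.PD
  have hYc : Nat.card (L.cj d Y) = t := by rw [L.card_cj, h.Yc]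
  have hXc : Nat.card (L.cj c X) = s := by rw [L.card_cj, h.Xc]
  have hYP' : L.cj d Y ≤ centralizer (P : Set G) := cent_cj_le hd hYP
  have h2 := bg134 hG hcM hpc hPcM h.Pc (R := L.cj d Y) (r := t)
    (fun h' => h.tM ((sigma_cj hG c).1 h')) hYM hYc hYP'
  have hYσ : L.cj d Y ≤ sigmaCore (L.cj d D) := by
    rw [← cj_sigmaCore d D hG]; exact L.cj_mono (h.hY.trans inf_le_left)
  have hXσ : L.cj c X ≤ sigmaCore (L.cj c M) := by
    rw [← cj_sigmaCore c M hG]; exact L.cj_mono (h.hX.trans inf_le_left)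
  have h3 := (bg136 hG (coatom_cj h.hD d) (tau1_cj_le hG d h.pD) hPdD h.Pc
    (le_inf hYσ hYP') hYc).1
  have h4 := (le_inf hXσ (cent_cj_le hc hXP)).trans h2
  exact h4.trans h3.1

/-- the W-lemma -/
theorem Wd.main {M D P X Y : Subgroup G} {p s t : ℕ} (h : Wd M D P X Y p s t) :
    ∃ c ∈ centralizer (P : Set G), ∃ d ∈ centralizer (P : Set G),
      cj c X ≤ cj d D ∧ cj d Y ≤ cj c M := by
  haveI hp : Fact p.Prime := ⟨h.pM.1⟩
  haveI hs : Fact s.Prime := ⟨h.hs⟩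
  haveI ht : Fact t.Prime := ⟨h.ht⟩
  have hXP : X ≤ centralizer (P : Set G) := h.hX.trans inf_le_right
  have hCs : Group.IsSolvable (centralizer (P : Set G)) := by
    exact sol hG (centralizer_ne_top hG (ne_bot_of_card h.Pc))
  obtain ⟨W, hW, hXW⟩ := exists_hallOf_ge (π := {s, t}) hCs hXP
    (isPiSub_of_card h.Xc (by simp))
  have hWs : Group.IsSolvable W := H1.isSolvable_of_le hW.1 hCs
  have hW1 : W ≠ ⊥ := fun e => ne_bot_of_card h.Xc (le_bot_iff.1 (e ▸ hXW))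
  haveI : Nontrivial W := (Subgroup.nontrivial_iff_ne_bot W).2 hW1
  obtain ⟨r, A, hr, hAc, hA1, -, hAr⟩ := H1.exists_pgroup_characteristic_of_solvable W hWs
  haveI hrf : Fact r.Prime := ⟨hr⟩
  have hAn : A.Normal := inferInstance
  obtain ⟨O, hO⟩ : ∃ O, O = A.map W.subtype := ⟨_, rfl⟩
  have hOW : O ≤ W := hO ▸ Subgroup.map_subtype_le A
  have hWO : W ≤ nz O := hO ▸ le_normalizer_map_subtype hAn
  have hOr : IsPGroup r O := hO ▸ hAr.map _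
  have hO1 : O ≠ ⊥ := fun e => hA1 ((Subgroup.map_eq_bot_iff_of_injective _
    W.subtype_injective).1 (hO ▸ e))
  have hrd : r ∣ Nat.card W := (dvd_card_of_ne_bot hOr hO1).trans (Subgroup.card_dvd_of_le hOW)
  rcases (IsPiHallOf.isPi hW) r hr hrd with h1 | h1
  · subst h1
    exact h.aux hG hW hOW hOr hO1 hWO
  · have h1' : r = t := h1
    subst h1'
    rw [Set.pair_comm] at hW
    obtain ⟨c, hc, d, hd, h2, h3⟩ := h.symm.aux hG hW hOW hOr hO1 hWO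
    exact ⟨d, hd, c, hc, h3, h2⟩

section Share2
variable {M D S : Subgroup G} (hM : IsCoatom M) (hD : IsCoatom D) (hnc : NC M D) {q : ℕ}
  [hq : Fact q.Prime] (hqM : q ∈ sigma M) (hqD : q ∈ sigma D)
  (hS : SylIn q S ⊤) (hSM : S ≤ M) (hSD : S ≤ D)
include hM hD hnc hqM hqD hS hSM hSD

theorem tau2_empty {r : ℕ} (hr : r ∈ tau2 M) : False := by
  haveI : Fact r.Prime := ⟨hr.1⟩
  obtain ⟨E, hE, -⟩ := exists_compl_ge hG hM (H := ⊥) bot_le (isPiSub_bot _)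
  obtain ⟨A, hAE, hA, hAc⟩ := exists_ea_sq' hG hM hE hr
  obtain ⟨hn, -⟩ := Cfsg.Agent.S1417.result hG M hM r hr A ⟨hAE.trans hE.1, hA, hAc⟩
  have hqβ : q ∉ beta M := fun hb => not_sigma_of_beta hG hD hM hnc.symm hb hqD
  have hSσ := sigma_sylow_le hG hM hqM (hS.of_le hSM le_top)
  have hb : ¬ q ∣ Nat.card (Mb M) := fun hd => hqβ ((IsPiHallOf.isPi (mb_hall hG hM)) q hq.out hd)
  have h1 : Mb M ≤ centralizer (S : Set G) := nil_cent hn (mb_le_sig hG hM) hSσ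
    (coprime_of_pgroup hS.isPGroup hb).symm
  have h2 : Mb M ≤ D := (h1.trans (cent_le_nz S)).trans (sigma_nz_le hG hD hqD hS hSD)
  have h3 : M ≤ D := by
    intro x hx
    obtain ⟨b, hb, t, ht, rfl⟩ := share_fact hG hM hD hnc hqM hqD hS hSM hSD hx
    exact D.mul_mem (h2 hb) ht.2
  rcases hM.le_iff.1 h3 with h4 | h4
  · exact hD.1 h4
  · exact hnc.ne h4.symm

theorem share_E : ∃ E, IsPiHallOf (sc M) E M ∧ E ≤ D ∧ E ≤ nz S ∧
    ∀ H ≤ E ⊓ ⁅M, M⁆, H ≤ centralizer (S : Set G) := by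
  have hqβ : q ∉ beta M := fun hb => not_sigma_of_beta hG hD hM hnc.symm hb hqD
  obtain ⟨T, hT, hST⟩ := exists_hallOf_ge (π := bc M) (msol hG hM) hSM
    (isPiSub_of_isPGroup (⟨hq.out, hqβ⟩ : q ∈ bc M) hS.isPGroup)
  have hTD := share_T hG hM hD hnc hqM hqD hS hSM hSD hT hST
  obtain ⟨S', hS', -, hTS', hTc, hmax⟩ := hallT hG hM hT hqM hqβ
  have hSS' : S = S' := hS.eq_of_le hS'.isPGroup le_top (hmax S hST hS.isPGroup)
  subst hSS'
  obtain ⟨E, hE, -⟩ := exists_hallOf_ge (π := sc M) (sol hG (ne_top_of_le hM hT.1))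
    (bot_le : ⊥ ≤ T) (isPiSub_bot _)
  have hsb : sc M ⊆ bc M := fun r hr => ⟨hr.1, fun hb => hr.2 (beta_sub_sigma hG hM hb)⟩
  have hEM : IsPiHallOf (sc M) E M := IsPiHallOf.trans hsb hE hT
  refine ⟨E, hEM, hE.1.trans hTD, hE.1.trans hTS', fun H hH => hTc H
    (le_inf ((hH.trans inf_le_left).trans hE.1) (hH.trans inf_le_right)) ?_⟩
  intro hd
  exact ((IsPiHallOf.isPi hEM) q hq.out
    (hd.trans (Subgroup.card_dvd_of_le (hH.trans inf_le_left)))).2 hqM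

theorem share_E₁ {E E₁ : Subgroup G} (hE : IsPiHallOf (sc M) E M)
    (hc : ∀ H ≤ E ⊓ ⁅M, M⁆, H ≤ centralizer (S : Set G)) (hE₁ : IsPiHallOf (tau1 M) E₁ E) :
    ¬ E₁ ≤ centralizer (S : Set G) := by
  intro hcon
  have hqβ : q ∉ beta M := fun hb => not_sigma_of_beta hG hD hM hnc.symm hb hqD
  have hSs := hS.of_le hSM le_top
  have hSσ := sigma_sylow_le hG hM hqM hSs
  have hES : E ≤ centralizer (S : Set G) := by
    apply le_of_sylow_le
    intro r hr' hrd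
    haveI hr : Fact r.Prime := ⟨hr'⟩
    have hrσ := ((IsPiHallOf.isPi hE) r hr' hrd).2
    have hrM : r ∣ Nat.card M := hrd.trans (Subgroup.card_dvd_of_le hE.1)
    rcases tau_cases hG hM hr' hrM hrσ with h1 | h2 | h3
    · obtain ⟨R, hR⟩ := L.exists_sylIn (p := r) E₁
      exact ⟨R, syl_hall hE₁ h1 hR, hR.le.trans hcon⟩
    · exact absurd h2 (fun h => tau2_empty hG hM hD hnc hqM hqD hS hSM hSD h)
    · obtain ⟨R, hR⟩ := L.exists_sylIn (p := r) E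
      exact ⟨R, hR, hc R (le_inf hR.le (le_derived hG hM (Or.inr h3) (hR.le.trans hE.1)
        hR.isPGroup))⟩
  exact syl_not_le_derived hG hM hqM hqβ hSs ((le_inf hSσ (le_cent_comm.1 hES)).trans
    (bg1217 hG hM ((compl_sig_iff hG hM).2 hE)).1)

theorem share_tau : (∀ p ∈ tau1 M, p ∈ tau1 D) ∧ ∃ p P, Sh M D S P q p := by
  have hqβ : q ∉ beta M := fun hb => not_sigma_of_beta hG hD hM hnc.symm hb hqD
  have hqβD : q ∉ beta D := fun hb => not_sigma_of_beta hG hM hD hnc hb hqM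
  obtain ⟨E, hE, hED, hES, hc⟩ := share_E hG hM hD hnc hqM hqD hS hSM hSD
  obtain ⟨E₁, hE₁, -⟩ := exists_hallOf_ge (π := tau1 M) (sol hG (ne_top_of_le hM hE.1))
    (bot_le : ⊥ ≤ E) (isPiSub_bot _)
  have hnE₁ := share_E₁ hG hM hD hnc hqM hqD hS hSM hSD hE hc hE₁
  have hSσ := sigma_sylow_le hG hM hqM (hS.of_le hSM le_top)
  have key : ∀ (p : ℕ) (_ : Fact p.Prime) (P : Subgroup G), P ≤ E₁ → Nat.card P = p →
      p ∈ tau1 M ∧ p ∈ tau1 D := by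
    intro p hp P hPE₁ hPc
    have hpM : p ∈ tau1 M := mem_of_isPiSub_card hPc (IsPiSub.mono hPE₁ (IsPiHallOf.isPi hE₁))
    refine ⟨hpM, ?_⟩
    have hPE := hPE₁.trans hE₁.1
    have hPS : ¬ P ≤ centralizer (S : Set G) := by
      intro hPS
      apply hnE₁
      have h1 := bg135 hG hM (hE₁.1.trans hE.1) (IsPiHallOf.isPi hE₁) hPE₁ hPc
      exact le_cent_comm.1 ((le_inf hSσ (le_cent_comm.1 hPS)).trans h1)
    have hPD : P ≤ D := hPE.trans hED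
    have hpD : p ∣ Nat.card D := by rw [← hPc]; exact Subgroup.card_dvd_of_le hPD
    have hpq : p ≠ q := fun e => hpM.2.1 (e ▸ hqM)
    have hPp := isPGroup_of_card hPc
    have hder : ¬ (p ∈ sigma D ∨ p ∈ tau3 D) := by
      intro h
      apply hPS
      refine ncomp_cent hG hD hqβD (le_derived hG hD h hPD hPp) ?_ hS.isPGroup hSD (hPE.trans hES)
      rw [hPc]
      intro hd
      exact hpq ((Nat.prime_dvd_prime_iff_eq hq.out hp.out).1 hd).symm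
    rcases tau_cases hG hD hp.out hpD (fun h => hder (Or.inl h)) with h1 | h2 | h3
    · exact h1
    · exact absurd h2 (fun h => tau2_empty hG hD hM hnc.symm hqD hqM hS hSD hSM h)
    · exact absurd (Or.inr h3) hder
  constructor
  · intro p hpM
    haveI hp : Fact p.Prime := ⟨hpM.1⟩
    have h1 : p ∣ Nat.card E := dvd_hall hE hp.out ⟨hpM.1, hpM.2.1⟩ hpM.2.2.1
    have h2 : p ∣ Nat.card E₁ := dvd_hall hE₁ hp.out hpM h1
    obtain ⟨x, hx⟩ := exists_prime_orderOf_dvd_card' p h2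
    refine (key p hp (zpowers (x : G)) (Subgroup.zpowers_le.2 x.2) ?_).2
    rw [Nat.card_zpowers, Subgroup.orderOf_coe, hx]
  · have hE₁1 : E₁ ≠ ⊥ := by
      rintro rfl
      exact hnE₁ bot_le
    obtain ⟨p, hp, P, hPE₁, hPc⟩ := exists_prime_sub hE₁1
    obtain ⟨h1, h2⟩ := key p hp P hPE₁ hPc
    have hPE := hPE₁.trans hE₁.1
    exact ⟨p, P, hM, hD, hnc, hqM, hqD, hS, hSM, hSD, h1, h2, hPc, hPE.trans hE.1,
      hPE.trans hED, hPE.trans hES⟩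

end Share2

/-- BG 13.9 -/
theorem sigma_disjoint {M D : Subgroup G} (hM : IsCoatom M) (hD : IsCoatom D) (hnc : NC M D)
    {q : ℕ} (hqM : q ∈ sigma M) (hqD : q ∈ sigma D) : False := by
  haveI hq : Fact q.Prime := ⟨hqM.1⟩
  obtain ⟨S, hSM⟩ := L.exists_sylIn (p := q) M
  have hS := sylIn_top_of_sigma hG hM hqM hSM
  obtain ⟨R, hR⟩ := L.exists_sylIn (p := q) D
  obtain ⟨g, -, hg⟩ := (sylIn_top_of_sigma hG hD hqD hR).exists_conj_eq hS
  obtain ⟨D', hD'⟩ : ∃ D', D' = cj g D := ⟨_, rfl⟩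
  have hSD : S ≤ D' := by rw [hD', ← hg]; exact L.cj_mono hR.le
  have hDc : IsCoatom D' := hD' ▸ coatom_cj hD g
  have hnc' : NC M D' := hD' ▸ hnc.cj_right g
  have hqD' : q ∈ sigma D' := hD' ▸ sigma_cj_le hG g hqD
  clear hD' hg hR hqD hnc hD
  obtain ⟨htM, p, P, h⟩ := share_tau hG hM hDc hnc' hqM hqD' hS hSM.le hSD
  obtain ⟨htD, -⟩ := share_tau hG hDc hM hnc'.symm hqD' hqM hS hSD hSM.le
  haveI hp : Fact p.Prime := ⟨h.pM.1⟩
  obtain ⟨s, hs, X, hX, hXc⟩ := exists_prime_sub (h.mb_ne hG)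
  obtain ⟨t, ht, Y, hY, hYc⟩ := exists_prime_sub (h.symm.mb_ne hG)
  have hsβ : s ∈ beta M := mem_of_isPiSub_card hXc
    (IsPiSub.mono (hX.trans inf_le_left) (IsPiHallOf.isPi (mb_hall hG hM)))
  have htβ : t ∈ beta D' := mem_of_isPiSub_card hYc
    (IsPiSub.mono (hY.trans inf_le_left) (IsPiHallOf.isPi (mb_hall hG hDc)))
  have hsD := not_sigma_of_beta hG hDc hM hnc'.symm hsβ
  have htM' := not_sigma_of_beta hG hM hDc hnc' htβ
  have hW : Wd M D' P X Y p s t := ⟨hM, hDc, h.pM, h.pD, h.Pc, h.PM, h.PD, hs.out, ht.out,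
    hX.trans (inf_le_inf_right _ (mb_le_sig hG hM)), hXc,
    hY.trans (inf_le_inf_right _ (mb_le_sig hG hDc)), hYc, hsD, htM'⟩
  obtain ⟨c, hc, d, hd, h1, h2⟩ := hW.main hG
  obtain ⟨M₁, hM₁⟩ : ∃ M₁, M₁ = L.cj c M := ⟨_, rfl⟩
  obtain ⟨D₁, hD₁⟩ : ∃ D₁, D₁ = L.cj d D' := ⟨_, rfl⟩
  obtain ⟨X₁, hX₁⟩ : ∃ X₁, X₁ = L.cj c X := ⟨_, rfl⟩
  rw [← hX₁, ← hD₁] at h1
  have hM₁c : IsCoatom M₁ := hM₁ ▸ coatom_cj hM c
  have hD₁c : IsCoatom D₁ := hD₁ ▸ coatom_cj hDc d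
  have hnc₁ : NC M₁ D₁ := hM₁ ▸ hD₁ ▸ (hnc'.cj_left c).cj_right d
  have hcP : L.cj c P = P := L.mem_nz_iff.1 (cent_le_nz P hc)
  have hdP : L.cj d P = P := L.mem_nz_iff.1 (cent_le_nz P hd)
  have hPM₁ : P ≤ M₁ := by rw [hM₁, ← hcP]; exact L.cj_mono h.PM
  have hPD₁ : P ≤ D₁ := by rw [hD₁, ← hdP]; exact L.cj_mono h.PD
  have hX₁c : Nat.card X₁ = s := by rw [hX₁, L.card_cj, hXc]
  have hX₁b : X₁ ≤ Mb M₁ := by
    rw [hX₁, hM₁, ← cj_mb c M]; exact L.cj_mono (hX.trans inf_le_left)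
  have hX₁P : X₁ ≤ centralizer (P : Set G) := hX₁ ▸ cent_cj_le hc (hX.trans inf_le_right)
  have hsβ₁ : s ∈ beta M₁ := hM₁ ▸ beta_cj_le c hsβ
  have hsσ₁ := beta_sub_sigma hG hM₁c hsβ₁
  have hsD₁ : s ∉ sigma D₁ := not_sigma_of_beta hG hD₁c hM₁c hnc₁.symm hsβ₁
  have hCX : centralizer (X₁ : Set G) ≤ M₁ :=
    (s1423 hG hM₁c hsσ₁ (hX₁b.trans (mb_le M₁)) hX₁c (Or.inl hsβ₁)).1.1
  have hsDd : s ∣ Nat.card D₁ := by rw [← hX₁c]; exact Subgroup.card_dvd_of_le h1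
  have hs3 : s ∈ tau3 D₁ := by
    rcases tau_cases hG hD₁c hs.out hsDd hsD₁ with h3 | h3 | h3
    · exfalso
      have h4 := tau1_cj_le hG d⁻¹ h3
      rw [hD₁, L.cj_inv_cj] at h4
      exact (htD s h4).2.1 (beta_sub_sigma hG hM hsβ)
    · exfalso
      have h4 := tau2_cj_le hG d⁻¹ h3
      rw [hD₁, L.cj_inv_cj] at h4
      exact tau2_empty hG hDc hM hnc'.symm hqD' hqM hS hSD hSM.le h4
    · exact h3
  -- a Sylow `q`-subgroup of `D₁` centralized by `X₁`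
  obtain ⟨S', hS'D, hS', hS'X⟩ : ∃ S', S' ≤ D₁ ∧ SylIn q S' ⊤ ∧ S' ≤ centralizer (X₁ : Set G) := by
    obtain ⟨E, hE, -, -, hEc⟩ := share_E hG hDc hM hnc'.symm hqD' hqM hS hSD hSM.le
    have h4 : L.cj d⁻¹ X₁ ≤ D' := by
      have := L.cj_mono (g := d⁻¹) h1
      rwa [hD₁, L.cj_inv_cj] at this
    have h5 : L.cj d⁻¹ X₁ ≤ ⁅D', D'⁆ := by
      have := L.cj_mono (g := d⁻¹) (le_derived hG hD₁c (Or.inr hs3) h1 (isPGroup_of_card hX₁c))
      rwa [hD₁, L.cj_commutator, L.cj_inv_cj] at this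
    have h6 : IsPiSub (sc D') (L.cj d⁻¹ X₁) :=
      isPiSub_of_card (by rw [L.card_cj, hX₁c]) ⟨hs.out, hsD⟩
    obtain ⟨g, hgD, hg⟩ := IsPiHallOf.exists_conj_le (msol hG hDc) hE h4 h6
    have h7 : L.cj g (L.cj d⁻¹ X₁) ≤ ⁅D', D'⁆ := by
      have h8 : g ∈ nz ⁅D', D'⁆ := nz_comm_self _ (Subgroup.le_normalizer hgD)
      rw [← L.mem_nz_iff.1 h8]; exact L.cj_mono h5
    have h9 := hEc _ (le_inf hg h7)
    have h10 := le_cent_comm.1 h9
    refine ⟨L.cj d (L.cj g⁻¹ S), ?_, ?_, ?_⟩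
    · rw [hD₁]; apply L.cj_mono
      rw [← L.cj_eq_self_of_mem (D'.inv_mem hgD)]; exact L.cj_mono hSD
    · have := (hS.cj g⁻¹).cj d
      rwa [L.cj_top, L.cj_top] at this
    · have h11 := L.cj_mono (g := d) (L.cj_mono (g := g⁻¹) h10)
      rw [← L.cent_cj, ← L.cent_cj, L.cj_inv_cj, L.cj_cj_inv] at h11
      exact h11
  have hqD₁ : q ∈ sigma D₁ := hD₁ ▸ sigma_cj_le hG d hqD'
  have hqM₁ : q ∈ sigma M₁ := hM₁ ▸ sigma_cj_le hG c hqM
  have hpD₁ : p ∈ tau1 D₁ := hD₁ ▸ tau1_cj_le hG d h.pD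
  have hpM₁ : p ∈ tau1 M₁ := hM₁ ▸ tau1_cj_le hG c h.pM
  obtain ⟨K, hK⟩ : ∃ K, K = sigmaCore D₁ ⊓ centralizer (X₁ : Set G) := ⟨_, rfl⟩
  have hKσ : K ≤ sigmaCore D₁ := hK ▸ inf_le_left
  have hKX : K ≤ centralizer (X₁ : Set G) := hK ▸ inf_le_right
  have hPK : P ≤ nz K := by
    rw [hK]
    refine nz_inf_le (hPD₁.trans (sig_norm D₁)) ?_
    exact (le_cent_comm.1 hX₁P).trans Subgroup.le_normalizer
  have hcop : (Nat.card P).Coprime (Nat.card K) := by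
    rw [h.Pc, Nat.Prime.coprime_iff_not_dvd hp.out]
    intro hdv
    exact hpD₁.2.1 ((IsPiHallOf.isPi (sig_hall hG hD₁c)) p hp.out
      (hdv.trans (Subgroup.card_dvd_of_le hKσ)))
  obtain ⟨S₂, hS₂, hPS₂⟩ := inv_syl' hPK hcop
    (sol hG (ne_top_of_le hD₁c (hKσ.trans (sig_le D₁)))) q
  have hS'K : S' ≤ K := hK ▸ le_inf (sigma_sylow_le hG hD₁c hqD₁ (hS'.of_le hS'D le_top)) hS'X
  have hS'K' : SylIn q S' K := hS'.of_le hS'K le_top
  obtain ⟨x, -, hx⟩ := hS'K'.exists_conj_eq hS₂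
  have hS₂t : SylIn q S₂ ⊤ := by
    have := hS'.cj x
    rwa [hx, L.cj_top] at this
  have hS₂K := hS₂.le
  have hsh : Sh M₁ D₁ S₂ P q p := ⟨hM₁c, hD₁c, hnc₁, hqM₁, hqD₁, hS₂t, (hS₂K.trans hKX).trans hCX,
    (hS₂K.trans hKσ).trans (sig_le D₁), hpM₁, hpD₁, h.Pc, hPM₁, hPD₁, hPS₂⟩
  have h12 := hsh.claim hG
  have h13 : X₁ ≤ ⊥ := h12 ▸ le_inf (le_inf hX₁b h1) hX₁P
  exact ne_bot_of_card hX₁c (le_bot_iff.1 h13)

end Cfsg.Agent.H14.O
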