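import Cfsg.Agent.H14.OFive

set_option autoImplicit false

/-! BG 12.17 (first part), 13.6 -/

namespace Cfsg.Agent.H14.O

open Subgroup
open Cfsg.Agent.L (cj nz SylIn)
open Cfsg.Agent.H14 (IsPiSub)
open Cfsg.Agent.OOT
open Cfsg.Agent.H21
open scoped commutatorElement

universe u

variable {G : Type u} [Group G] [Finite G] (hG : IsMinSimpleOddOrder G)
include hG

/-- BG 12.17, first part -/
theorem bg1217 {M E : Subgroup G} (hM : IsCoatom M) (hE : Cfsg.IsComplIn E (Cfsg.sigmaCore M) M) :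
    Cfsg.sigmaCore M ⊓ Subgroup.centralizer (E : Set G) ≤ ⁅Cfsg.sigmaCore M, Cfsg.sigmaCore M⁆ ∧
      ⁅Cfsg.sigmaCore M, E⁆ = Cfsg.sigmaCore M := by
  have hS := sig_le M
  have hEM := hE.1
  have hnorm : ((Cfsg.sigmaCore M).subgroupOf M).Normal :=
    H10.normal_subgroupOf_of_le (sig_norm M)
  have hcomp : Subgroup.IsComplement' ((Cfsg.sigmaCore M).subgroupOf M) (E.subgroupOf M) :=
    OOT.IsComplIn.isComplement' (H21.complIn_symm hE)
  have hcop : (Nat.card ((Cfsg.sigmaCore M).subgroupOf M)).Coprime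
      ((Cfsg.sigmaCore M).subgroupOf M).index := by
    have h1 := OOT.IsPiHallOf.coprime (sig_hall hG hM)
    rw [card_subgroupOf hS]
    exact h1
  have hle : (Cfsg.sigmaCore M).subgroupOf M ≤ commutator M :=
    OOT.le_commutator_subgroupOf (OOT.sigmaCore_le_derived hG hM)
  obtain ⟨h1, h2⟩ := H1.bg65_a (msol hG hM) hnorm hcop hcomp hle
  constructor
  · rw [H10.centralizer_subgroupOf hEM, H18.commutator_subgroupOf hS hS] at h2
    intro x hx
    exact h2 (x := ⟨x, hS hx.1⟩) ⟨hx.1, hx.2⟩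
  · rw [H18.commutator_subgroupOf hS hEM] at h1
    have h3 := congrArg (Subgroup.map M.subtype) h1
    rw [Subgroup.map_subgroupOf_eq_of_le hS, Subgroup.map_subgroupOf_eq_of_le] at h3
    · exact h3.symm
    · exact (H1.commutator_le_left_of_le_normalizer (hEM.trans (sig_norm M))).trans hS

/-- S1423 in terms of Sylow subgroups of `M` -/
theorem s1423 {M : Subgroup G} (hM : IsCoatom M) {q : ℕ} [hq : Fact q.Prime] (hqσ : q ∈ sigma M)
    {X : Subgroup G} (hXM : X ≤ M) (hX : Nat.card X = q)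
    (h : q ∈ beta M ∨ X ≤ ⁅sigmaCore M, sigmaCore M⁆) :
    Only (centralizer (X : Set G)) M ∧ ∀ S, SylIn q S M → InUniqueMaximal S := by
  refine ⟨(Cfsg.Agent.S1423.result hG M hM q hqσ X hXM hX default h).1, fun S hS => ?_⟩
  have hSσ := sigma_sylow_le hG hM hqσ hS
  have hS' : SylIn q S (sigmaCore M) := hS.of_le hSσ (sig_le M)
  have := (Cfsg.Agent.S1423.result hG M hM q hqσ X hXM hX hS'.toSylow h).2.1
  rwa [hS'.map_toSylow] at this

theorem exists_ea_sq' {M E : Subgroup G} (hM : IsCoatom M) (hE : IsPiHallOf (sc M) E M)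
    {p : ℕ} (h : p ∈ tau2 M) : ∃ A ≤ E, IsElementaryAbelian p A ∧ Nat.card A = p ^ 2 := by
  haveI : Fact p.Prime := ⟨h.1⟩
  obtain ⟨P, hP⟩ := L.exists_sylIn (p := p) E
  have hPM := syl_hall hE (⟨h.1, h.2.1⟩ : p ∈ sc M) hP
  have h1 : ¬ PRankLE p 1 P := by rw [pRankLE_sylIn hPM]; exact h.2.2.2
  obtain ⟨A, hAP, hA, hAc⟩ := exists_ea_of_not_pRankLE h1
  exact ⟨A, hAP.trans hP.le, hA, hAc⟩

/-- BG 13.6 -/
theorem bg136 {M P X : Subgroup G} (hM : IsCoatom M) {p q : ℕ} [hp : Fact p.Prime]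
    [hq : Fact q.Prime] (hpτ : p ∈ tau1 M) (hPM : P ≤ M) (hPc : Nat.card P = p)
    (hX : X ≤ sigmaCore M ⊓ centralizer (P : Set G)) (hXc : Nat.card X = q) :
    Only (centralizer (X : Set G)) M ∧ ∀ S, SylIn q S M → InUniqueMaximal S := by
  have hXσ : X ≤ sigmaCore M := hX.trans inf_le_left
  have hXM : X ≤ M := hXσ.trans (sig_le M)
  have hXπ : IsPiSub (sigma M) X := IsPiSub.mono hXσ (IsPiHallOf.isPi (sig_hall hG hM))
  have hqσ : q ∈ sigma M := hXπ q hq.out (by rw [hXc])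
  refine s1423 hG hM hqσ hXM hXc ?_
  by_cases hqβ : q ∈ beta M
  · exact Or.inl hqβ
  refine Or.inr ?_
  have hPpi : ∀ (π : Set ℕ), p ∈ π → IsPiSub π P := by
    intro π hπ r hr hd
    rw [hPc] at hd
    rwa [(Nat.prime_dvd_prime_iff_eq hr hp.out).1 hd]
  obtain ⟨E, hE, hPE⟩ := exists_compl_ge hG hM hPM (hPpi _ ⟨hp.out, hpτ.2.1⟩)
  have hEM := hE.1
  have hEs : Group.IsSolvable E := sol hG (ne_top_of_le hM hEM)
  have hEc := (compl_sig_iff hG hM).2 hE
  obtain ⟨E₁, hE₁, hPE₁⟩ := exists_hallOf_ge (π := tau1 M) hEs hPE (hPpi _ hpτ)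
  have hEbc : IsPiSub (bc M) E := by
    intro r hr hd
    exact ⟨hr, fun hb => ((IsPiHallOf.isPi hE) r hr hd).2 (beta_sub_sigma hG hM hb)⟩
  obtain ⟨T, hT, hET⟩ := exists_hallOf_ge (π := bc M) (msol hG hM) hEM hEbc
  obtain ⟨Q, hQ, hQT, hTQ, hTc, -⟩ := hallT hG hM hT hqσ hqβ
  have hE₁E := hE₁.1
  have hE₁M := hE₁E.trans hEM
  have hqE : ¬ q ∣ Nat.card E := fun hd => ((IsPiHallOf.isPi hE) q hq.out hd).2 hqσ
  have hE₁C : sigmaCore M ⊓ centralizer (P : Set G) ≤ centralizer (E₁ : Set G) :=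
    bg135 hG hM hE₁M (IsPiHallOf.isPi hE₁) hPE₁ hPc
  have hXE₁ : X ≤ centralizer (E₁ : Set G) := hX.trans hE₁C
  have hcop : (Nat.card E₁).Coprime (Nat.card (sigmaCore M)) := by
    refine Nat.Coprime.coprime_dvd_left (Subgroup.card_dvd_of_le hE₁E) ?_
    apply Nat.coprime_of_dvd
    intro r hr h1 h2
    exact ((IsPiHallOf.isPi hE) r hr h1).2 ((IsPiHallOf.isPi (sig_hall hG hM)) r hr h2)
  have hQσ : Q ≤ sigmaCore M := sigma_sylow_le hG hM hqσ hQ
  have hQ' : SylIn q Q (sigmaCore M) := hQ.of_le hQσ (sig_le M)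
  obtain ⟨c, hc, hcX⟩ := inv_syl_conj_le (A := E₁) (K := sigmaCore M) (hE₁M.trans (sig_norm M)) hcop
    (sol hG (ne_top_of_le hM (sig_le M))) hQ' ((hE₁E.trans hET).trans hTQ) hXσ
    (isPGroup_of_card hXc) (le_cent_comm.1 hXE₁ |>.trans (cent_le_nz X))
  obtain ⟨Y, hY⟩ : ∃ Y, Y = cj c X := ⟨_, rfl⟩
  rw [← hY] at hcX
  have hYC : Y ≤ centralizer (E₁ : Set G) := hY ▸ cent_cj_le hc.2 hXE₁
  have hYσ : Y ≤ sigmaCore M := hcX.trans hQσ
  have hYc : Nat.card Y = q := by rw [hY, L.card_cj, hXc]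
  have hYP : Y ≤ centralizer (P : Set G) :=
    hYC.trans (centralizer_le hPE₁)
  -- `q'`-subgroups of `T ⊓ M'` centralize `Y`
  have hkey : ∀ H ≤ T ⊓ ⁅M, M⁆, ¬ q ∣ Nat.card H → H ≤ centralizer (Y : Set G) := fun H hH hd =>
    (hTc H hH hd).trans (centralizer_le hcX)
  have hEE : ⁅E, E⁆ ≤ centralizer (Y : Set G) := by
    have h0 : ⁅E, E⁆ ≤ E := H1.commutator_le_left_of_le_normalizer Subgroup.le_normalizer
    refine hkey _ (le_inf (h0.trans hET) (commutator_mono hEM hEM)) ?_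
    intro hd
    exact hqE (hd.trans (Subgroup.card_dvd_of_le h0))
  have hEY : E ≤ centralizer (Y : Set G) := by
    apply le_of_sylow_le
    intro r hr' hrd
    haveI hr : Fact r.Prime := ⟨hr'⟩
    have hrσ := ((IsPiHallOf.isPi hE) r hr' hrd).2
    have hrM : r ∣ Nat.card M := hrd.trans (Subgroup.card_dvd_of_le hEM)
    rcases tau_cases hG hM hr' hrM hrσ with h1 | h2 | h3
    · obtain ⟨R, hR⟩ := L.exists_sylIn (p := r) E₁
      exact ⟨R, syl_hall hE₁ h1 hR, hR.le.trans (le_cent_comm.1 hYC)⟩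
    · exfalso
      obtain ⟨A, hAE, hA, hAc⟩ := exists_ea_sq' hG hM hE h2
      have hAM := hAE.trans hEM
      obtain ⟨⟨hEA, -⟩, -, -⟩ := Cfsg.Agent.S1418.result hG M hM E hEc r h2 A ⟨hAE, hA, hAc⟩
      obtain ⟨-, -, -, hCA, -, -⟩ := Cfsg.Agent.S1417.result hG M hM r h2 A ⟨hAM, hA, hAc⟩
      have hcop' : (Nat.card E₁).Coprime (Nat.card A) := by
        rw [hAc]
        refine Nat.Coprime.pow_right 2 ((Nat.Prime.coprime_iff_not_dvd hr').2 ?_).symm
        intro hd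
        exact h2.2.2.2 (((IsPiHallOf.isPi hE₁) r hr' hd).2.2.2.2)
      have hdec := H23.commutator_sup_centralizer (hE₁E.trans hEA) hcop'
        (Or.inl (sol hG (ne_top_of_le hM hE₁M)))
      have hAY : A ≤ centralizer (Y : Set G) := by
        rw [← hdec]
        refine sup_le ((commutator_mono hAE hE₁E).trans hEE) ?_
        intro x hx
        by_cases hx1 : x = 1
        · rw [hx1]; exact one_mem _
        have hxr : x ^ r = 1 := hA.2 x hx.1
        have hRc := card_zpowers_eq_prime hxr hx1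
        have h8 := bg134 hG hM hpτ hPM hPc hrσ (R := zpowers x)
          (Subgroup.zpowers_le.2 (hAM hx.1)) hRc
          (Subgroup.zpowers_le.2 (centralizer_le hPE₁ hx.2))
        exact le_cent_comm.1 ((le_inf hYσ hYP).trans h8) (Subgroup.mem_zpowers x)
      have h9 : Y ≤ ⊥ := hCA ▸ le_inf hYσ (le_cent_comm.1 hAY)
      exact ne_bot_of_card hYc (le_bot_iff.1 h9)
    · obtain ⟨R, hR⟩ := L.exists_sylIn (p := r) E
      refine ⟨R, hR, hkey R (le_inf (hR.le.trans hET) ?_) ?_⟩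
      · exact le_derived hG hM (Or.inr h3) (hR.le.trans hEM) hR.isPGroup
      · intro hd
        exact hqE (hd.trans (Subgroup.card_dvd_of_le hR.le))
  have hY' : Y ≤ ⁅sigmaCore M, sigmaCore M⁆ :=
    (le_inf hYσ (le_cent_comm.1 hEY)).trans (bg1217 hG hM hEc).1
  have hX2 : X = cj c⁻¹ Y := by rw [hY, L.cj_inv_cj]
  rw [hX2]
  have h7 : c⁻¹ ∈ nz ⁅sigmaCore M, sigmaCore M⁆ :=
    nz_comm_self _ (Subgroup.le_normalizer ((sigmaCore M).inv_mem hc.1))
  rw [← L.mem_nz_iff.1 h7]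
  exact L.cj_mono hY'

end Cfsg.Agent.H14.O
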