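import Cfsg.Agent.H14.ONine

set_option autoImplicit false

/-! toward BG 13.10 -/

namespace Cfsg.Agent.H14.O

open Subgroup
open Cfsg.Agent.L (cj nz SylIn)
open Cfsg.Agent.H14 (IsPiSub)
open Cfsg.Agent.OOT
open Cfsg.Agent.H21
open scoped commutatorElement

universe u

variable {G : Type u} [Group G] [Finite G] (hG : IsMinSimpleOddOrder G)
include hG

/-- the unique-centralizer part of S1418 -/
theorem tau2_only {M X : Subgroup G} (hM : IsCoatom M) {p : ℕ} [hp : Fact p.Prime]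
    (hτ : p ∈ tau2 M) (hXM : X ≤ M) (hXc : Nat.card X = p)
    (h : sigmaCore M ⊓ centralizer (X : Set G) ≠ ⊥) : Only (centralizer (X : Set G)) M := by
  obtain ⟨E, hE, hXE⟩ := exists_compl_ge hG hM hXM (isPiSub_of_card hXc ⟨hp.out, hτ.2.1⟩)
  obtain ⟨A, hAE, hA, hAc⟩ := exists_ea_sq' hG hM hE hτ
  obtain ⟨⟨-, h1⟩, -, h2⟩ := Cfsg.Agent.S1418.result hG M hM E ((compl_sig_iff hG hM).2 hE) p hτ A
    ⟨hAE, hA, hAc⟩
  exact h2 X (h1 X hXE hXc) hXc h

/-- a maximal subgroup over `N(A)`, `A` elementary abelian of order `p²`, `p ∈ τ₂(M)` -/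
theorem exists_over {M E A : Subgroup G} (hM : IsCoatom M) (hE : IsPiHallOf (sc M) E M) {p : ℕ}
    [hp : Fact p.Prime] (hτ : p ∈ tau2 M) (hAE : A ≤ E) (hA : IsElementaryAbelian p A)
    (hAc : Nat.card A = p ^ 2) :
    ∃ D, IsCoatom D ∧ nz A ≤ D ∧ D ≠ M ∧ p ∈ sigma D ∧ p ∉ beta D ∧ E ≤ D := by
  obtain ⟨⟨hEA, -⟩, ⟨-, -, hN⟩, -⟩ := Cfsg.Agent.S1418.result hG M hM E
    ((compl_sig_iff hG hM).2 hE) p hτ A ⟨hAE, hA, hAc⟩
  have hA1 : A ≠ ⊥ := by
    rintro rfl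
    rw [Subgroup.card_bot] at hAc
    have := Nat.one_lt_pow (two_ne_zero) hp.out.one_lt
    omega
  have hAt : A ≠ ⊤ := ne_top_of_le hM (hAE.trans hE.1)
  obtain ⟨D, hD, hND⟩ := exists_coatom_ge (normalizer_ne_top hG hA1 hAt)
  have hne : D ≠ M := fun e => hN (e ▸ hND)
  have hAD : A ≤ D := Subgroup.le_normalizer.trans hND
  refine ⟨D, hD, hND, hne, ?_, ?_, hEA.trans hND⟩
  · by_contra hpD
    have hτD := tau2_of_ea hG hD hpD hAD hA hAc
    obtain ⟨F, hF, hAF⟩ := exists_compl_ge hG hD hAD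
      (isPiSub_of_isPGroup (⟨hp.out, hpD⟩ : p ∈ sc D) (isEA_isPGroup hA))
    obtain ⟨-, ⟨-, -, hN'⟩, -⟩ := Cfsg.Agent.S1418.result hG D hD F
      ((compl_sig_iff hG hD).2 hF) p hτD A ⟨hAF, hA, hAc⟩
    exact hN' hND
  · intro hb
    exact (Cfsg.Agent.S1408.result hG M hM p hτ.2.1 hτ.2.2.1 hτ.2.2.2).1 hb.2

/-- a `p'`-subgroup of prime order normalizing `A` nontrivially lies in `τ₁ ∪ τ₂` -/
theorem tau12_of_act {D A Y : Subgroup G} (hD : IsCoatom D) {p q : ℕ} [hp : Fact p.Prime]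
    [hq : Fact q.Prime] (hpβ : p ∉ beta D) (hA : IsPGroup p A) (hAD : A ≤ D) (hYD : Y ≤ D)
    (hYc : Nat.card Y = q) (hpq : p ≠ q) (hYA : Y ≤ nz A) (hne : ¬ Y ≤ centralizer (A : Set G)) :
    q ∈ tau1 D ∨ q ∈ tau2 D := by
  have hqD : q ∣ Nat.card D := by rw [← hYc]; exact Subgroup.card_dvd_of_le hYD
  have hder : ¬ (q ∈ sigma D ∨ q ∈ tau3 D) := by
    intro h
    apply hne
    refine ncomp_cent hG hD hpβ (le_derived hG hD h hYD (isPGroup_of_card hYc)) ?_ hA hAD hYA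
    rw [hYc]
    intro hd
    exact hpq ((Nat.prime_dvd_prime_iff_eq hp.out hq.out).1 hd)
  rcases tau_cases hG hD hq.out hqD (fun h => hder (Or.inl h)) with h1 | h2 | h3
  · exact Or.inl h1
  · exact Or.inr h2
  · exact absurd (Or.inr h3) hder

/-- step toward BG 13.10, 14.2 -/
theorem b2 {M X Y H : Subgroup G} (hM : IsCoatom M) (hH : IsCoatom H) {p q : ℕ}
    [hp : Fact p.Prime] [hq : Fact q.Prime] (hpσ : p ∉ sigma M) (hr : PRankLE p 1 M)
    (hXM : X ≤ M) (hXc : Nat.card X = p) (hY : Y ≤ sigmaCore M ⊓ centralizer (X : Set G))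
    (hYc : Nat.card Y = q) (hO : Only (centralizer (Y : Set G)) M) (hN : nz X ≤ H) :
    p ∈ sigma H := by
  have hXp := isPGroup_of_card hXc
  have hX1 := ne_bot_of_card hXc
  have hnc := nc_of_nz hG hM hH hpσ hr hXp hX1 hN
  by_contra hpH
  have hpH2 : PRankLE p 2 H := pRankLE_two_of_not_sigma hG hH hp.out hpH
  have hτ : p ∈ tau2 H := ⟨hp.out, hpH, hpH2, not_rank_one hG hH hXp hX1 hN hpH⟩
  have hqM : q ∈ sigma M := mem_of_isPiSub_card hYc
    (IsPiSub.mono (hY.trans inf_le_left) (IsPiHallOf.isPi (sig_hall hG hM)))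
  have hqH : q ∉ sigma H := fun h => sigma_disjoint hG hM hH hnc hqM h
  have hXH : X ≤ H := Subgroup.le_normalizer.trans hN
  have hYX : Y ≤ centralizer (X : Set G) := hY.trans inf_le_right
  have hXY : X ≤ centralizer (Y : Set G) := le_cent_comm.1 hYX
  have hYH : Y ≤ H := (hYX.trans (cent_le_nz X)).trans hN
  have hpq : p ≠ q := fun e => hpσ (e ▸ hqM)
  have hXYpi : IsPiSub (sc H) (X ⊔ Y) := isPiSub_sup (hYX.trans (cent_le_nz X))
    (isPiSub_of_card hXc ⟨hp.out, hpH⟩) (isPiSub_of_card hYc ⟨hq.out, hqH⟩)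
  obtain ⟨F, hF, hXYF⟩ := exists_compl_ge hG hH (sup_le hXH hYH) hXYpi
  obtain ⟨A, hAF, hA, hAc⟩ := exists_ea_sq' hG hH hF hτ
  obtain ⟨⟨hFA, hun⟩, -, -⟩ := Cfsg.Agent.S1418.result hG H hH F
    ((compl_sig_iff hG hH).2 hF) p hτ A ⟨hAF, hA, hAc⟩
  have hXA : X ≤ A := hun X (le_sup_left.trans hXYF) hXc
  have hYF : Y ≤ F := le_sup_right.trans hXYF
  have hAM : ¬ A ≤ M := fun h => not_pRankLE_of_ea h hA (by rw [hAc]) hr
  have hYA : ¬ Y ≤ centralizer (A : Set G) := fun h => hAM ((le_cent_comm.1 h).trans hO.1)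
  obtain ⟨D, hD, hND, hne, hpD, hpβ, hFD⟩ := exists_over hG hH hF hτ hAF hA hAc
  have hAD : A ≤ D := Subgroup.le_normalizer.trans hND
  have hXσ : X ≤ sigmaCore D := le_sigmaCore hG hD (hXA.trans hAD) (isPiSub_of_card hXc hpD)
  rcases tau12_of_act hG hD hpβ (isEA_isPGroup hA) hAD (hYF.trans hFD) hYc hpq (hYF.trans hFA)
    hYA with h1 | h1
  · have h2 := (bg136 hG hD h1 (hYF.trans hFD) hYc (le_inf hXσ hXY) hXc).1
    exact hne (h2.2 H hH ((cent_le_nz X).trans hN)).symm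
  · have h2 := tau2_only hG hD h1 (hYF.trans hFD) hYc
      (fun e => hX1 (le_bot_iff.1 (e ▸ le_inf hXσ hXY)))
    have h3 := hO.2 D hD h2.1
    exact hAM (h3 ▸ hAD)

/-- an element of prime order in `τ₁` with nontrivial centralizer in `M_σ` centralizes no
`τ₂`-element -/
theorem t7 {M P R : Subgroup G} (hM : IsCoatom M) {p r : ℕ} [hp : Fact p.Prime]
    [hr : Fact r.Prime] (hpτ : p ∈ tau1 M) (hrτ : r ∈ tau2 M) (hPM : P ≤ M)
    (hPc : Nat.card P = p) (hne : sigmaCore M ⊓ centralizer (P : Set G) ≠ ⊥) (hRM : R ≤ M)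
    (hRc : Nat.card R = r) (hRP : R ≤ centralizer (P : Set G)) : False := by
  have h134 := bg134 hG hM hpτ hPM hPc hrτ.2.1 hRM hRc hRP
  obtain ⟨q, hq, Q, hQ, hQc⟩ := exists_prime_sub hne
  have hQ1 := ne_bot_of_card hQc
  have hOR : Only (centralizer (R : Set G)) M := by
    refine tau2_only hG hM hrτ hRM hRc fun e => hQ1 (le_bot_iff.1 ?_)
    rw [← e]; exact le_inf (hQ.trans inf_le_left) (hQ.trans h134)
  have hrp : r ≠ p := fun e => hrτ.2.2.2 (e ▸ hpτ.2.2.2.2)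
  have hPRpi : IsPiSub (sc M) (P ⊔ R) := isPiSub_sup (hRP.trans (cent_le_nz P))
    (isPiSub_of_card hPc ⟨hp.out, hpτ.2.1⟩) (isPiSub_of_card hRc ⟨hr.out, hrτ.2.1⟩)
  obtain ⟨E, hE, hPRE⟩ := exists_compl_ge hG hM (sup_le hPM hRM) hPRpi
  obtain ⟨A, hAE, hA, hAc⟩ := exists_ea_sq' hG hM hE hrτ
  obtain ⟨⟨hEA, hun⟩, -, -⟩ := Cfsg.Agent.S1418.result hG M hM E
    ((compl_sig_iff hG hM).2 hE) r hrτ A ⟨hAE, hA, hAc⟩
  have hAM := hAE.trans hE.1
  obtain ⟨-, -, -, hCA, -, -⟩ := Cfsg.Agent.S1417.result hG M hM r hrτ A ⟨hAM, hA, hAc⟩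
  have hRA : R ≤ A := hun R (le_sup_right.trans hPRE) hRc
  have hPE : P ≤ E := le_sup_left.trans hPRE
  have hPA : ¬ P ≤ centralizer (A : Set G) := by
    intro h
    apply hne
    rw [← le_bot_iff, ← hCA]
    refine le_inf inf_le_left ?_
    rw [le_cent_comm]
    intro x hx
    by_cases hx1 : x = 1
    · rw [hx1]; exact one_mem _
    have hxr : x ^ r = 1 := hA.2 x hx
    have hXc := card_zpowers_eq_prime hxr hx1
    have h8 := bg134 hG hM hpτ hPM hPc hrτ.2.1 (R := zpowers x)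
      (Subgroup.zpowers_le.2 (hAM hx)) hXc
      (Subgroup.zpowers_le.2 (le_cent_comm.1 h hx))
    exact le_cent_comm.1 h8 (Subgroup.mem_zpowers x)
  obtain ⟨D, hD, hND, hneD, hrD, hrβ, hED⟩ := exists_over hG hM hE hrτ hAE hA hAc
  have hAD : A ≤ D := Subgroup.le_normalizer.trans hND
  have hRσ : R ≤ sigmaCore D := le_sigmaCore hG hD (hRA.trans hAD) (isPiSub_of_card hRc hrD)
  rcases tau12_of_act hG hD hrβ (isEA_isPGroup hA) hAD (hPE.trans hED) hPc hrp (hPE.trans hEA)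
    hPA with h1 | h1
  · have h2 := (bg136 hG hD h1 (hPE.trans hED) hPc (le_inf hRσ hRP) hRc).1
    exact hneD (hOR.2 D hD h2.1)
  · have h2 := tau2_only hG hD h1 (hPE.trans hED) hPc
      (fun e => ne_bot_of_card hRc (le_bot_iff.1 (e ▸ le_inf hRσ hRP)))
    have h3 := tau2_inf hG hM hrτ.2.1 hAM hA hAc hD hneD hAD
    apply hQ1
    rw [← le_bot_iff, ← h3]
    exact le_inf (hQ.trans inf_le_left) ((hQ.trans inf_le_right).trans h2.1)

end Cfsg.Agent.H14.O
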