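import Cfsg.Agent.H14.OTen

set_option autoImplicit false

/-! BG 13.10 -/

namespace Cfsg.Agent.H14.O

open Subgroup
open Cfsg.Agent.L (cj nz SylIn)
open Cfsg.Agent.H14 (IsPiSub)
open Cfsg.Agent.OOT
open Cfsg.Agent.H21
open scoped commutatorElement

universe u

section General
variable {G : Type u} [Group G] [Finite G]

/-- BG 6.5(a) inside a subgroup -/
theorem bg65 {K N T : Subgroup G} {π : Set ℕ} (hs : Group.IsSolvable K) (hn : K ≤ nz N)
    (hN : IsPiHallOf π N K) (hc : IsComplIn N T K) (hle : N ≤ ⁅K, K⁆) :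
    N ⊓ centralizer (T : Set G) ≤ ⁅N, N⁆ ∧ ⁅N, T⁆ = N := by
  have hS := hN.1
  have hEM := hc.2.1
  have hnorm : (N.subgroupOf K).Normal := H10.normal_subgroupOf_of_le hn
  have hcomp : Subgroup.IsComplement' (N.subgroupOf K) (T.subgroupOf K) :=
    OOT.IsComplIn.isComplement' hc
  have hcop : (Nat.card (N.subgroupOf K)).Coprime (N.subgroupOf K).index := by
    have h1 := OOT.IsPiHallOf.coprime hN
    rw [card_subgroupOf hS]
    exact h1
  have hle' : N.subgroupOf K ≤ commutator K := OOT.le_commutator_subgroupOf hle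
  obtain ⟨h1, h2⟩ := H1.bg65_a hs hnorm hcop hcomp hle'
  constructor
  · rw [H10.centralizer_subgroupOf hEM, H18.commutator_subgroupOf hS hS] at h2
    intro x hx
    exact h2 (x := ⟨x, hS hx.1⟩) ⟨hx.1, hx.2⟩
  · rw [H18.commutator_subgroupOf hS hEM] at h1
    have h3 := congrArg (Subgroup.map K.subtype) h1
    rw [Subgroup.map_subgroupOf_eq_of_le hS, Subgroup.map_subgroupOf_eq_of_le] at h3
    · exact h3.symm
    · exact (H1.commutator_le_left_of_le_normalizer (hEM.trans hn)).trans hS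

theorem isCyclic_comm {A : Subgroup G} (h : IsCyclic A) : ⁅A, A⁆ = ⊥ := by
  rw [Subgroup.commutator_eq_bot_iff_le_centralizer]
  exact cent_self_of_cyclic h le_rfl

/-- subgroups of a normal cyclic subgroup are normal -/
theorem nz_of_cyclic {E A R : Subgroup G} (hA : IsCyclic A) (hE : E ≤ nz A) (hR : R ≤ A) :
    E ≤ nz R := by
  intro g hg
  rw [L.mem_nz_iff]
  exact OOT.eq_of_card_of_cyclic hA (by rw [← L.mem_nz_iff.1 (hE hg)]; exact L.cj_mono hR) hR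
    (L.card_cj g R)

theorem comm_ne_bot {S P : Subgroup G} (h : ¬ P ≤ centralizer (S : Set G)) : ⁅S, P⁆ ≠ ⊥ := by
  intro h'
  exact h (le_cent_comm.1 (Subgroup.commutator_eq_bot_iff_le_centralizer.1 h'))

theorem eq_of_le_card_prime {A R : Subgroup G} {r : ℕ} (hr : r.Prime) (hR : Nat.card R = r)
    (h : A ≤ R) (h1 : A ≠ ⊥) : A = R := by
  rcases (Nat.dvd_prime hr).1 (hR ▸ Subgroup.card_dvd_of_le h) with h2 | h2
  · exact absurd (Subgroup.card_eq_one.1 h2) h1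
  · exact L.eq_of_le_of_card_le h (by rw [h2, hR])

theorem comm_prime {R P : Subgroup G} {r : ℕ} (hr : r.Prime) (hR : Nat.card R = r)
    (hPR : P ≤ nz R) (h : ¬ P ≤ centralizer (R : Set G)) : ⁅R, P⁆ = R :=
  eq_of_le_card_prime hr hR (H1.commutator_le_left_of_le_normalizer hPR) (comm_ne_bot h)

end General

variable {G : Type u} [Group G] [Finite G] (hG : IsMinSimpleOddOrder G)

include hG in
theorem cop_sc {M A : Subgroup G} (hM : IsCoatom M) (hA : IsPiSub (sc M) A) :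
    (Nat.card A).Coprime (Nat.card (sigmaCore M)) := by
  apply Nat.coprime_of_dvd
  intro s hs h1 h2
  exact (hA s hs h1).2 ((IsPiHallOf.isPi (sig_hall hG hM)) s hs h2)

structure T10 (M E E₁ E₃ R : Subgroup G) (r : ℕ) : Prop where
  hM : IsCoatom M
  hE : IsPiHallOf (sc M) E M
  hE₁ : IsPiHallOf (tau1 M) E₁ E
  hE₃ : IsPiHallOf (tau3 M) E₃ E
  hr : r.Prime
  hR : R ≤ E₃
  Rc : Nat.card R = r
  hne : sigmaCore M ⊓ centralizer (R : Set G) ≠ ⊥

namespace T10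
variable {M E E₁ E₃ R : Subgroup G} {r : ℕ} (h : T10 M E E₁ E₃ R r)
include hG h

theorem E₃s : IsCyclic E₃ ∧ E₃ ≤ ⁅E, E⁆ ∧ E ≤ nz E₃ :=
  (Cfsg.Agent.S1415.result hG M h.hM E ((compl_sig_iff hG h.hM).2 h.hE)).2.2 E₃ h.hE₃

theorem E_nz : E ≤ nz R := nz_of_cyclic (h.E₃s hG).1 (h.E₃s hG).2.2 h.hR

omit hG in
theorem rτ : r ∈ tau3 M := by
  haveI : Fact r.Prime := ⟨h.hr⟩
  exact mem_of_isPiSub_card h.Rc (IsPiSub.mono h.hR (IsPiHallOf.isPi h.hE₃))

omit hG in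
theorem RE : R ≤ E := h.hR.trans h.hE₃.1

omit hG in
theorem RM : R ≤ M := h.RE.trans h.hE.1

theorem C₃ : sigmaCore M ⊓ centralizer (R : Set G) = sigmaCore M ⊓ centralizer (E₃ : Set G) := by
  haveI : Fact r.Prime := ⟨h.hr⟩
  apply le_antisymm
  · exact le_inf inf_le_left (bg133b hG h.hM (h.hE₃.1.trans h.hE.1) (IsPiHallOf.isPi h.hE₃)
      h.hR h.Rc)
  · exact inf_le_inf_left _ (centralizer_le h.hR)

theorem other {R' : Subgroup G} {r' : ℕ} (hr' : r'.Prime) (hR' : R' ≤ E₃)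
    (hc : Nat.card R' = r') : T10 M E E₁ E₃ R' r' := by
  refine ⟨h.hM, h.hE, h.hE₁, h.hE₃, hr', hR', hc, fun e => h.hne ?_⟩
  rw [h.C₃ hG, ← le_bot_iff, ← e]
  exact inf_le_inf_left _ (centralizer_le hR')

theorem Rne : R ≠ ⊥ := by
  haveI : Fact r.Prime := ⟨h.hr⟩
  exact ne_bot_of_card h.Rc

theorem exists_H : ∃ H, IsCoatom H ∧ nz R ≤ H := by
  exact exists_coatom_ge (normalizer_ne_top hG (h.Rne hG) (ne_top_of_le h.hM h.RM))

theorem nc {H : Subgroup G} (hH : IsCoatom H) (hN : nz R ≤ H) : NC M H := by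
  haveI : Fact r.Prime := ⟨h.hr⟩
  exact nc_of_nz hG h.hM hH h.rτ.2.1 h.rτ.2.2.2 (isPGroup_of_card h.Rc) (h.Rne hG) hN

theorem tau2 {p : ℕ} (hp : p ∈ tau2 M) : False := by
  haveI : Fact p.Prime := ⟨hp.1⟩
  obtain ⟨A, hAE, hA, hAc⟩ := exists_ea_sq' hG h.hM h.hE hp
  obtain ⟨H, hH, hN⟩ := h.exists_H hG
  have h1 := tau2_inf hG h.hM hp.2.1 (hAE.trans h.hE.1) hA hAc hH (h.nc hG hH hN).ne.symm
    ((hAE.trans (h.E_nz hG)).trans hN)
  apply h.hne
  rw [← le_bot_iff, ← h1]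
  exact le_inf inf_le_left ((inf_le_right.trans (cent_le_nz R)).trans hN)

theorem E_le {Z : Subgroup G} (h1 : E₁ ≤ Z) (h3 : E₃ ≤ Z) : E ≤ Z := by
  apply le_of_sylow_le
  intro s hs hsd
  haveI : Fact s.Prime := ⟨hs⟩
  have hsσ := ((IsPiHallOf.isPi h.hE) s hs hsd).2
  have hsM : s ∣ Nat.card M := hsd.trans (Subgroup.card_dvd_of_le h.hE.1)
  rcases tau_cases hG h.hM hs hsM hsσ with h4 | h4 | h4
  · obtain ⟨S, hS⟩ := L.exists_sylIn (p := s) E₁
    exact ⟨S, syl_hall h.hE₁ h4 hS, hS.le.trans h1⟩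
  · exact (h.tau2 hG h4).elim
  · obtain ⟨S, hS⟩ := L.exists_sylIn (p := s) E₃
    exact ⟨S, syl_hall h.hE₃ h4 hS, hS.le.trans h3⟩

theorem solE : Group.IsSolvable E := sol hG (ne_top_of_le h.hM h.hE.1)

theorem compl : IsComplIn E₃ E₁ E := by
  have h1 : IsPiHallOf {q | q ∉ tau3 M} E₁ E := by
    refine ⟨h.hE₁.1, fun s hs hd h3 => ?_, fun s hs h3 hd => ?_⟩
    · exact ((IsPiHallOf.isPi h.hE₁) s hs hd).2.2.2.1 h3.2.2.1
    · have hsd : s ∣ Nat.card E := hd.trans (Subgroup.relIndex_dvd_card _ _)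
      have hsσ := ((IsPiHallOf.isPi h.hE) s hs hsd).2
      have hsM : s ∣ Nat.card M := hsd.trans (Subgroup.card_dvd_of_le h.hE.1)
      rcases tau_cases hG h.hM hs hsM hsσ with h4 | h4 | h4
      · exact h.hE₁.2.2 s hs h4 hd
      · exact (h.tau2 hG h4).elim
      · exact h3 h4
  exact complIn_symm ((compl_iff (π := tau3 M) (fun p _ => Iff.rfl) h.hE₃).2 h1)

theorem reg₁ : E₃ ⊓ centralizer (E₁ : Set G) = ⊥ := by
  obtain ⟨hc, hle, hn⟩ := h.E₃s hG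
  have := (bg65 (h.solE hG) hn h.hE₃ (h.compl hG) hle).1
  rwa [isCyclic_comm hc, le_bot_iff] at this

theorem not_cent : ¬ R ≤ centralizer (sigmaCore M : Set G) := by
  intro h1
  haveI : Fact r.Prime := ⟨h.hr⟩
  have h2 : M ≤ nz R := by
    intro x hx
    obtain ⟨e, he, s, hs, rfl⟩ := ((compl_sig_iff hG h.hM).2 h.hE).2.2.2 x hx
    exact (nz R).mul_mem (h.E_nz hG he) ((le_cent_comm.1 h1).trans (cent_le_nz R) hs)
  have h3 := coatom_normalizer_eq hG h.hM (h.Rne hG) h.RM h2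
  exact not_rank_one hG h.hM (isPGroup_of_card h.Rc) (h.Rne hG) h3.le h.rτ.2.1 h.rτ.2.2.2

theorem exists_P {p : ℕ} (hp : p ∈ tau1 M) : ∃ P ≤ E₁, Nat.card P = p := by
  haveI : Fact p.Prime := ⟨hp.1⟩
  have h1 : p ∣ Nat.card E := dvd_hall h.hE hp.1 ⟨hp.1, hp.2.1⟩ hp.2.2.1
  have h2 : p ∣ Nat.card E₁ := dvd_hall h.hE₁ hp.1 hp h1
  obtain ⟨x, hx⟩ := exists_prime_orderOf_dvd_card' p h2
  refine ⟨zpowers (x : G), Subgroup.zpowers_le.2 x.2, ?_⟩
  rw [Nat.card_zpowers, Subgroup.orderOf_coe, hx]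

theorem beta (hnot : ¬ sigmaCore M ⊓ centralizer (E₃ : Set G) ≤ centralizer (E₁ : Set G))
    {H : Subgroup G} (hH : IsCoatom H) (hN : nz R ≤ H) :
    (∀ p ∈ tau1 M, p ∈ tau1 H) ∧ r ∈ sigma H ∧
      ∀ (p : ℕ) (P : Subgroup G), p.Prime → P ≤ E₁ → Nat.card P = p →
        ¬ P ≤ centralizer ((sigmaCore M ⊓ centralizer (E₃ : Set G) : Subgroup G) : Set G) ∧
        ¬ P ≤ centralizer (R : Set G) := by
  haveI : Fact r.Prime := ⟨h.hr⟩
  have hnc := h.nc hG hH hN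
  have hC₃H : sigmaCore M ⊓ centralizer (E₃ : Set G) ≤ sigmaCore M ⊓ H := by
    refine le_inf inf_le_left ?_
    rw [← h.C₃ hG]
    exact (inf_le_right.trans (cent_le_nz R)).trans hN
  have hEH : E ≤ M ⊓ H := le_inf h.hE.1 ((h.E_nz hG).trans hN)
  obtain ⟨hα, -, -, hγ⟩ := bg132 hG h.hM hH h.rτ.2.1 h.rτ.2.2.2 (isPGroup_of_card h.Rc) (h.Rne hG)
    h.RM hN
  have hE₁M := h.hE₁.1.trans h.hE.1
  have key : ∀ (p : ℕ) (P : Subgroup G), p.Prime → P ≤ E₁ → Nat.card P = p →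
      ¬ P ≤ centralizer ((sigmaCore M ⊓ centralizer (E₃ : Set G) : Subgroup G) : Set G) ∧
      p ∈ tau1 H := by
    intro p P hp hPE₁ hPc
    haveI : Fact p.Prime := ⟨hp⟩
    have h1 : ¬ P ≤ centralizer ((sigmaCore M ⊓ centralizer (E₃ : Set G) : Subgroup G) : Set G) := by
      intro h2
      apply hnot
      exact (le_inf inf_le_left (le_cent_comm.1 h2)).trans
        (bg135 hG h.hM hE₁M (IsPiHallOf.isPi h.hE₁) hPE₁ hPc)
    refine ⟨h1, ?_⟩
    by_contra hpH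
    apply h1
    refine (hα P ((hPE₁.trans h.hE₁.1).trans hEH) ?_).trans (centralizer_le hC₃H)
    intro s hs hd
    have hsp : s = p := by
      rw [hPc] at hd
      exact (Nat.prime_dvd_prime_iff_eq hs hp).1 hd
    subst hsp
    exact ⟨(mem_of_isPiSub_card hPc (IsPiSub.mono hPE₁ (IsPiHallOf.isPi h.hE₁)) :
      s ∈ tau1 M).2.1, hpH⟩
  have hτ : ∀ p ∈ tau1 M, p ∈ tau1 H := by
    intro p hp
    obtain ⟨P, hP, hPc⟩ := h.exists_P hG hp
    exact (key p P hp.1 hP hPc).2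
  have hE₁1 : E₁ ≠ ⊥ := by
    intro e
    apply hnot
    rw [e, le_cent_comm]
    exact bot_le
  have hrH : r ∈ sigma H := by
    obtain ⟨p, hp, P, hPE₁, hPc⟩ := exists_prime_sub hE₁1
    refine (hγ fun e => ?_).1
    apply (key p P hp.out hPE₁ hPc).1
    rw [Subgroup.commutator_eq_bot_iff_le_centralizer] at e
    exact (((hPE₁.trans h.hE₁.1).trans hEH).trans (le_cent_comm.1 e)).trans (centralizer_le hC₃H)
  refine ⟨hτ, hrH, fun p P hp hPE₁ hPc => ⟨(key p P hp hPE₁ hPc).1, fun hc => ?_⟩⟩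
  haveI : Fact p.Prime := ⟨hp⟩
  have hRH : R ≤ H := Subgroup.le_normalizer.trans hN
  have hRσ : R ≤ sigmaCore H := le_sigmaCore hG hH hRH (isPiSub_of_card h.Rc hrH)
  have h1 := bg135 hG hH (M := H) (E₁ := E₁) (P₀ := P) (p := p)
    ((h.hE₁.1.trans hEH).trans inf_le_right)
    (fun s hs hd => hτ s ((IsPiHallOf.isPi h.hE₁) s hs hd)) hPE₁ hPc
  have h2 : R ≤ E₃ ⊓ centralizer (E₁ : Set G) :=
    le_inf h.hR ((le_inf hRσ (le_cent_comm.1 hc)).trans h1)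
  rw [h.reg₁ hG] at h2
  exact h.Rne hG (le_bot_iff.1 h2)

omit h in
theorem sigcent_ne (h : T10 M E E₁ E₃ R r) {P : Subgroup G} {p : ℕ} (hp : p.Prime) (hPE : P ≤ E)
    (hPc : Nat.card P = p) (hpr : p ≠ r) (hPR : ¬ P ≤ centralizer (R : Set G)) :
    ¬ sigmaCore M ⊓ centralizer (P : Set G) ≤ centralizer (R : Set G) := by
  intro hle
  haveI : Fact r.Prime := ⟨h.hr⟩
  haveI : Fact p.Prime := ⟨hp⟩
  apply h.not_cent hG
  refine t3_solv (odd_card hG) (sol hG (ne_top_of_le h.hM (sig_le M))) (isPGroup_of_card h.Rc)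
    (h.RM.trans (sig_norm M)) ((hPE.trans h.hE.1).trans (sig_norm M)) (hPE.trans (h.E_nz hG))
    (by rw [hPc]; exact hp) (cop_sc hG h.hM (IsPiSub.mono h.RE (IsPiHallOf.isPi h.hE)))
    (cop_sc hG h.hM (IsPiSub.mono hPE (IsPiHallOf.isPi h.hE))) ?_
    (comm_prime h.hr h.Rc (hPE.trans (h.E_nz hG)) hPR) hle
  rw [h.Rc, hPc]
  exact (Nat.coprime_primes h.hr hp).2 hpr.symm

theorem lemB : sigmaCore M ⊓ centralizer (E₃ : Set G) ≤ centralizer (E₁ : Set G) := by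
  by_contra hnot
  haveI : Fact r.Prime := ⟨h.hr⟩
  obtain ⟨H, hH, hN⟩ := h.exists_H hG
  have hnc := h.nc hG hH hN
  obtain ⟨hτ, hrH, hreg⟩ := h.beta hG hnot hH hN
  have hE₁1 : E₁ ≠ ⊥ := by
    intro e
    apply hnot
    rw [e, le_cent_comm]
    exact bot_le
  obtain ⟨p, hp, P, hPE₁, hPc⟩ := exists_prime_sub hE₁1
  have hpM : p ∈ tau1 M := mem_of_isPiSub_card hPc (IsPiSub.mono hPE₁ (IsPiHallOf.isPi h.hE₁))
  have hpH := hτ p hpM
  obtain ⟨hPC₃, hPR⟩ := hreg p P hp.out hPE₁ hPc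
  have hPE := hPE₁.trans h.hE₁.1
  have hPM := hPE.trans h.hE.1
  have hPH := (hPE.trans (h.E_nz hG)).trans hN
  have hpr : p ≠ r := fun e => h.rτ.2.2.1.elim fun _ _ => hpM.2.2.2.1 (e ▸ h.rτ.2.2.1)
  have hM1 : sigmaCore M ⊓ centralizer (P : Set G) ≠ ⊥ := by
    intro e
    exact h.sigcent_ne hG hp.out hPE hPc hpr hPR (e ▸ bot_le)
  have hRH : R ≤ H := Subgroup.le_normalizer.trans hN
  have hRσ : R ≤ sigmaCore H := le_sigmaCore hG hH hRH (isPiSub_of_card h.Rc hrH)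
  -- `H_σ ⊓ C(P) ≠ ⊥`
  have hH1 : sigmaCore H ⊓ centralizer (P : Set G) ≠ ⊥ := by
    intro e
    apply hPC₃
    obtain ⟨C, hC⟩ : ∃ C, C = sigmaCore M ⊓ centralizer (E₃ : Set G) := ⟨_, rfl⟩
    rw [← hC]
    have hCσ : C ≤ sigmaCore M := hC ▸ inf_le_left
    have hPC : P ≤ nz C := by
      rw [hC]
      exact nz_inf_le (hPM.trans (sig_norm M)) ((hPE.trans (h.E₃s hG).2.2).trans
        (normalizer_le_normalizer_centralizer E₃))
    have hCR : C ≤ centralizer (R : Set G) := by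
      rw [hC, ← h.C₃ hG]; exact inf_le_right
    have hPsc : IsPiSub (sc M) P := IsPiSub.mono hPE (IsPiHallOf.isPi h.hE)
    refine le_cent_of_syl hG hPC ((cop_sc hG h.hM hPsc).coprime_dvd_right
      (Subgroup.card_dvd_of_le hCσ)) (sol hG (ne_top_of_le h.hM (hCσ.trans (sig_le M)))) ?_
    intro q hq S _ hS hPS
    by_contra hPS'
    obtain ⟨Y, hY⟩ : ∃ Y, Y = ⁅S, P⁆ := ⟨_, rfl⟩
    have hY1 : Y ≠ ⊥ := hY ▸ comm_ne_bot hPS'
    have hYS : Y ≤ S := hY ▸ H1.commutator_le_left_of_le_normalizer hPS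
    have hPY : P ≤ nz Y := hY ▸ H1.right_le_normalizer_commutator S P
    have hYq : IsPGroup q Y := hS.isPGroup.to_le hYS
    have hSσ : S ≤ sigmaCore M := hS.le.trans hCσ
    have hcop : (Nat.card P).Coprime (Nat.card S) := (cop_sc hG h.hM hPsc).coprime_dvd_right
      (Subgroup.card_dvd_of_le hSσ)
    have hYP : ⁅Y, P⁆ = Y := by rw [hY]; exact H23.commutator_commutator_eq hPS hcop
    have hYσ := hYS.trans hSσ
    have hYM := hYσ.trans (sig_le M)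
    have hqM : q ∈ sigma M := (IsPiSub.mono hYσ (IsPiHallOf.isPi (sig_hall hG h.hM))) q hq.out
      (dvd_card_of_ne_bot hYq hY1)
    have hqH : q ∉ sigma H := fun h' => sigma_disjoint hG h.hM hH hnc hqM h'
    have hSH : S ≤ H := ((hS.le.trans hCR).trans (cent_le_nz R)).trans hN
    have hYH : Y ≤ H := hYS.trans hSH
    have hYder : Y ≤ ⁅H, H⁆ := hY ▸ commutator_mono hSH hPH
    obtain ⟨Y₀, hY₀, hY₀c⟩ := exists_order_p hG hYq hY1
    have hY₀q := isPGroup_of_card hY₀c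
    have hY₀1 := ne_bot_of_card hY₀c
    have hY₀R : R ≤ centralizer (Y₀ : Set G) :=
      le_cent_comm.1 ((hY₀.trans hYS).trans (hS.le.trans hCR))
    -- if `N(Y₀) ≤ H` then contradiction
    have hno : ¬ nz Y₀ ≤ H := by
      intro hN0
      obtain ⟨-, -, -, h4, -⟩ := emb_e hG h.hM hH hnc.ne.symm hqM hY₀q hY₀1 (hY₀.trans hYM) hN0 hqH
      exact h.Rne hG (le_bot_iff.1 (h4 ▸ le_inf hRσ h.RM))
    have hqHd : q ∣ Nat.card H := (dvd_card_of_ne_bot hYq hY1).trans (Subgroup.card_dvd_of_le hYH)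
    rcases tau_cases hG hH hq.out hqHd hqH with h1 | h1 | h1
    · exact h1.2.2.2.1 ((dvd_card_of_ne_bot hYq hY1).trans (Subgroup.card_dvd_of_le hYder))
    · have h2 := tau2_only hG hH h1 (hY₀.trans hYH) hY₀c
        (fun e => h.Rne hG (le_bot_iff.1 (e ▸ le_inf hRσ hY₀R)))
      exact hno (Only.normalizer hG hY₀1 (ne_top_of_le hH (hY₀.trans hYH)) h2).1
    · have hYHσ : Y ≤ centralizer (sigmaCore H : Set G) := by
        refine t3_solv (odd_card hG) (sol hG (ne_top_of_le hH (sig_le H))) hYq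
          (hYH.trans (sig_norm H)) (hPH.trans (sig_norm H)) hPY (by rw [hPc]; exact hp.out)
          (cop_sc hG hH (isPiSub_of_isPGroup (⟨hq.out, hqH⟩ : q ∈ sc H) hYq))
          (cop_sc hG hH (isPiSub_of_card hPc ⟨hp.out, hpH.2.1⟩)) ?_ hYP (e ▸ bot_le)
        exact (hcop.coprime_dvd_right (Subgroup.card_dvd_of_le hYS)).symm
      apply hno
      obtain ⟨F, hF, hY₀F⟩ := exists_compl_ge hG hH (hY₀.trans hYH)
        (isPiSub_of_card hY₀c ⟨hq.out, hqH⟩)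
      have hFs : Group.IsSolvable F := sol hG (ne_top_of_le hH hF.1)
      obtain ⟨F₃, hF₃, hY₀F₃⟩ := exists_hallOf_ge (π := tau3 H) hFs hY₀F
        (isPiSub_of_card hY₀c h1)
      obtain ⟨hF₃c, -, hF₃n⟩ := (Cfsg.Agent.S1415.result hG H hH F
        ((compl_sig_iff hG hH).2 hF)).2.2 F₃ hF₃
      have hFY := nz_of_cyclic hF₃c hF₃n hY₀F₃
      have h2 : H ≤ nz Y₀ := by
        intro x hx
        obtain ⟨f, hf, s, hs, rfl⟩ := ((compl_sig_iff hG hH).2 hF).2.2.2 x hx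
        exact (nz Y₀).mul_mem (hFY hf) (cent_le_nz Y₀
          (centralizer_le hY₀ (le_cent_comm.1 hYHσ hs)))
      exact (coatom_normalizer_eq hG hH hY₀1 (hY₀.trans hYH) h2).le
  -- the W-lemma
  obtain ⟨s, hs, X, hX, hXc⟩ := exists_prime_sub hM1
  obtain ⟨t, ht, Y, hY, hYc⟩ := exists_prime_sub hH1
  have hsM : s ∈ sigma M := mem_of_isPiSub_card hXc
    (IsPiSub.mono (hX.trans inf_le_left) (IsPiHallOf.isPi (sig_hall hG h.hM)))
  have htH : t ∈ sigma H := mem_of_isPiSub_card hYc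
    (IsPiSub.mono (hY.trans inf_le_left) (IsPiHallOf.isPi (sig_hall hG hH)))
  have htM : t ∉ sigma M := fun h' => sigma_disjoint hG h.hM hH hnc h' htH
  have hW : Wd M H P X Y p s t := ⟨h.hM, hH, hpM, hpH, hPc, hPM, hPH, hs.out, ht.out,
    hX, hXc, hY, hYc, fun h' => sigma_disjoint hG h.hM hH hnc hsM h', htM⟩
  obtain ⟨c, hc, d, hd, -, h2⟩ := hW.main hG
  obtain ⟨Y₂, hY₂⟩ : ∃ Y₂, Y₂ = L.cj c⁻¹ (L.cj d Y) := ⟨_, rfl⟩
  have hY₂M : Y₂ ≤ M := by
    have := L.cj_mono (g := c⁻¹) h2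
    rwa [L.cj_inv_cj, ← hY₂] at this
  have hY₂c : Nat.card Y₂ = t := by rw [hY₂, L.card_cj, L.card_cj, hYc]
  have hY₂P : Y₂ ≤ centralizer (P : Set G) := by
    rw [hY₂]
    exact cent_cj_le (Subgroup.inv_mem _ hc) (cent_cj_le hd (hY.trans inf_le_right))
  have htMd : t ∣ Nat.card M := by rw [← hY₂c]; exact Subgroup.card_dvd_of_le hY₂M
  have ht3 : t ∈ tau3 M := by
    rcases tau_cases hG h.hM ht.out htMd htM with h4 | h4 | h4
    · exact absurd htH (hτ t h4).2.1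
    · exact (h.tau2 hG h4).elim
    · exact h4
  have hPY₂ : IsPiSub (sc M) (P ⊔ Y₂) := isPiSub_sup (hY₂P.trans (cent_le_nz P))
    (isPiSub_of_card hPc ⟨hp.out, hpM.2.1⟩) (isPiSub_of_card hY₂c ⟨ht.out, htM⟩)
  obtain ⟨g, -, hg⟩ := IsPiHallOf.exists_conj_le (msol hG h.hM) h.hE (sup_le hPM hY₂M) hPY₂
  rw [L.cj_sup] at hg
  obtain ⟨e, heE, he⟩ := IsPiHallOf.exists_conj_le (h.solE hG) h.hE₁ (le_sup_left.trans hg)
    (isPiSub_of_card (by rw [L.card_cj, hPc]) hpM)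
  have hY₃ : L.cj e (L.cj g Y₂) ≤ E₃ := by
    refine le_of_hall_normal (h.solE hG) h.hE₃ (h.E₃s hG).2.2 ?_
      (isPiSub_of_card (by rw [L.card_cj, L.card_cj, hY₂c]) ht3)
    rw [← L.cj_eq_self_of_mem heE]
    exact L.cj_mono (le_sup_right.trans hg)
  have hY₃c : Nat.card (L.cj e (L.cj g Y₂)) = t := by rw [L.card_cj, L.card_cj, hY₂c]
  have hT := h.other hG ht.out hY₃ hY₃c
  obtain ⟨H', hH', hN'⟩ := hT.exists_H hG
  refine ((hT.beta hG hnot hH' hN').2.2 p _ hp.out he (by rw [L.card_cj, L.card_cj, hPc])).2 ?_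
  rw [L.cent_cj, L.cent_cj]
  exact L.cj_mono (L.cj_mono (le_cent_comm.1 hY₂P))

theorem C₃_le : sigmaCore M ⊓ centralizer (E₃ : Set G) ≤ centralizer (E : Set G) := by
  rw [le_cent_comm]
  apply h.E_le hG
  · exact le_cent_comm.1 (h.lemB hG)
  · exact le_cent_comm.1 inf_le_right

theorem C₃_ne : sigmaCore M ⊓ centralizer (E₃ : Set G) ≠ ⊥ := by
  rw [← h.C₃ hG]; exact h.hne

theorem E₁_ne : E₁ ≠ ⊥ := by
  intro e
  have h1 := h.reg₁ hG
  have h2 : E₃ ≤ ⊥ := by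
    rw [← h1, e]
    refine le_inf le_rfl ?_
    rw [le_cent_comm]; exact bot_le
  exact h.Rne hG (le_bot_iff.1 (h.hR.trans h2))

/-- `X ≤ C₃` of prime order : `C(X)` lies in `M` only -/
theorem C₃_only {X : Subgroup G} {q : ℕ} (hq : q.Prime)
    (hX : X ≤ sigmaCore M ⊓ centralizer (E₃ : Set G)) (hXc : Nat.card X = q) :
    q ∈ sigma M ∧ Only (centralizer (X : Set G)) M := by
  haveI : Fact q.Prime := ⟨hq⟩
  have hqM : q ∈ sigma M := mem_of_isPiSub_card hXc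
    (IsPiSub.mono (hX.trans inf_le_left) (IsPiHallOf.isPi (sig_hall hG h.hM)))
  refine ⟨hqM, (s1423 hG h.hM hqM ((hX.trans inf_le_left).trans (sig_le M)) hXc (Or.inr ?_)).1⟩
  exact (le_inf (hX.trans inf_le_left) (hX.trans (h.C₃_le hG))).trans
    (bg1217 hG h.hM ((compl_sig_iff hG h.hM).2 h.hE)).1

/-- some element of prime order of `E₁` centralizes `R` -/
theorem not_reg : ∃ (p : ℕ) (P : Subgroup G), p.Prime ∧ P ≤ E₁ ∧ Nat.card P = p ∧
    P ≤ centralizer (R : Set G) := by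
  by_contra hcon
  haveI : Fact r.Prime := ⟨h.hr⟩
  obtain ⟨p, hp, P, hPE₁, hPc⟩ := exists_prime_sub (h.E₁_ne hG)
  have hPR : ¬ P ≤ centralizer (R : Set G) := fun h' => hcon ⟨p, P, hp.out, hPE₁, hPc, h'⟩
  have hpM : p ∈ tau1 M := mem_of_isPiSub_card hPc (IsPiSub.mono hPE₁ (IsPiHallOf.isPi h.hE₁))
  have hPE := hPE₁.trans h.hE₁.1
  have hpr : p ≠ r := fun e => hpM.2.2.2.1 (e ▸ h.rτ.2.2.1)
  apply h.sigcent_ne hG hp.out hPE hPc hpr hPR
  obtain ⟨H, hH, hN⟩ := h.exists_H hG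
  have hnc := h.nc hG hH hN
  have hEH : E ≤ H := (h.E_nz hG).trans hN
  obtain ⟨q, hq, X, hX, hXc⟩ := exists_prime_sub (h.C₃_ne hG)
  obtain ⟨hqM, hXO⟩ := h.C₃_only hG hq.out hX hXc
  have hXR : X ≤ sigmaCore M ⊓ centralizer (R : Set G) := by rw [h.C₃ hG]; exact hX
  have hrH : r ∈ sigma H := b2 hG h.hM hH h.rτ.2.1 h.rτ.2.2.2 h.RM h.Rc hXR hXc hXO hN
  have hRH : R ≤ H := Subgroup.le_normalizer.trans hN
  have hRσ : R ≤ sigmaCore H := le_sigmaCore hG hH hRH (isPiSub_of_card h.Rc hrH)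
  have hC₃H : sigmaCore M ⊓ centralizer (E₃ : Set G) ≤ H := by
    rw [← h.C₃ hG]
    exact (inf_le_right.trans (cent_le_nz R)).trans hN
  have hMH : sigmaCore M ⊓ H ≤ centralizer (R : Set G) := by
    rw [le_cent_comm]
    intro y hy
    refine Subgroup.mem_centralizer_iff.2 fun x hx => ?_
    have h1 : ⁅x, y⁆ ∈ sigmaCore M ⊓ sigmaCore H := by
      refine ⟨?_, ?_⟩
      · have h2 := (Subgroup.mem_normalizer_iff.1 (sig_norm M (h.RM hy)) x⁻¹).1
          ((sigmaCore M).inv_mem hx.1)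
        have := (sigmaCore M).mul_mem hx.1 h2
        simpa [commutatorElement_def, mul_assoc] using this
      · have h2 := (Subgroup.mem_normalizer_iff.1 (sig_norm H hx.2) y).1 (hRσ hy)
        exact (sigmaCore H).mul_mem h2 ((sigmaCore H).inv_mem (hRσ hy))
    have h3 : sigmaCore M ⊓ sigmaCore H = ⊥ := by
      apply inf_eq_bot_of_pi (π := sigma M) (π' := sigma H)
      · intro s _ h4 h5; exact sigma_disjoint hG h.hM hH hnc h4 h5
      · exact IsPiHallOf.isPi (sig_hall hG h.hM)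
      · exact IsPiHallOf.isPi (sig_hall hG hH)
    rw [h3, Subgroup.mem_bot, commutatorElement_eq_one_iff_mul_comm] at h1
    exact h1
  -- a prime `t ∈ τ₁(H)` dividing `|C₃|`
  obtain ⟨t, htH, htd⟩ : ∃ t ∈ tau1 H,
      t ∣ Nat.card (sigmaCore M ⊓ centralizer (E₃ : Set G) : Subgroup G) := by
    by_contra hno
    have hXH : X ≤ H := hX.trans hC₃H
    have hqH : q ∉ sigma H := fun h' => sigma_disjoint hG h.hM hH hnc hqM h'
    have hqHd : q ∣ Nat.card H := by rw [← hXc]; exact Subgroup.card_dvd_of_le hXH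
    have hRX : R ≤ centralizer (X : Set G) := le_cent_comm.1 (hXR.trans inf_le_right)
    rcases tau_cases hG hH hq.out hqHd hqH with h1 | h1 | h1
    · exact hno ⟨q, h1, by rw [← hXc]; exact Subgroup.card_dvd_of_le hX⟩
    · have h2 := tau2_only hG hH h1 hXH hXc
        (fun e => h.Rne hG (le_bot_iff.1 (e ▸ le_inf hRσ hRX)))
      exact hnc.ne (h2.2 M h.hM hXO.1)
    · obtain ⟨F, hF, hXF⟩ := exists_compl_ge hG hH hXH (isPiSub_of_card hXc ⟨hq.out, hqH⟩)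
      have hFs : Group.IsSolvable F := sol hG (ne_top_of_le hH hF.1)
      obtain ⟨F₃, hF₃, hXF₃⟩ := exists_hallOf_ge (π := tau3 H) hFs hXF (isPiSub_of_card hXc h1)
      obtain ⟨F₁, hF₁, -⟩ := exists_hallOf_ge (π := tau1 H) hFs (bot_le : ⊥ ≤ F) (isPiSub_bot _)
      have hT : T10 H F F₁ F₃ X q := ⟨hH, hF, hF₁, hF₃, hq.out, hXF₃, hXc,
        fun e => h.Rne hG (le_bot_iff.1 (e ▸ le_inf hRσ hRX))⟩
      have hFM : F ≤ M := (hT.E_nz hG).trans (Only.normalizer hG (ne_bot_of_card hXc)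
        (ne_top_of_le hH hXH) hXO).1
      have hF₁X : ¬ F₁ ≤ centralizer (X : Set G) := by
        intro h2
        have h3 : X ≤ F₃ ⊓ centralizer (F₁ : Set G) := le_inf hXF₃ (le_cent_comm.1 h2)
        rw [hT.reg₁ hG] at h3
        exact ne_bot_of_card hXc (le_bot_iff.1 h3)
      apply hF₁X
      apply le_of_sylow_le
      intro t ht htF
      haveI : Fact t.Prime := ⟨ht⟩
      have htH : t ∈ tau1 H := (IsPiHallOf.isPi hF₁) t ht htF
      have htC : ¬ t ∣ Nat.card (sigmaCore M ⊓ centralizer (E₃ : Set G) : Subgroup G) :=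
        fun h' => hno ⟨t, htH, h'⟩
      obtain ⟨T, hT'⟩ := L.exists_sylIn (p := t) F₁
      refine ⟨T, hT', ?_⟩
      intro x hx
      have hxF : x ∈ F := hF₁.1 (hT'.le hx)
      obtain ⟨e, he, c, hc, rfl⟩ := ((compl_sig_iff hG h.hM).2 h.hE).2.2.2 x (hFM hxF)
      have hcH : c ∈ H := by
        have := H.mul_mem (H.inv_mem (hEH he)) (hF.1 hxF)
        simpa using this
      have hcC : c ∈ sigmaCore M ⊓ centralizer (E₃ : Set G) := by
        rw [← h.C₃ hG]; exact ⟨hc, hMH ⟨hc, hcH⟩⟩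
      have hcomm : Commute e c :=
        Subgroup.mem_centralizer_iff.1 (h.C₃_le hG hcC) e he
      obtain ⟨k, hk⟩ := (IsPGroup.iff_card.1 hT'.isPGroup)
      have hx1 : (e * c) ^ t ^ k = 1 := by
        have := pow_card_eq_one' (G := T) (x := ⟨e * c, hx⟩)
        rw [hk] at this
        exact congrArg Subtype.val this
      rw [hcomm.mul_pow] at hx1
      have h5 : c ^ t ^ k ∈ E ⊓ sigmaCore M := by
        refine ⟨?_, (sigmaCore M).pow_mem hc _⟩
        rw [← inv_eq_of_mul_eq_one_right hx1]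
        exact E.inv_mem (E.pow_mem he _)
      rw [((compl_sig_iff hG h.hM).2 h.hE).2.2.1, Subgroup.mem_bot] at h5
      have h6 : c = 1 := by
        have h7 : orderOf c ∣ t ^ k := orderOf_dvd_of_pow_eq_one h5
        have h8 : orderOf c ∣ Nat.card (sigmaCore M ⊓ centralizer (E₃ : Set G) : Subgroup G) := by
          have := orderOf_dvd_natCard (⟨c, hcC⟩ : (sigmaCore M ⊓ centralizer (E₃ : Set G) : Subgroup G))
          rwa [Subgroup.orderOf_mk] at this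
        have h9 : (t ^ k).Coprime
            (Nat.card (sigmaCore M ⊓ centralizer (E₃ : Set G) : Subgroup G)) :=
          Nat.Coprime.pow_left k ((Nat.Prime.coprime_iff_not_dvd ht).2 htC)
        exact orderOf_eq_one_iff.1 (Nat.eq_one_of_dvd_coprimes h9 h7 h8)
      rw [h6, mul_one]
      exact centralizer_le hX (le_cent_comm.1 (h.C₃_le hG) he)
  haveI ht : Fact t.Prime := ⟨htH.1⟩
  obtain ⟨y, hy⟩ := exists_prime_orderOf_dvd_card' t htd
  obtain ⟨Y, hY⟩ : ∃ Y : Subgroup G, Y = zpowers (y : G) := ⟨_, rfl⟩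
  have hYC : Y ≤ sigmaCore M ⊓ centralizer (E₃ : Set G) := hY ▸ Subgroup.zpowers_le.2 y.2
  have hYc : Nat.card Y = t := by rw [hY, Nat.card_zpowers, Subgroup.orderOf_coe, hy]
  have hYH := hYC.trans hC₃H
  have hYE : Y ≤ centralizer (E : Set G) := hYC.trans (h.C₃_le hG)
  have hPY : P ≤ centralizer (Y : Set G) := hPE.trans (le_cent_comm.1 hYE)
  have hRY : R ≤ centralizer (Y : Set G) := h.RE.trans (le_cent_comm.1 hYE)
  have hpH : p ∈ sigma H := by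
    by_contra hpH
    have h1 := bg134 hG hH htH hYH hYc hpH (hPE.trans hEH) hPc hPY
    exact hPR (le_cent_comm.1 ((le_inf hRσ hRY).trans h1))
  have hPσ : P ≤ sigmaCore H := le_sigmaCore hG hH (hPE.trans hEH) (isPiSub_of_card hPc hpH)
  have h2 := (bg136 hG hH htH hYH hYc (le_inf hPσ hPY) hPc).1
  exact (le_inf inf_le_left (inf_le_right.trans h2.1)).trans hMH

theorem centP {p : ℕ} {P : Subgroup G} (hp : p.Prime) (hPE₁ : P ≤ E₁) (hPc : Nat.card P = p) :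
    sigmaCore M ⊓ centralizer (P : Set G) ≤ centralizer (E : Set G) ∧
      E ≤ centralizer (P : Set G) := by
  haveI : Fact p.Prime := ⟨hp⟩
  haveI : Fact r.Prime := ⟨h.hr⟩
  have hE₁M := h.hE₁.1.trans h.hE.1
  have h1 : sigmaCore M ⊓ centralizer (P : Set G) ≤ centralizer (E : Set G) := by
    obtain ⟨p₀, P₀, hp₀, hP₀, hP₀c, hP₀R⟩ := h.not_reg hG
    haveI : Fact p₀.Prime := ⟨hp₀⟩
    have hp₀M : p₀ ∈ tau1 M := mem_of_isPiSub_card hP₀c
      (IsPiSub.mono hP₀ (IsPiHallOf.isPi h.hE₁))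
    have h2 := bg135 hG h.hM hE₁M (IsPiHallOf.isPi h.hE₁) hPE₁ hPc
    have h3 := bg134 hG h.hM hp₀M (hP₀.trans hE₁M) hP₀c h.rτ.2.1 h.RM h.Rc
      (le_cent_comm.1 hP₀R)
    have h4 : sigmaCore M ⊓ centralizer (P : Set G) ≤
        sigmaCore M ⊓ centralizer (R : Set G) :=
      le_inf inf_le_left ((le_inf inf_le_left (h2.trans (centralizer_le hP₀))).trans h3)
    rw [h.C₃ hG] at h4
    exact h4.trans (h.C₃_le hG)
  refine ⟨h1, ?_⟩
  have hcyc := tau1_cyclic hG h.hM hE₁M (IsPiHallOf.isPi h.hE₁)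
  apply h.E_le hG (cent_self_of_cyclic hcyc hPE₁)
  have hPE := hPE₁.trans h.hE₁.1
  have hPsc : IsPiSub (sc M) P := IsPiSub.mono hPE (IsPiHallOf.isPi h.hE)
  have hpM : p ∈ tau1 M := mem_of_isPiSub_card hPc (IsPiSub.mono hPE₁ (IsPiHallOf.isPi h.hE₁))
  apply le_of_sylow_le
  intro s hs hsd
  haveI : Fact s.Prime := ⟨hs⟩
  have hs3 : s ∈ tau3 M := (IsPiHallOf.isPi h.hE₃) s hs hsd
  obtain ⟨S, hS⟩ := L.exists_sylIn (p := s) E₃
  refine ⟨S, hS, ?_⟩
  rw [le_cent_comm]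
  by_contra hPS
  have hES : E ≤ nz S := nz_of_cyclic (h.E₃s hG).1 (h.E₃s hG).2.2 hS.le
  obtain ⟨Q, hQ⟩ : ∃ Q, Q = ⁅S, P⁆ := ⟨_, rfl⟩
  have hQ1 : Q ≠ ⊥ := hQ ▸ comm_ne_bot hPS
  have hQS : Q ≤ S := hQ ▸ H1.commutator_le_left_of_le_normalizer (hPE.trans hES)
  have hPQ : P ≤ nz Q := hQ ▸ H1.right_le_normalizer_commutator S P
  have hQq : IsPGroup s Q := hS.isPGroup.to_le hQS
  have hps : p ≠ s := fun e => hpM.2.2.2.1 (e ▸ hs3.2.2.1)
  have hcop : (Nat.card P).Coprime (Nat.card S) := by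
    rw [hPc]
    exact (coprime_of_pgroup hS.isPGroup (fun hd => hps ((Nat.prime_dvd_prime_iff_eq hs hp).1 hd).symm)).symm
  have hQP : ⁅Q, P⁆ = Q := by rw [hQ]; exact H23.commutator_commutator_eq (hPE.trans hES) hcop
  obtain ⟨R', hR', hR'c⟩ := exists_order_p hG hQq hQ1
  have hQE₃ : Q ≤ E₃ := hQS.trans hS.le
  have hQE : Q ≤ E := hQE₃.trans h.hE₃.1
  have h2 : Q ≤ centralizer (sigmaCore M : Set G) := by
    refine t3_solv (odd_card hG) (sol hG (ne_top_of_le h.hM (sig_le M))) hQq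
      ((hQE.trans h.hE.1).trans (sig_norm M)) ((hPE.trans h.hE.1).trans (sig_norm M)) hPQ
      (by rw [hPc]; exact hp) (cop_sc hG h.hM (IsPiSub.mono hQE (IsPiHallOf.isPi h.hE)))
      (cop_sc hG h.hM hPsc) ?_ hQP (h1.trans (centralizer_le hQE))
    exact (hcop.coprime_dvd_right (Subgroup.card_dvd_of_le hQS)).symm
  exact (h.other hG hs (hR'.trans hQE₃) hR'c).not_cent hG (hR'.trans h2)

end T10

include hG

/-- BG 13.10 -/
theorem bg1310 {M E R : Subgroup G} (hM : IsCoatom M) (hE : IsPiHallOf (sc M) E M) {r : ℕ}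
    (hr : r ∈ tau3 M) (hRE : R ≤ E) (hRc : Nat.card R = r)
    (hne : sigmaCore M ⊓ centralizer (R : Set G) ≠ ⊥) :
    (∀ p, p ∉ tau2 M) ∧ sigmaCore M ⊓ centralizer (E : Set G) ≠ ⊥ ∧
      ∀ (x : ℕ) (X : Subgroup G), x.Prime → X ≤ E → Nat.card X = x →
        sigmaCore M ⊓ centralizer (X : Set G) ≤ centralizer (E : Set G) ∧ E ≤ nz X := by
  haveI : Fact r.Prime := ⟨hr.1⟩
  have hEs : Group.IsSolvable E := sol hG (ne_top_of_le hM hE.1)
  obtain ⟨E₃, hE₃, hRE₃⟩ := exists_hallOf_ge (π := tau3 M) hEs hRE (isPiSub_of_card hRc hr)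
  obtain ⟨E₁, hE₁, -⟩ := exists_hallOf_ge (π := tau1 M) hEs (bot_le : ⊥ ≤ E) (isPiSub_bot _)
  have h : T10 M E E₁ E₃ R r := ⟨hM, hE, hE₁, hE₃, hr.1, hRE₃, hRc, hne⟩
  refine ⟨fun p hp => h.tau2 hG hp, fun e => h.C₃_ne hG ?_, ?_⟩
  · rw [← le_bot_iff, ← e]; exact le_inf inf_le_left (h.C₃_le hG)
  intro x X hx hXE hXc
  haveI : Fact x.Prime := ⟨hx⟩
  have hxE : x ∣ Nat.card E := by rw [← hXc]; exact Subgroup.card_dvd_of_le hXE
  have hxσ := ((IsPiHallOf.isPi hE) x hx hxE).2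
  have hxM : x ∣ Nat.card M := hxE.trans (Subgroup.card_dvd_of_le hE.1)
  rcases tau_cases hG hM hx hxM hxσ with h1 | h1 | h1
  · obtain ⟨e, he, heX⟩ := IsPiHallOf.exists_conj_le hEs hE₁ hXE (isPiSub_of_card hXc h1)
    obtain ⟨h2, h3⟩ := h.centP hG hx heX (by rw [L.card_cj, hXc])
    have h4 : L.cj e X = X := by
      have h5 : E ≤ nz (L.cj e X) := h3.trans (cent_le_nz _)
      have h6 := L.mem_nz_iff.1 (h5 (E.inv_mem he))
      rw [L.cj_inv_cj] at h6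
      exact h6.symm
    rw [h4] at h2 h3
    exact ⟨h2, h3.trans (cent_le_nz _)⟩
  · exact (h.tau2 hG h1).elim
  · have hX3 : X ≤ E₃ := le_of_hall_normal hEs hE₃ (h.E₃s hG).2.2 hXE (isPiSub_of_card hXc h1)
    have hT := h.other hG hx hX3 hXc
    refine ⟨?_, hT.E_nz hG⟩
    rw [hT.C₃ hG]
    exact hT.C₃_le hG

end Cfsg.Agent.H14.O
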