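import Cfsg.Agent.H14.OTwelve
import Cfsg.Agent.S1415

set_option autoImplicit false

/-! BG 12.16 (second part), 13.1, 13.2, 13.3 -/

namespace Cfsg.Agent.H14.O

open Subgroup
open Cfsg.Agent.L (cj nz SylIn)
open Cfsg.Agent.H14 (IsPiSub)
open Cfsg.Agent.OOT
open Cfsg.Agent.H21
open scoped commutatorElement

universe u

section General
variable {G : Type u} [Group G] [Finite G]

theorem cent_of_cop {q : ℕ} [hq : Fact q.Prime] {O H S : Subgroup G} (hS : IsPGroup q S)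
    (hSO : S ≤ nz O) (hO : ¬ q ∣ Nat.card O) (hH : H ≤ O) (hn : H ≤ nz S) :
    H ≤ centralizer (S : Set G) := by
  rw [← Subgroup.commutator_eq_bot_iff_le_centralizer, eq_bot_iff]
  have h1 : ⁅H, S⁆ ≤ S := by
    rw [Subgroup.commutator_comm]; exact H1.commutator_le_left_of_le_normalizer hn
  have h2 : ⁅H, S⁆ ≤ O :=
    (Subgroup.commutator_mono hH le_rfl).trans (H1.commutator_le_left_of_le_normalizer hSO)
  have h3 : O ⊓ S = ⊥ := by
    apply H1.inf_eq_bot_of_card_coprime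
    obtain ⟨m, hm⟩ := IsPGroup.iff_card.1 hS
    rw [hm]
    exact Nat.Coprime.pow_right m ((Nat.Prime.coprime_iff_not_dvd hq.out).2 hO).symm
  rw [← h3]; exact le_inf h2 h1

theorem coprime_of_pgroup {q : ℕ} [hq : Fact q.Prime] {S : Subgroup G} (hS : IsPGroup q S) {n : ℕ}
    (h : ¬ q ∣ n) : (Nat.card S).Coprime n := by
  obtain ⟨m, hm⟩ := IsPGroup.iff_card.1 hS
  rw [hm]
  exact Nat.Coprime.pow_left m ((Nat.Prime.coprime_iff_not_dvd hq.out).2 h)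

theorem not_dvd_of_pgroup {p q : ℕ} [hp : Fact p.Prime] (hq : q.Prime) (hpq : q ≠ p)
    {S : Subgroup G} (hS : IsPGroup p S) : ¬ q ∣ Nat.card S := by
  obtain ⟨m, hm⟩ := IsPGroup.iff_card.1 hS
  rw [hm]
  intro h
  exact hpq ((Nat.prime_dvd_prime_iff_eq hq hp.out).1 (hq.dvd_of_dvd_pow h))

/-- primes dividing a subgroup divide a Hall subgroup -/
theorem dvd_hall {π : Set ℕ} {H M : Subgroup G} (h : IsPiHallOf π H M) {p : ℕ} (hp : p.Prime)
    (hpπ : p ∈ π) (hd : p ∣ Nat.card M) : p ∣ Nat.card H := by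
  have h1 := L.card_mul_relIndex h.1
  rcases hp.dvd_mul.1 (h1 ▸ hd) with h' | h'
  · exact h'
  · exact absurd h' (h.2.2 p hp hpπ)

theorem nz_comm_self (M : Subgroup G) : nz M ≤ nz ⁅M, M⁆ := by
  intro g hg
  rw [L.mem_nz_iff, L.cj_commutator, L.mem_nz_iff.1 hg]

/-- `D = N T`, `N ∩ T = 1`, `N` normal: `T ∩ D' ≤ T'` -/
theorem inf_derived_le {D N T : Subgroup G} (hc : IsComplIn N T D) (hn : D ≤ nz N) :
    T ⊓ ⁅D, D⁆ ≤ ⁅T, T⁆ := by
  have hTn : T ≤ nz N := hc.2.1.trans hn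
  have h1 : ⁅D, D⁆ ≤ N ⊔ ⁅T, T⁆ := by
    rw [Subgroup.commutator_le]
    intro x hx y hy
    obtain ⟨a, ha, s, hs, rfl⟩ := hc.2.2.2 x hx
    obtain ⟨b, hb, t, ht, rfl⟩ := hc.2.2.2 y hy
    have e : ⁅a * s, b * t⁆ = (a * (s * b * s⁻¹) * (s * t * s⁻¹ * a⁻¹ * (s * t * s⁻¹)⁻¹) *
        (s * t * s⁻¹ * t⁻¹ * b⁻¹ * (s * t * s⁻¹ * t⁻¹)⁻¹)) * ⁅s, t⁆ := by
      simp only [commutatorElement_def]; group
    rw [e]
    have hN : ∀ z ∈ T, ∀ n ∈ N, z * n * z⁻¹ ∈ N := fun z hz n hn' =>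
      (Subgroup.mem_normalizer_iff.1 (hTn hz) n).1 hn'
    refine Subgroup.mul_mem_sup (N.mul_mem (N.mul_mem (N.mul_mem ha (hN s hs b hb)) ?_) ?_)
      (Subgroup.commutator_mem_commutator hs ht)
    · exact hN _ (T.mul_mem (T.mul_mem hs ht) (T.inv_mem hs)) _ (N.inv_mem ha)
    · exact hN _ (T.mul_mem (T.mul_mem (T.mul_mem hs ht) (T.inv_mem hs)) (T.inv_mem ht)) _
        (N.inv_mem hb)
  rintro x ⟨hxT, hxD⟩
  have hTT : ⁅T, T⁆ ≤ T := Subgroup.commutator_le_self T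
  obtain ⟨n, hn', t, ht, rfl⟩ := (H1.mem_sup_iff_of_le_normalizer (hTT.trans hTn)).1 (h1 hxD)
  have h3 : n ∈ N ⊓ T := ⟨hn', by
    have := T.mul_mem hxT (T.inv_mem (hTT ht))
    simpa using this⟩
  rw [hc.2.2.1, Subgroup.mem_bot] at h3
  rw [h3, one_mul]; exact ht

theorem no_dvd_derived {D N T : Subgroup G} (hc : IsComplIn N T D) (hn : D ≤ nz N) {π : Set ℕ}
    (hT : IsPiHallOf π T D) {p : ℕ} (hp : p.Prime) (hpπ : p ∈ π)
    (h : ¬ p ∣ Nat.card (⁅T, T⁆ : Subgroup G)) : ¬ p ∣ Nat.card (⁅D, D⁆ : Subgroup G) := by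
  intro hd
  have h1 : IsPiHallOf π (T ⊓ ⁅D, D⁆) ⁅D, D⁆ := IsPiHallOf.inf_normal hT
    (Subgroup.commutator_le_self D) (Subgroup.le_normalizer.trans (nz_comm_self D))
  exact h ((dvd_hall h1 hp hpπ hd).trans (Subgroup.card_dvd_of_le (inf_derived_le hc hn)))

end General

variable {G : Type u} [Group G] [Finite G] (hG : IsMinSimpleOddOrder G)
include hG

section
variable {M : Subgroup G} (hM : IsCoatom M)
include hM

/-- for `q ∉ β(M)`, the `q'`-subgroups of `M'` normalizing a `q`-subgroup centralize it -/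
theorem ncomp_cent {q : ℕ} [hq : Fact q.Prime] (hqβ : q ∉ beta M) {P S : Subgroup G}
    (hP : P ≤ ⁅M, M⁆) (hPq : ¬ q ∣ Nat.card P) (hS : IsPGroup q S) (hSM : S ≤ M)
    (hn : P ≤ nz S) : P ≤ centralizer (S : Set G) := by
  by_cases hS1 : S = ⊥
  · rw [hS1, le_cent_comm]; exact bot_le
  have hqM : q ∣ Nat.card M := (dvd_card_of_ne_bot hS hS1).trans (Subgroup.card_dvd_of_le hSM)
  obtain ⟨N, hN, hNq, k, hk⟩ := H2.hasNormalPComplement_iff.1 (beta_struct hG hM hqM hqβ).1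
  have hNπ : IsPiSub {r | r ≠ q} (N.map (⁅M, M⁆ : Subgroup G).subtype) := by
    rintro r hr hd rfl
    exact hNq (hd.trans (card_map_dvd _ _))
  have h1 : N.map (⁅M, M⁆ : Subgroup G).subtype ≤ piCoreOf {r | r ≠ q} ⁅M, M⁆ :=
    le_piCoreOf (Subgroup.map_subtype_le N) (le_normalizer_map_subtype hN) hNπ
  have h2 : P ≤ N.map (⁅M, M⁆ : Subgroup G).subtype := by
    have h3 : P.subgroupOf ⁅M, M⁆ ≤ N := by
      apply H1.le_of_coprime_index
      rw [card_subgroupOf hP, hk]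
      exact Nat.Coprime.pow_right k ((Nat.Prime.coprime_iff_not_dvd hq.out).2 hPq).symm
    have := Subgroup.map_mono (f := (⁅M, M⁆ : Subgroup G).subtype) h3
    rwa [Subgroup.map_subgroupOf_eq_of_le hP] at this
  have h4 : ¬ q ∣ Nat.card (piCoreOf {r | r ≠ q} ⁅M, M⁆) := fun hd =>
    isPiSub_piCoreOf {r | r ≠ q} ⁅M, M⁆ q hq.out hd rfl
  exact cent_of_cop hS (hSM.trans ((Subgroup.le_normalizer.trans (nz_comm_self M)).trans
    (normalizer_le_normalizer_piCoreOf _ _))) h4 (h2.trans h1) hn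

/-- Hall `β(M)'`-subgroups and `O_q` of their intersection with `M'` -/
theorem hallT' {T : Subgroup G} (hT : IsPiHallOf (bc M) T M) {q : ℕ} [hq : Fact q.Prime]
    (hqβ : q ∉ beta M) :
    ∃ Y, SylIn q Y ⁅M, M⁆ ∧ Y ≤ T ∧ T ≤ nz Y ∧
      (∀ H ≤ T ⊓ ⁅M, M⁆, ¬ q ∣ Nat.card H → H ≤ centralizer (Y : Set G)) ∧
      ∀ X ≤ T ⊓ ⁅M, M⁆, IsPGroup q X → X ≤ Y := by
  obtain ⟨F, hF⟩ : ∃ F, F = T ⊓ ⁅M, M⁆ := ⟨_, rfl⟩
  have hFn : Group.IsNilpotent F := beta'_nilpotent hG hM (hF ▸ inf_le_right) (fun p hp hd =>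
    ((IsPiHallOf.isPi hT) p hp (hd.trans (Subgroup.card_dvd_of_le (hF ▸ inf_le_left)))).2)
  have hFT : F ≤ T := hF ▸ inf_le_left
  have hY : IsPiHallOf {q} (piCoreOf {q} F) F := nil_piCore_hall hFn {q}
  have hTF : T ≤ nz F := by
    rw [hF]
    exact nz_inf_le Subgroup.le_normalizer (hT.1.trans (Subgroup.le_normalizer.trans
      (nz_comm_self M)))
  have hFH : IsPiHallOf (bc M) F ⁅M, M⁆ := by
    rw [hF]
    exact IsPiHallOf.inf_normal hT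
      (Subgroup.commutator_le_self M) (Subgroup.le_normalizer.trans (nz_comm_self M))
  have hb : q ∈ bc M := ⟨hq.out, hqβ⟩
  have hYs : SylIn q (piCoreOf {q} F) ⁅M, M⁆ := by
    rw [sylIn_iff_hallOf]
    exact IsPiHallOf.trans (Set.singleton_subset_iff.2 hb) hY hFH
  refine ⟨_, hYs, hY.1.trans hFT, hTF.trans (normalizer_le_normalizer_piCoreOf _ _),
    fun H hH hq' => ?_, fun X hX hXq => ?_⟩
  · exact nil_cent hFn (hF ▸ hH) hY.1 (coprime_of_pgroup hYs.isPGroup hq').symm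
  · have hFs : Group.IsSolvable F := sol hG (ne_top_of_le hM (hFT.trans hT.1))
    exact le_of_hall_normal hFs hY (nil_hall_normal hFn hY) (hF ▸ hX)
      (isPiSub_of_isPGroup (Set.mem_singleton q) hXq)

theorem tau2_of_ea {p : ℕ} [hp : Fact p.Prime] (hpσ : p ∉ sigma M) {A : Subgroup G}
    (hAM : A ≤ M) (hA : IsElementaryAbelian p A) (hAc : Nat.card A = p ^ 2) : p ∈ tau2 M :=
  ⟨hp.out, hpσ, pRankLE_two_of_not_sigma hG hM hp.out hpσ,
    not_pRankLE_of_ea hAM hA (by rw [hAc])⟩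

theorem tau2_inf {p : ℕ} [hp : Fact p.Prime] (hpσ : p ∉ sigma M) {A D : Subgroup G}
    (hAM : A ≤ M) (hA : IsElementaryAbelian p A) (hAc : Nat.card A = p ^ 2) (hD : IsCoatom D)
    (hne : D ≠ M) (hAD : A ≤ D) : sigmaCore M ⊓ D = ⊥ :=
  (Cfsg.Agent.S1417.result hG M hM p (tau2_of_ea hG hM hpσ hAM hA hAc) A
    ⟨hAM, hA, hAc⟩).2.2.2.2.1 D hD hne hAD

end

/-- BG 12.16 (a), (b) for a `q`-subgroup `Y` of `M` -/
theorem jsub_aux {M H : Subgroup G} (hM : IsCoatom M) (hH : IsCoatom H) (hnc : NC M H)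
    {q : ℕ} [hq : Fact q.Prime] (hqσ : q ∈ sigma M) {Y : Subgroup G} (hY : IsPGroup q Y)
    (hY1 : Y ≠ ⊥) (hYM : Y ≤ M) (hYH : Y ≤ H) {p : ℕ} [hp : Fact p.Prime] (hpσ : p ∉ sigma M)
    (hpM : p ∣ Nat.card M) (hpi : ¬ IsIdealPrime p G) :
    (∀ A : Subgroup G, IsElementaryAbelian p A → Nat.card A = p ^ 2 → A ≤ H → A ≤ nz Y → False) ∧
    (p ∈ tau1 M → ∀ T ≤ nz Y, ¬ p ∣ Nat.card (⁅T, T⁆ : Subgroup G)) := by
  have hYs : Y ≤ sigmaCore M := le_sigmaCore hG hM hYM (isPiSub_of_isPGroup hqσ hY)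
  have contra : ∀ A D : Subgroup G, IsElementaryAbelian p A → Nat.card A = p ^ 2 → A ≤ M →
      IsCoatom D → D ≠ M → A ≤ D → Y ≤ D → False := by
    intro A D hA hAc hAM hD hne hAD hYD
    have := tau2_inf hG hM hpσ hAM hA hAc hD hne hAD
    exact hY1 (le_bot_iff.1 (this ▸ le_inf hYs hYD))
  by_cases hN : nz Y ≤ M
  · refine ⟨fun A hA hAc hAH hAN => ?_, fun hτ T hT hd => ?_⟩
    · exact contra A H hA hAc (hAN.trans hN) hH hnc.ne.symm hAH hYH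
    · exact hτ.2.2.2.1 (hd.trans (Subgroup.card_dvd_of_le
        (Subgroup.commutator_mono (hT.trans hN) (hT.trans hN))))
  have hYt : Y ≠ ⊤ := ne_top_of_le hM hYM
  obtain ⟨D, hD, hND⟩ := exists_coatom_ge (normalizer_ne_top hG hY1 hYt)
  have hne : D ≠ M := fun e => hN (e ▸ hND)
  have hnc' := emb_nc hG hM hD hne hqσ hY hY1 hYM hND
  have hYD : Y ≤ D := (L.le_nz Y).trans hND
  have key : ∀ (π : Set ℕ) (N T : Subgroup G), IsPiHallOf π T D → IsComplIn N T D → D ≤ nz N →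
      p ∈ π → T ≤ M → 
      (∀ A : Subgroup G, IsElementaryAbelian p A → Nat.card A = p ^ 2 → A ≤ H → A ≤ nz Y → False) ∧
      (p ∈ tau1 M → ∀ T ≤ nz Y, ¬ p ∣ Nat.card (⁅T, T⁆ : Subgroup G)) := by
    intro π N T hT hc hDN hpπ hTM
    refine ⟨fun A hA hAc hAH hAN => ?_, fun hτ T' hT' hd => ?_⟩
    · obtain ⟨x, hx, hxA⟩ := IsPiHallOf.exists_conj_le (msol hG hD) hT (hAN.trans hND)
        (isPiSub_of_isPGroup hpπ (isEA_isPGroup hA))
      exact contra (cj x A) D (isEA_cj hA) (by rw [L.card_cj, hAc]) (hxA.trans hTM) hD hne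
        (hxA.trans hT.1) hYD
    · have h1 : ¬ p ∣ Nat.card (⁅T, T⁆ : Subgroup G) := fun hd' =>
        hτ.2.2.2.1 (hd'.trans (Subgroup.card_dvd_of_le (Subgroup.commutator_mono hTM hTM)))
      exact no_dvd_derived hc hDN hT hp.out hpπ h1 (hd.trans (Subgroup.card_dvd_of_le
        (Subgroup.commutator_mono (hT'.trans hND) (hT'.trans hND))))
  by_cases hqD : q ∈ sigma D
  · obtain ⟨-, -, -, S, hS, hXS, hSN⟩ := emb_d hG hM hD hne hqσ hY hY1 hYM hND hqD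
    have hSM : S ≤ M := (L.le_nz S).trans (hSN.trans inf_le_left)
    have hSD : S ≤ D := (L.le_nz S).trans (hSN.trans inf_le_right)
    have hβD : q ∉ beta D := fun h => not_sigma_of_beta hG hM hD hnc' h hqσ
    obtain ⟨T, hT, hST⟩ := exists_hallOf_ge (π := bc D) (msol hG hD) hSD
      (isPiSub_of_isPGroup (⟨hq.out, hβD⟩ : q ∈ bc D) hS.isPGroup)
    exact key _ _ T hT (mb_compl hG hD hT) (mb_norm D) ⟨hp.out, fun h => hpi h.2⟩
      (share_T hG hD hM hnc'.symm hqD hqσ hS hSD hSM hT hST)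
  · obtain ⟨-, -, hT, -, h2⟩ := emb_e hG hM hD hne hqσ hY hY1 hYM hND hqD
    exact key _ _ _ hT (complIn_symm ((compl_sig_iff hG hD).2 hT)) (sig_norm D)
      ⟨hp.out, fun h => hpi (h2 p hp.out hpM h).2⟩ inf_le_left

/-- BG 12.16 (a), (b) for a `q`-subgroup `Y` of `G` -/
theorem jsub {M H : Subgroup G} (hM : IsCoatom M) (hH : IsCoatom H) (hnc : NC M H)
    {q : ℕ} [hq : Fact q.Prime] (hqσ : q ∈ sigma M) {Y : Subgroup G} (hY : IsPGroup q Y)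
    (hY1 : Y ≠ ⊥) (hYH : Y ≤ H) {p : ℕ} [hp : Fact p.Prime] (hpσ : p ∉ sigma M)
    (hpM : p ∣ Nat.card M) (hpi : ¬ IsIdealPrime p G) :
    (∀ A : Subgroup G, IsElementaryAbelian p A → Nat.card A = p ^ 2 → A ≤ H → A ≤ nz Y → False) ∧
    (p ∈ tau1 M → ∀ T ≤ nz Y, ¬ p ∣ Nat.card (⁅T, T⁆ : Subgroup G)) := by
  obtain ⟨S, hS⟩ := L.exists_sylIn (p := q) M
  have hSt := sylIn_top_of_sigma hG hM hqσ hS
  obtain ⟨x, -, hx⟩ := hSt.exists_conj_le hY le_top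
  obtain ⟨h1, h2⟩ := jsub_aux hG hM (coatom_cj hH x) (hnc.cj_right x) hqσ (L.cj_isPGroup hY)
    (fun h => hY1 (L.cj_eq_bot.1 h)) (hx.trans hS.le) (L.cj_mono hYH) hpσ hpM hpi
  refine ⟨fun A hA hAc hAH hAN => ?_, fun hτ T hT hd => ?_⟩
  · exact h1 (cj x A) (isEA_cj hA) (by rw [L.card_cj, hAc]) (L.cj_mono hAH)
      (by rw [L.nz_cj]; exact L.cj_mono hAN)
  · refine h2 hτ (cj x T) (by rw [L.nz_cj]; exact L.cj_mono hT) ?_
    rw [← L.cj_commutator, L.card_cj]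
    exact hd

/-- trichotomy for primes of `M` outside `σ(M)` -/
theorem tau_cases {M : Subgroup G} (hM : IsCoatom M) {p : ℕ} (hp : p.Prime)
    (hpM : p ∣ Nat.card M) (hpσ : p ∉ sigma M) : p ∈ tau1 M ∨ p ∈ tau2 M ∨ p ∈ tau3 M := by
  by_cases h1 : PRankLE p 1 M
  · by_cases h2 : p ∣ Nat.card (⁅M, M⁆ : Subgroup G)
    · exact Or.inr (Or.inr ⟨hp, hpσ, h2, h1⟩)
    · exact Or.inl ⟨hp, hpσ, hpM, h2, h1⟩
  · exact Or.inr (Or.inl ⟨hp, hpσ, pRankLE_two_of_not_sigma hG hM hp hpσ, h1⟩)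

/-- `p`-subgroups for `p ∈ σ(M) ∪ τ₃(M)` lie in `M'` -/
theorem le_derived {M : Subgroup G} (hM : IsCoatom M) {p : ℕ} [hp : Fact p.Prime]
    (h : p ∈ sigma M ∨ p ∈ tau3 M) {P : Subgroup G} (hPM : P ≤ M) (hPp : IsPGroup p P) :
    P ≤ ⁅M, M⁆ := by
  rcases h with h | h
  · obtain ⟨S, hS, hPS⟩ := L.exists_sylIn_ge hPp hPM
    exact hPS.trans (sigma_sylow_le_derived hG hM h hS)
  · obtain ⟨E, hE, hPE⟩ := exists_compl_ge hG hM hPM
      (isPiSub_of_isPGroup (⟨hp.out, h.2.1⟩ : p ∈ sc M) hPp)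
    obtain ⟨E₃, hE₃, hPE₃⟩ := exists_hallOf_ge (π := tau3 M) (sol hG (ne_top_of_le hM hE.1)) hPE
      (isPiSub_of_isPGroup h hPp)
    have := ((Cfsg.Agent.S1415.result hG M hM E ((compl_sig_iff hG hM).2 hE)).2.2 E₃ hE₃).2.1
    exact hPE₃.trans (this.trans (Subgroup.commutator_mono hE.1 hE.1))

theorem le_cent_of_syl {A K : Subgroup G} (hAK : A ≤ nz K)
    (hcop : (Nat.card A).Coprime (Nat.card K)) (hs : Group.IsSolvable K)
    (h : ∀ (s : ℕ) (_ : Fact s.Prime) (S : Subgroup G), s ∣ Nat.card K → SylIn s S K → A ≤ nz S →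
      A ≤ centralizer (S : Set G)) : A ≤ centralizer (K : Set G) := by
  rw [le_cent_comm]
  apply le_of_sylow_le
  intro s hs' hd
  have : Fact s.Prime := ⟨hs'⟩
  obtain ⟨S, hS, hAS⟩ := inv_syl' hAK hcop hs s
  exact ⟨S, hS, le_cent_comm.1 (h s this S hd hS hAS)⟩

/-- BG 13.1 -/
theorem bg131 {M H : Subgroup G} (hM : IsCoatom M) (hH : IsCoatom H) (hnc : NC M H)
    {p : ℕ} [hp : Fact p.Prime] (hpσ : p ∉ sigma M) (hpM : p ∣ Nat.card M)
    (hpH : p ∣ Nat.card H) (hpτ : p ∉ tau1 H) (hne : ⁅sigmaCore M ⊓ H, M ⊓ H⁆ ≠ ⊥) :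
    (∀ P ≤ M ⊓ H, IsPGroup p P → P ≤ centralizer ((sigmaCore M ⊓ H : Subgroup G) : Set G)) ∧
    p ∉ tau2 H ∧ (p ∈ tau1 M → IsIdealPrime p G) := by
  obtain ⟨q, hq, hqd⟩ := Nat.exists_prime_and_dvd (n := Nat.card (⁅sigmaCore M ⊓ H, M ⊓ H⁆ :
    Subgroup G)) (fun h => hne (Subgroup.card_eq_one.1 h))
  have hqf : Fact q.Prime := ⟨hq⟩
  have hcM : ⁅sigmaCore M ⊓ H, M ⊓ H⁆ ≤ sigmaCore M :=
    (Subgroup.commutator_mono inf_le_left inf_le_left).trans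
      (H1.commutator_le_left_of_le_normalizer (sig_norm M))
  have hqσ : q ∈ sigma M := (IsPiHallOf.isPi (sig_hall hG hM)) q hq
    (hqd.trans (Subgroup.card_dvd_of_le hcM))
  have hqβ : q ∉ beta H := fun h => not_sigma_of_beta hG hM hH hnc h hqσ
  have hqH : q ∣ Nat.card (⁅H, H⁆ : Subgroup G) := hqd.trans (Subgroup.card_dvd_of_le
    (Subgroup.commutator_mono inf_le_right inf_le_right))
  obtain ⟨T, hT, -⟩ := exists_hallOf_ge (π := bc H) (msol hG hH) (K := ⊥) bot_le (isPiSub_bot _)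
  obtain ⟨Y, hY, hYT, hTY, -, -⟩ := hallT' hG hH hT hqβ
  have hY1 : Y ≠ ⊥ := by
    rintro rfl
    have := hY.not_dvd
    rw [Subgroup.relIndex_bot_left] at this
    exact this hqH
  have hYH : Y ≤ H := hYT.trans hT.1
  have js := fun hpi : ¬ IsIdealPrime p G =>
    jsub hG hM hH hnc hqσ hY.isPGroup hY1 hYH hpσ hpM hpi
  have hb : p ∉ tau2 H := by
    intro hτ
    have hpi : ¬ IsIdealPrime p G :=
      (Cfsg.Agent.S1408.result hG H hH p hτ.2.1 hτ.2.2.1 hτ.2.2.2).1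
    obtain ⟨A, hAH, hA, hAc⟩ := exists_ea_of_not_pRankLE hτ.2.2.2
    obtain ⟨x, hx, hxA⟩ := IsPiHallOf.exists_conj_le (msol hG hH) hT hAH
      (isPiSub_of_isPGroup (⟨hp.out, fun h => hpi h.2⟩ : p ∈ bc H) (isEA_isPGroup hA))
    exact (js hpi).1 (cj x A) (isEA_cj hA) (by rw [L.card_cj]; simpa using hAc) (hxA.trans hT.1)
      (hxA.trans hTY)
  have hcases : p ∈ sigma H ∨ p ∈ tau3 H := by
    by_cases h : p ∈ sigma H
    · exact Or.inl h
    · rcases tau_cases hG hH hp.out hpH h with h | h | h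
      · exact absurd h hpτ
      · exact absurd h hb
      · exact Or.inr h
  refine ⟨?_, hb, ?_⟩
  · intro P hP hPp
    have hPK : P ≤ nz (sigmaCore M ⊓ H) := nz_inf_le ((hP.trans inf_le_left).trans (sig_norm M))
      ((hP.trans inf_le_right).trans Subgroup.le_normalizer)
    have hKs : Group.IsSolvable (sigmaCore M ⊓ H : Subgroup G) :=
      sol hG (ne_top_of_le hH inf_le_right)
    have hKπ : IsPiSub (sigma M) (sigmaCore M ⊓ H) :=
      IsPiSub.mono inf_le_left (IsPiHallOf.isPi (sig_hall hG hM))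
    refine le_cent_of_syl hG hPK (coprime_of_pgroup hPp (fun hd => hpσ (hKπ p hp.out hd))) hKs ?_
    intro s hs S hsd hS hPS
    have hsσ : s ∈ sigma M := hKπ s hs.out hsd
    refine ncomp_cent hG hH (fun h => not_sigma_of_beta hG hM hH hnc h hsσ)
      (le_derived hG hH hcases (hP.trans inf_le_right) hPp)
      (not_dvd_of_pgroup (p := p) hs.out (fun h => hpσ (h ▸ hsσ)) hPp) hS.isPGroup
      (hS.le.trans inf_le_right) hPS
  · intro hτ
    by_contra hpi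
    have hpb : p ∈ bc H := ⟨hp.out, fun h => hpi h.2⟩
    have h1 := no_dvd_derived (mb_compl hG hH hT) (mb_norm H) hT hp.out hpb ((js hpi).2 hτ T hTY)
    obtain ⟨P, hP⟩ := L.exists_sylIn (p := p) H
    have h2 := le_derived hG hH hcases hP.le hP.isPGroup
    have h3 : p ∣ Nat.card P := dvd_hall (sylIn_iff_hallOf.1 hP) hp.out rfl hpH
    exact h1 (h3.trans (Subgroup.card_dvd_of_le h2))

theorem not_rank_one {H : Subgroup G} (hH : IsCoatom H) {p : ℕ} [hp : Fact p.Prime]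
    {P : Subgroup G} (hPp : IsPGroup p P) (hP1 : P ≠ ⊥) (hN : nz P ≤ H) (hpσ : p ∉ sigma H) :
    ¬ PRankLE p 1 H := by
  intro h
  have hPH : P ≤ H := (L.le_nz P).trans hN
  have hpd : p ∣ Nat.card H := (dvd_card_of_ne_bot hPp hP1).trans (Subgroup.card_dvd_of_le hPH)
  obtain ⟨S, hS, hPS⟩ := L.exists_sylIn_ge hPp hPH
  rw [← pRankLE_sylIn hS] at h
  have hc := isCyclic_of_pRankLE_one (prime_ne_two hG hpd) hS.isPGroup h
  apply hpσ
  refine sigma_of_sylIn hG hH hS hpd (le_trans ?_ hN)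
  intro g hg
  rw [L.mem_nz_iff] at hg ⊢
  exact OOT.eq_of_card_of_cyclic hc (hg ▸ L.cj_mono hPS) hPS (L.card_cj g P)

theorem sigma_cj_le {M : Subgroup G} {p : ℕ} (g : G) (h : p ∈ sigma M) : p ∈ sigma (cj g M) := by
  rw [mem_sigma_iff hG] at h ⊢
  refine ⟨h.1, by rw [L.card_cj]; exact h.2.1, fun P hP => ?_⟩
  have : Fact p.Prime := ⟨h.1⟩
  have h1 := hP.cj g⁻¹
  rw [L.cj_inv_cj] at h1
  have h2 := h.2.2 _ h1
  have h3 : nz (cj g⁻¹ P) ≤ M := h2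
  rw [L.nz_cj, L.cj_le_iff, inv_inv] at h3
  exact h3

theorem sigma_cj {M : Subgroup G} {p : ℕ} (g : G) : p ∈ sigma (cj g M) ↔ p ∈ sigma M := by
  refine ⟨fun h => ?_, sigma_cj_le hG g⟩
  have := sigma_cj_le hG g⁻¹ h
  rwa [L.cj_inv_cj] at this

omit hG in
theorem pRankLE_cj {M : Subgroup G} {p k : ℕ} [hp : Fact p.Prime] (g : G) (h : PRankLE p k M) :
    PRankLE p k (cj g M) := by
  by_contra h'
  obtain ⟨E, hE, hEA, hc⟩ := exists_ea_of_not_pRankLE h'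
  refine not_pRankLE_of_ea (E := cj g⁻¹ E) ?_ (isEA_cj hEA) (by rw [L.card_cj, hc]) h
  rw [L.cj_le_iff, inv_inv]
  exact hE

theorem nc_of_nz {M H : Subgroup G} (hM : IsCoatom M) (hH : IsCoatom H) {p : ℕ}
    [hp : Fact p.Prime] (hpσ : p ∉ sigma M) (hr : PRankLE p 1 M) {P : Subgroup G}
    (hPp : IsPGroup p P) (hP1 : P ≠ ⊥) (hN : nz P ≤ H) : NC M H := by
  rintro g rfl
  exact not_rank_one hG hH hPp hP1 hN (fun h => hpσ ((sigma_cj hG g).1 h)) (pRankLE_cj g hr)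

/-- BG 13.2 -/
theorem bg132 {M H : Subgroup G} (hM : IsCoatom M) (hH : IsCoatom H)
    {p : ℕ} [hp : Fact p.Prime] (hpσ : p ∉ sigma M) (hr : PRankLE p 1 M) {P : Subgroup G}
    (hPp : IsPGroup p P) (hP1 : P ≠ ⊥) (hPM : P ≤ M) (hN : nz P ≤ H) :
    (∀ X ≤ M ⊓ H, (∀ r : ℕ, r.Prime → r ∣ Nat.card X → r ∉ sigma M ∧ r ∉ tau1 H) →
      X ≤ centralizer ((sigmaCore M ⊓ H : Subgroup G) : Set G)) ∧
    p ∉ tau1 H ∧ NC M H ∧
    (⁅sigmaCore M ⊓ H, M ⊓ H⁆ ≠ ⊥ → p ∈ sigma H ∧ (p ∈ tau1 M → p ∈ beta H)) := by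
  have hnc := nc_of_nz hG hM hH hpσ hr hPp hP1 hN
  have hPH : P ≤ H := (L.le_nz P).trans hN
  have hpM : p ∣ Nat.card M := (dvd_card_of_ne_bot hPp hP1).trans (Subgroup.card_dvd_of_le hPM)
  have hpH : p ∣ Nat.card H := (dvd_card_of_ne_bot hPp hP1).trans (Subgroup.card_dvd_of_le hPH)
  have hτ : p ∉ tau1 H := fun h => not_rank_one hG hH hPp hP1 hN h.2.1 h.2.2.2.2
  refine ⟨?_, hτ, hnc, ?_⟩
  · intro X hX hXr
    by_cases hne : ⁅sigmaCore M ⊓ H, M ⊓ H⁆ = ⊥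
    · rw [Subgroup.commutator_eq_bot_iff_le_centralizer, le_cent_comm] at hne
      exact hX.trans hne
    · apply le_of_sylow_le
      intro r hr' hrd
      have : Fact r.Prime := ⟨hr'⟩
      obtain ⟨R, hR⟩ := L.exists_sylIn (p := r) X
      obtain ⟨h1, h2⟩ := hXr r hr' hrd
      exact ⟨R, hR, (bg131 hG hM hH hnc h1 (hrd.trans (Subgroup.card_dvd_of_le
        (hX.trans inf_le_left))) (hrd.trans (Subgroup.card_dvd_of_le (hX.trans inf_le_right)))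
        h2 hne).1 R (hR.le.trans hX) hR.isPGroup⟩
  · intro hne
    obtain ⟨-, h2, h3⟩ := bg131 hG hM hH hnc hpσ hpM hpH hτ hne
    have h4 : p ∈ sigma H := by
      by_contra h
      exact h2 ⟨hp.out, h, pRankLE_two_of_not_sigma hG hH hp.out h,
        not_rank_one hG hH hPp hP1 hN h⟩
    exact ⟨h4, fun h => beta_of_ideal hG hH h4 (h3 h)⟩

/-- every element of prime order of a cyclic group, etc.: `x ∈ P` of order a power of `p`,
`P₀ ≤ ⟨x⟩` of order `p` -/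
theorem exists_order_p {P : Subgroup G} {p : ℕ} [hp : Fact p.Prime] (hP : IsPGroup p P)
    (h1 : P ≠ ⊥) : ∃ P₀ ≤ P, Nat.card P₀ = p := by
  obtain ⟨x, hx, ho⟩ : ∃ x ∈ P, orderOf x = p := by
    have hd := dvd_card_of_ne_bot hP h1
    obtain ⟨y, hy⟩ := exists_prime_orderOf_dvd_card' (G := P) p hd
    exact ⟨y, y.2, by rw [← hy]; exact orderOf_submonoid y⟩
  exact ⟨zpowers x, Subgroup.zpowers_le.2 hx, by rw [Nat.card_zpowers, ho]⟩

/-- BG 13.3 (a): a cyclic Sylow subgroup acts in a prime manner on `M_σ` -/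
theorem bg133a {M P P₀ : Subgroup G} (hM : IsCoatom M) {p : ℕ} [hp : Fact p.Prime]
    (hpσ : p ∉ sigma M) (hr : PRankLE p 1 M) (hPM : P ≤ M) (hPp : IsPGroup p P)
    (hP₀ : P₀ ≤ P) (hP₀1 : P₀ ≠ ⊥) :
    sigmaCore M ⊓ centralizer (P₀ : Set G) ≤ centralizer (P : Set G) := by
  have hpd : p ∣ Nat.card M := ((dvd_card_of_ne_bot (hPp.to_le hP₀) hP₀1)).trans
    (Subgroup.card_dvd_of_le (hP₀.trans hPM))
  have hc : IsCyclic P := by
    obtain ⟨S, hS, hPS⟩ := L.exists_sylIn_ge hPp hPM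
    have h := hr
    rw [← pRankLE_sylIn hS] at h
    have hc := isCyclic_of_pRankLE_one (prime_ne_two hG hpd) hS.isPGroup h
    exact isCyclic_of_injective (Subgroup.inclusion hPS) (Subgroup.inclusion_injective hPS)
  have hP₀t : P₀ ≠ ⊤ := ne_top_of_le hM (hP₀.trans hPM)
  obtain ⟨H, hH, hNH⟩ := exists_coatom_ge (normalizer_ne_top hG hP₀1 hP₀t)
  have hPN : P ≤ nz P₀ := by
    intro g hg
    rw [L.mem_nz_iff]
    exact OOT.eq_of_card_of_cyclic hc (by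
      have := L.cj_mono (g := g) hP₀
      rwa [L.cj_eq_self_of_mem hg] at this) hP₀ (L.card_cj g P₀)
  obtain ⟨h1, h2, hnc, h3⟩ := bg132 hG hM hH hpσ hr (hPp.to_le hP₀) hP₀1 (hP₀.trans hPM) hNH
  have h4 := h1 P (le_inf hPM (hPN.trans hNH)) (by
    intro r hr' hd
    have : r = p := by
      by_contra hne
      exact not_dvd_of_pgroup (p := p) hr' hne hPp hd
    subst this
    exact ⟨hpσ, h2⟩)
  have h5 : sigmaCore M ⊓ centralizer (P₀ : Set G) ≤ sigmaCore M ⊓ H :=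
    inf_le_inf_left _ ((cent_le_nz P₀).trans hNH)
  exact h5.trans (le_cent_comm.1 h4)

omit hG in
theorem cyclic_of_le {P Q : Subgroup G} (h : P ≤ Q) (hc : IsCyclic Q) : IsCyclic P :=
  isCyclic_of_injective (Subgroup.inclusion h) (Subgroup.inclusion_injective h)

omit hG in
theorem pRankLE_of_cyclic {P : Subgroup G} {p : ℕ} [hp : Fact p.Prime] (hc : IsCyclic P) :
    PRankLE p 1 P := by
  by_contra h
  obtain ⟨A, hA, hEA, hAc⟩ := exists_ea_of_not_pRankLE h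
  exact ea_not_cyclic hEA hAc (cyclic_of_le hA hc)

omit hG in
theorem pRankLE_of_cyclic_syl {M P : Subgroup G} {p : ℕ} [hp : Fact p.Prime] (hP : SylIn p P M)
    (hc : IsCyclic P) : PRankLE p 1 M := (pRankLE_sylIn hP).1 (pRankLE_of_cyclic hc)

theorem sylow_cyclic {M : Subgroup G} {p : ℕ} [hp : Fact p.Prime] (hr : PRankLE p 1 M)
    {P : Subgroup G} (hPM : P ≤ M) (hPp : IsPGroup p P) : IsCyclic P := by
  by_cases h1 : P = ⊥
  · rw [h1]; infer_instance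
  have hpd : p ∣ Nat.card M := ((dvd_card_of_ne_bot hPp h1)).trans
    (Subgroup.card_dvd_of_le hPM)
  obtain ⟨S, hS, hPS⟩ := L.exists_sylIn_ge hPp hPM
  rw [← pRankLE_sylIn hS] at hr
  exact cyclic_of_le hPS (isCyclic_of_pRankLE_one (prime_ne_two hG hpd) hS.isPGroup hr)

/-- BG 13.3 (b) : `τ₃`-subgroups act in a prime manner -/
theorem bg133b {M P₀ E₃ : Subgroup G} (hM : IsCoatom M) (hE₃M : E₃ ≤ M)
    (hE₃ : IsPiSub (tau3 M) E₃) {p : ℕ} [hp : Fact p.Prime] (hP₀ : P₀ ≤ E₃)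
    (hP₀c : Nat.card P₀ = p) :
    sigmaCore M ⊓ centralizer (P₀ : Set G) ≤ centralizer (E₃ : Set G) := by
  have hP₀p : IsPGroup p P₀ := IsPGroup.of_card (n := 1) (by rw [hP₀c, pow_one])
  have hP₀1 : P₀ ≠ ⊥ := by
    rintro rfl
    rw [Subgroup.card_bot] at hP₀c
    exact hp.out.ne_one hP₀c.symm
  have hpτ : p ∈ tau3 M := hE₃ p hp.out (by rw [← hP₀c]; exact Subgroup.card_dvd_of_le hP₀)
  obtain ⟨E, hE, hE₃E⟩ := exists_compl_ge hG hM hE₃M (fun r hr hd => ⟨hr, (hE₃ r hr hd).2.1⟩)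
  obtain ⟨F, hF, hE₃F⟩ := exists_hallOf_ge (π := tau3 M) (sol hG (ne_top_of_le hM hE.1)) hE₃E hE₃
  obtain ⟨hFc, -, hEF⟩ :=
    (Cfsg.Agent.S1415.result hG M hM E ((compl_sig_iff hG hM).2 hE)).2.2 F hF
  have hP₀F : P₀ ≤ F := hP₀.trans hE₃F
  have hEN : E ≤ nz P₀ := by
    intro g hg
    rw [L.mem_nz_iff]
    have := L.cj_mono (g := g) hP₀F
    rw [L.mem_nz_iff.1 (hEF hg)] at this
    exact OOT.eq_of_card_of_cyclic hFc this hP₀F (L.card_cj g P₀)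
  have hP₀t : P₀ ≠ ⊤ := ne_top_of_le hM (hP₀.trans hE₃M)
  obtain ⟨H, hH, hNH⟩ := exists_coatom_ge (normalizer_ne_top hG hP₀1 hP₀t)
  obtain ⟨h1, h2, hnc, h3⟩ := bg132 hG hM hH hpτ.2.1 hpτ.2.2.2 hP₀p hP₀1
    (hP₀.trans hE₃M) hNH
  have hEH : E ≤ H := hEN.trans hNH
  have h4 := h1 E₃ (le_inf hE₃M (hE₃E.trans hEH)) (by
    intro r hr' hd
    have h := hE₃ r hr' hd
    refine ⟨h.2.1, fun h' => ?_⟩
    have : Fact r.Prime := ⟨hr'⟩
    -- `r` divides `|E'|`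
    obtain ⟨R, hR⟩ := L.exists_sylIn (p := r) E₃
    have hRF : R ≤ F := hR.le.trans hE₃F
    have hRE : R ≤ ⁅E, E⁆ := hRF.trans
      (((Cfsg.Agent.S1415.result hG M hM E ((compl_sig_iff hG hM).2 hE)).2.2 F hF).2.1)
    have hrd : r ∣ Nat.card R := dvd_hall (sylIn_iff_hallOf.1 hR) hr' rfl hd
    exact h'.2.2.2.1 (hrd.trans (Subgroup.card_dvd_of_le (hRE.trans
      (Subgroup.commutator_mono hEH hEH)))))
  have h5 : sigmaCore M ⊓ centralizer (P₀ : Set G) ≤ sigmaCore M ⊓ H :=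
    inf_le_inf_left _ ((cent_le_nz P₀).trans hNH)
  exact h5.trans (le_cent_comm.1 h4)

end Cfsg.Agent.H14.O
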