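import Cfsg.Agent.OOT.TenF
import Cfsg.Agent.OOT.RankTwo
import Cfsg.Agent.H21.OBasic
import Cfsg.Agent.H18.Basics
import Cfsg.Agent.H10.PLoc
import Cfsg.Agent.H23.Coprime5
import Cfsg.Agent.S1445

set_option autoImplicit false

/-! Coprime action: `Q = [Q,R]` with `|R|` prime acting on an `s`-group `K` (odd order), and
`C_K(R) ≤ C_K(Q)`; then `Q` centralizes `K`. -/

namespace Cfsg.Agent.H14.O

open Subgroup
open Cfsg.Agent.L (cj nz SylIn)
open Cfsg.Agent.H14 (IsPiSub)
open Cfsg.Agent.OOT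
open Cfsg.Agent.H21
open scoped commutatorElement

universe u

section
variable {G : Type u} [Group G]

theorem card_map_dvd {G' : Type*} [Group G'] [Finite G] (f : G →* G') (H : Subgroup G) :
    Nat.card (H.map f) ∣ Nat.card H := Subgroup.card_dvd_of_surjective (f.subgroupMap H) (f.subgroupMap_surjective H)

theorem map_le_normalizer {G' : Type*} [Group G'] (f : G →* G') {H K : Subgroup G}
    (h : H ≤ normalizer (K : Set G)) : H.map f ≤ normalizer ((K.map f : Subgroup G') : Set G') :=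
  (Subgroup.map_mono h).trans (Subgroup.le_normalizer_map f)

theorem subgroupOf_le_normalizer {H K X : Subgroup G} (hK : K ≤ X)
    (h : H ≤ normalizer (K : Set G)) :
    H.subgroupOf X ≤ normalizer ((K.subgroupOf X : Subgroup X) : Set X) := by
  rw [H10.normalizer_subgroupOf hK]
  exact Subgroup.subgroupOf_mono X h

theorem card_subgroupOf {H X : Subgroup G} (h : H ≤ X) : Nat.card (H.subgroupOf X) = Nat.card H :=
  Nat.card_congr (Subgroup.subgroupOfEquivOfLe h).toEquiv

theorem nz_inf_le {N D E : Subgroup G} (hD : N ≤ nz D) (hE : N ≤ nz E) : N ≤ nz (D ⊓ E) := by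
  intro x hx
  rw [L.mem_nz_iff, L.cj_inf, L.mem_nz_iff.1 (hD hx), L.mem_nz_iff.1 (hE hx)]

theorem card_map_mk {N R : Subgroup G} [N.Normal] (h : N ⊓ R = ⊥) :
    Nat.card (R.map (QuotientGroup.mk' N)) = Nat.card R := by
  have hinj : Function.Injective ((QuotientGroup.mk' N).comp R.subtype) := by
    rw [← MonoidHom.ker_eq_bot_iff, eq_bot_iff]
    intro x hx
    have h1 : (x : G) ∈ N := by
      have := MonoidHom.mem_ker.1 hx
      simpa using this
    have h2 : (x : G) ∈ N ⊓ R := ⟨h1, x.2⟩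
    rw [h] at h2
    exact Subgroup.mem_bot.2 (Subtype.ext (Subgroup.mem_bot.1 h2))
  have h2 : R.map (QuotientGroup.mk' N) = ((QuotientGroup.mk' N).comp R.subtype).range := by
    rw [MonoidHom.range_comp, Subgroup.range_subtype]
  rw [h2]
  exact (Nat.card_congr (MonoidHom.ofInjective hinj).toEquiv).symm

end

theorem t3_aux (n : ℕ) : ∀ (G : Type u) [Group G] [Finite G], Nat.card G = n → Odd (Nat.card G) →
    ∀ (s : ℕ) [Fact s.Prime] (K Q R : Subgroup G), Group.IsSolvable Q → IsPGroup s K →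
    Q ≤ normalizer (K : Set G) → R ≤ normalizer (K : Set G) → R ≤ normalizer (Q : Set G) →
    (Nat.card R).Prime → (Nat.card Q).Coprime s → (Nat.card R).Coprime s →
    (Nat.card Q).Coprime (Nat.card R) → ⁅Q, R⁆ = Q →
    K ⊓ centralizer (R : Set G) ≤ centralizer (Q : Set G) → Q ≤ centralizer (K : Set G) := by
  induction n using Nat.strong_induction_on with
  | _ n ih =>
  intro G _ _ hn hodd s hs K Q R hQs hK hQK hRK hRQ hRp hQc hRc hQR hQeq hC
  have hKQc : (Nat.card K).Coprime (Nat.card Q) := by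
    obtain ⟨m, hm⟩ := IsPGroup.iff_card.1 hK
    rw [hm]; exact (hQc.symm.pow_left m)
  have hKRc : (Nat.card K).Coprime (Nat.card R) := by
    obtain ⟨m, hm⟩ := IsPGroup.iff_card.1 hK
    rw [hm]; exact (hRc.symm.pow_left m)
  have hKn : Group.IsNilpotent K := hK.isNilpotent
  have hKs : Group.IsSolvable K := inferInstance
  have hKQi : K ⊓ Q = ⊥ := H1.inf_eq_bot_of_card_coprime hKQc
  -- subgroups
  have sub : ∀ K₁ ≤ K, Q ≤ normalizer (K₁ : Set G) → R ≤ normalizer (K₁ : Set G) →
      Nat.card (K₁ ⊔ (Q ⊔ R) : Subgroup G) < n → Q ≤ centralizer (K₁ : Set G) := by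
    intro K₁ hK₁ h1 h2 h3
    obtain ⟨X, hXe⟩ : ∃ X, X = K₁ ⊔ (Q ⊔ R) := ⟨_, rfl⟩
    have hKX : K₁ ≤ X := hXe ▸ le_sup_left
    have hQX : Q ≤ X := hXe ▸ (le_sup_left.trans le_sup_right)
    have hRX : R ≤ X := hXe ▸ (le_sup_right.trans le_sup_right)
    have hodd' : Odd (Nat.card X) := hodd.of_dvd_nat (Subgroup.card_subgroup_dvd_card X)
    have hQs' : Group.IsSolvable (Q.subgroupOf X) :=
      Group.isSolvable_of_isSolvable_injective
        (f := (Subgroup.subgroupOfEquivOfLe hQX).toMonoidHom)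
        (Subgroup.subgroupOfEquivOfLe hQX).injective
    have h := ih _ (hXe ▸ h3) X rfl hodd' s (K₁.subgroupOf X) (Q.subgroupOf X) (R.subgroupOf X)
      hQs' ((hK.to_le hK₁).comap_subtype) (subgroupOf_le_normalizer hKX h1)
      (subgroupOf_le_normalizer hKX h2) (subgroupOf_le_normalizer hQX hRQ)
      (by rw [card_subgroupOf hRX]; exact hRp) (by rw [card_subgroupOf hQX]; exact hQc)
      (by rw [card_subgroupOf hRX]; exact hRc)
      (by rw [card_subgroupOf hRX, card_subgroupOf hQX]; exact hQR)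
      (by rw [H18.commutator_subgroupOf hQX hRX, hQeq])
      (by
        rw [H10.centralizer_subgroupOf hRX, H10.centralizer_subgroupOf hQX]
        intro x hx
        exact hC ⟨hK₁ hx.1, hx.2⟩)
    rw [H10.centralizer_subgroupOf hKX] at h
    intro x hx
    exact h (show (⟨x, hQX hx⟩ : X) ∈ Q.subgroupOf X from hx)
  by_cases hX : Nat.card (K ⊔ (Q ⊔ R) : Subgroup G) < n
  · exact sub K le_rfl hQK hRK hX
  have hXt : K ⊔ (Q ⊔ R) = ⊤ := by
    apply Subgroup.eq_top_of_card_eq
    have := Subgroup.card_le_card_group (K ⊔ (Q ⊔ R))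
    omega
  have hQRK : Q ⊔ R ≤ normalizer (K : Set G) := sup_le hQK hRK
  have hKnorm : K.Normal := by
    rw [← Subgroup.normalizer_eq_top_iff, eq_top_iff, ← hXt]
    exact sup_le Subgroup.le_normalizer hQRK
  -- quotients
  have quo : ∀ N : Subgroup G, N.Normal → N ≠ ⊥ → N ⊓ R = ⊥ →
      (∀ k ∈ K, (∀ r ∈ R, k⁻¹ * (r * k * r⁻¹) ∈ N) → ∃ c ∈ K ⊓ centralizer (R : Set G), k⁻¹ * c ∈ N) →
      ⁅K, Q⁆ ≤ N := by
    intro N hN hN1 hNR hlift
    have hcard : Nat.card (G ⧸ N) < n := by
      rw [← hn, ← Subgroup.index_eq_card]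
      have h1 := Subgroup.card_mul_index N
      have h2 : 1 < Nat.card N := by
        rw [Subgroup.one_lt_card_iff_ne_bot]; exact hN1
      have h3 : 0 < N.index := Nat.pos_of_ne_zero Subgroup.index_ne_zero_of_finite
      nlinarith
    obtain ⟨π, hπ⟩ : ∃ π, π = QuotientGroup.mk' N := ⟨_, rfl⟩
    have hodd' : Odd (Nat.card (G ⧸ N)) := hodd.of_dvd_nat (by
      rw [← Subgroup.index_eq_card]; exact Subgroup.index_dvd_card N)
    have hR' : Nat.card (R.map π) = Nat.card R := by
      rw [hπ]; exact card_map_mk hNR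
    have hQs' : Group.IsSolvable (Q.map π) := by
      haveI := hQs
      exact Group.isSolvable_of_surjective (f := π.subgroupMap Q) (π.subgroupMap_surjective Q)
    have h := ih _ hcard (G ⧸ N) rfl hodd' s (K.map π) (Q.map π) (R.map π) hQs'
      (hK.map π) (map_le_normalizer π hQK) (map_le_normalizer π hRK) (map_le_normalizer π hRQ)
      (by rw [hR']; exact hRp) (hQc.coprime_dvd_left (card_map_dvd π Q))
      (hRc.coprime_dvd_left (card_map_dvd π R))
      (by rw [hR']; exact hQR.coprime_dvd_left (card_map_dvd π Q))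
      (by rw [← Subgroup.map_commutator, hQeq])
      (by
        rintro _ ⟨⟨k, hk, rfl⟩, hkR⟩
        obtain ⟨c, hc, hkc⟩ := hlift k hk (by
          intro r hr
          have h1 := Subgroup.mem_centralizer_iff.1 hkR (π r) (Subgroup.mem_map_of_mem π hr)
          rw [← QuotientGroup.eq_one_iff]
          have : π (k⁻¹ * (r * k * r⁻¹)) = 1 := by
            simp only [map_mul, map_inv]
            rw [h1]; group
          rw [hπ] at this; exact this)
        have : π k = π c := by
          rw [hπ]; exact (QuotientGroup.eq.2 hkc)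
        rw [this]
        refine Subgroup.mem_centralizer_iff.2 ?_
        rintro _ ⟨q, hq, rfl⟩
        rw [← map_mul, ← map_mul, Subgroup.mem_centralizer_iff.1 (hC hc) q hq])
    rw [Subgroup.commutator_le]
    intro k hk q hq
    have h1 := Subgroup.mem_centralizer_iff.1 (h (Subgroup.mem_map_of_mem π hq)) (π k)
      (Subgroup.mem_map_of_mem π hk)
    rw [← QuotientGroup.eq_one_iff]
    have : π ⁅k, q⁆ = 1 := by
      rw [map_commutatorElement, commutatorElement_eq_one_iff_mul_comm, h1]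
    rw [hπ] at this; exact this
  -- first reduction : `C_Q(K) = 1`
  by_cases hN : Q ⊓ centralizer (K : Set G) = ⊥
  swap
  · have hnorm : (Q ⊓ centralizer (K : Set G)).Normal := by
      rw [← Subgroup.normalizer_eq_top_iff, eq_top_iff, ← hXt]
      have hKC : ∀ {H : Subgroup G}, H ≤ normalizer (K : Set G) →
          H ≤ normalizer ((centralizer (K : Set G) : Subgroup G) : Set G) := fun h =>
        h.trans (normalizer_le_normalizer_centralizer K)
      refine sup_le ?_ (sup_le ?_ ?_)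
      · -- K centralizes it
        have : K ≤ centralizer ((Q ⊓ centralizer (K : Set G) : Subgroup G) : Set G) :=
          le_cent_comm.1 inf_le_right
        exact this.trans (cent_le_nz _)
      · exact nz_inf_le Subgroup.le_normalizer (hKC hQK)
      · exact nz_inf_le hRQ (hKC hRK)
    have h1 := quo _ hnorm hN (by
      rw [eq_bot_iff]
      intro x hx
      have : x ∈ Q ⊓ R := ⟨hx.1.1, hx.2⟩
      rwa [H1.inf_eq_bot_of_card_coprime hQR] at this) (by
      intro k hk hkr
      refine ⟨k, ⟨hk, ?_⟩, by simp⟩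
      refine Subgroup.mem_centralizer_iff.2 fun r hr => ?_
      have h2 : k⁻¹ * (r * k * r⁻¹) ∈ K ⊓ Q := by
        refine ⟨K.mul_mem (K.inv_mem hk) ?_, (hkr r hr).1⟩
        exact (Subgroup.mem_normalizer_iff.1 (hRK hr) k).1 hk
      rw [hKQi, Subgroup.mem_bot] at h2
      have : r * k * r⁻¹ = k := by
        rwa [inv_mul_eq_one, eq_comm] at h2
      rw [mul_inv_eq_iff_eq_mul] at this
      exact this)
    have h2 : ⁅K, Q⁆ ≤ K ⊓ Q := le_inf (H1.commutator_le_left_of_le_normalizer hQK)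
      (h1.trans inf_le_left)
    rw [hKQi, le_bot_iff, Subgroup.commutator_eq_bot_iff_le_centralizer] at h2
    exact le_cent_comm.1 h2
  -- second reduction : `K` abelian
  by_cases hD : ⁅K, K⁆ = ⊥
  swap
  · have hnorm : (⁅K, K⁆ : Subgroup G).Normal := inferInstance
    have h1 := quo _ hnorm hD (by
      rw [eq_bot_iff]
      intro x hx
      have : x ∈ K ⊓ R := ⟨Subgroup.commutator_le_left K K hx.1, hx.2⟩
      rwa [H1.inf_eq_bot_of_card_coprime hKRc] at this) (by
      intro k hk hkr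
      exact H1.exists_fixed_in_coset' R K ⁅K, K⁆ (Subgroup.commutator_le_left K K)
        (by rw [Subgroup.normalizer_eq_top_iff.2 hnorm]; exact le_top) hKRc.symm (Or.inr hKs) k hk hkr)
    have h2 : K ≤ (K ⊓ centralizer (Q : Set G)) ⊔ ⁅K, K⁆ := by
      conv_lhs => rw [← H1.commutator_sup_centralizer Q K hQK hKQc.symm (Or.inr hKs)]
      exact sup_le (h1.trans le_sup_right) le_sup_left
    have h3 := H23.eq_of_sup_commutator hKn inf_le_left h2
    exact le_cent_comm.1 (h3 ▸ inf_le_right)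
  have hKab : IsMulCommutative K := by
    rw [mulComm_iff]
    intro a ha b hb
    exact Subgroup.mem_centralizer_iff.1
      ((Subgroup.commutator_eq_bot_iff_le_centralizer.1 hD) hb) a ha
  have hcQR := H1.card_sup_of_coprime hRQ hQR
  have hKQR : (Nat.card K).Coprime (Nat.card (Q ⊔ R : Subgroup G)) := by
    rw [hcQR]; exact hKQc.mul_right hKRc
  -- third reduction : `K = [K,Q]`
  obtain ⟨hd1, hd2⟩ := H1.abelian_coprime_decomposition Q K hQK hKQc.symm
  by_cases hL : ⁅K, Q⁆ = K
  swap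
  · have hLK : ⁅K, Q⁆ ≤ K := H1.commutator_le_left_of_le_normalizer hQK
    have hR1 : R ≤ normalizer ((⁅K, Q⁆ : Subgroup G) : Set G) := by
      intro r hr
      rw [L.mem_nz_iff, L.cj_commutator, L.mem_nz_iff.1 (hRK hr), L.mem_nz_iff.1 (hRQ hr)]
    have hcl : Nat.card (⁅K, Q⁆ ⊔ (Q ⊔ R) : Subgroup G) < n := by
      have hlt : Nat.card (⁅K, Q⁆ : Subgroup G) < Nat.card K :=
        L.card_lt_of_lt (lt_of_le_of_ne hLK hL)
      have e1 := H1.card_sup_of_coprime (H := (⁅K, Q⁆ : Subgroup G)) (K := Q ⊔ R)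
        (sup_le (H1.right_le_normalizer_commutator K Q) hR1)
        (hKQR.coprime_dvd_left (Subgroup.card_dvd_of_le hLK))
      have e2 := H1.card_sup_of_coprime (H := K) (K := Q ⊔ R) hQRK hKQR
      rw [hXt, Subgroup.card_top, hn] at e2
      rw [e1, e2]
      exact Nat.mul_lt_mul_of_pos_right hlt Nat.card_pos
    have h1 := sub _ hLK (H1.right_le_normalizer_commutator K Q) hR1 hcl
    have h2 : ⁅(⁅K, Q⁆ : Subgroup G), Q⁆ = ⊥ := by
      rw [Subgroup.commutator_eq_bot_iff_le_centralizer]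
      exact le_cent_comm.1 h1
    have h3 := H1.commutator_eq_bot_of_commutator_commutator Q K hQK hKQc.symm (Or.inr hKs) h2
    exact le_cent_comm.1 (Subgroup.commutator_eq_bot_iff_le_centralizer.1 h3)
  have hCQ : K ⊓ centralizer (Q : Set G) = ⊥ := by
    rw [hL] at hd1
    rw [← hd1]
    exact (inf_eq_left.2 inf_le_left).symm
  have hCR : K ⊓ centralizer (R : Set G) = ⊥ := by
    rw [eq_bot_iff, ← hCQ]
    exact le_inf inf_le_left hC
  haveI hR' : Fact (Nat.card R).Prime := ⟨hRp⟩
  have hsolG : Group.IsSolvable G := by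
    have h1 : Group.IsSolvable R := by
      haveI : IsCyclic R := isCyclic_of_prime_card (p := Nat.card R) rfl
      infer_instance
    have h2 : Group.IsSolvable (Q ⊔ R : Subgroup G) :=
      H10.isSolvable_sup' (K := Q ⊔ R) le_sup_left le_sup_right (sup_le Subgroup.le_normalizer hRQ) hQs h1
    have h3 := H10.isSolvable_sup' (K := K ⊔ (Q ⊔ R)) (N₁ := K) (N₂ := Q ⊔ R) le_sup_left le_sup_right
      (by rw [Subgroup.normalizer_eq_top_iff.2 hKnorm]; exact le_top) hKs h2
    rw [hXt] at h3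
    exact Group.isSolvable_of_isSolvable_injective (f := (Subgroup.topEquiv (G := G)).symm.toMonoidHom)
      (Subgroup.topEquiv (G := G)).symm.injective
  have hKQn : (K ⊔ Q).Normal := by
    rw [← Subgroup.normalizer_eq_top_iff, eq_top_iff, ← hXt]
    refine sup_le (le_sup_left.trans Subgroup.le_normalizer)
      (sup_le (le_sup_right.trans Subgroup.le_normalizer) ?_)
    intro r hr
    rw [L.mem_nz_iff, L.cj_sup, L.mem_nz_iff.1 (hRK hr), L.mem_nz_iff.1 (hRQ hr)]
  have hcKQ := H1.card_sup_of_coprime hQK hKQc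
  have hF : fittingOf (K ⊔ Q) ≤ K := by
    have hKF : K ≤ fittingOf (K ⊔ Q) := le_fittingOf le_sup_left
      (sup_le Subgroup.le_normalizer hQK) hKn
    have hQF : Q ⊓ fittingOf (K ⊔ Q) = ⊥ := by
      rw [eq_bot_iff, ← hN]
      refine le_inf inf_le_left ?_
      exact nil_cent (fittingOf_nilpotent (K ⊔ Q)) inf_le_right hKF
        ((hKQc.symm).coprime_dvd_left (Subgroup.card_dvd_of_le inf_le_left))
    intro x hx
    obtain ⟨k, hk, q, hq, rfl⟩ := (H1.mem_sup_iff_of_le_normalizer hQK).1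
      (fittingOf_le _ hx)
    have : q ∈ Q ⊓ fittingOf (K ⊔ Q) := ⟨hq, by
      have := (fittingOf (K ⊔ Q)).mul_mem ((fittingOf (K ⊔ Q)).inv_mem (hKF hk)) hx
      simpa using this⟩
    rw [hQF, Subgroup.mem_bot] at this
    rw [this, mul_one]; exact hk
  have hmain := Cfsg.Agent.S1445.result hodd (K ⊔ Q) R (by rw [sup_assoc]; exact hXt)
    (by rw [hcKQ]; exact (hKRc.mul_left hQR))
    (by
      intro x hx hx1
      have hz : zpowers x = R := by
        have h1 : zpowers x ≤ R := Subgroup.zpowers_le.2 hx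
        rcases (Nat.dvd_prime hRp).1 (Subgroup.card_dvd_of_le h1) with h | h
        · exact absurd (Subgroup.zpowers_eq_bot.1 (Subgroup.card_eq_one.1 h)) hx1
        · exact L.eq_of_le_of_card_le h1 h.ge
      rw [← hz, OOT.centralizer_zpowers])
    (by
      rw [eq_bot_iff, ← hCR]
      exact inf_le_inf_right _ hF)
  have h1 : Q ≤ K := by
    rw [← hQeq]
    exact ((Subgroup.commutator_mono le_sup_right le_rfl).trans hmain).trans hF
  have h2 : Q = ⊥ := by
    rw [← hKQi]; exact (inf_eq_right.2 h1).symm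
  rw [h2]; exact bot_le

variable {G : Type u} [Group G] [Finite G]

/-- `Q = [Q,R]`, `|R|` prime, acting on the `s`-group `K`, odd order, `C_K(R) ≤ C(Q)`. -/
theorem t3 (hodd : Odd (Nat.card G)) {s : ℕ} [Fact s.Prime] {K Q R : Subgroup G}
    (hQs : Group.IsSolvable Q) (hK : IsPGroup s K) (hQK : Q ≤ normalizer (K : Set G))
    (hRK : R ≤ normalizer (K : Set G)) (hRQ : R ≤ normalizer (Q : Set G))
    (hR : (Nat.card R).Prime) (hQc : (Nat.card Q).Coprime s) (hRc : (Nat.card R).Coprime s)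
    (hQR : (Nat.card Q).Coprime (Nat.card R)) (hQeq : ⁅Q, R⁆ = Q)
    (hC : K ⊓ centralizer (R : Set G) ≤ centralizer (Q : Set G)) : Q ≤ centralizer (K : Set G) :=
  t3_aux _ G rfl hodd s K Q R hQs hK hQK hRK hRQ hR hQc hRc hQR hQeq hC

/-- the same for a solvable group `K` of coprime order: use invariant Sylow subgroups -/
theorem t3_solv (hodd : Odd (Nat.card G)) {q : ℕ} [Fact q.Prime] {K Q R : Subgroup G}
    (hKs : Group.IsSolvable K) (hQ : IsPGroup q Q) (hQK : Q ≤ normalizer (K : Set G))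
    (hRK : R ≤ normalizer (K : Set G)) (hRQ : R ≤ normalizer (Q : Set G))
    (hR : (Nat.card R).Prime) (hQc : (Nat.card Q).Coprime (Nat.card K))
    (hRc : (Nat.card R).Coprime (Nat.card K))
    (hQR : (Nat.card Q).Coprime (Nat.card R)) (hQeq : ⁅Q, R⁆ = Q)
    (hC : K ⊓ centralizer (R : Set G) ≤ centralizer (Q : Set G)) : Q ≤ centralizer (K : Set G) := by
  rw [le_cent_comm]
  apply le_of_sylow_le
  intro s hs hsK
  haveI : Fact s.Prime := ⟨hs⟩
  have hcQR := H1.card_sup_of_coprime hRQ hQR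
  have hcop : (Nat.card (Q ⊔ R : Subgroup G)).Coprime (Nat.card K) := by
    rw [hcQR]; exact hQc.mul_left hRc
  obtain ⟨P, hP⟩ := H1.exists_invariant_sylow (p := s) (A := Q ⊔ R) (K := K) (sup_le hQK hRK) hcop
    (Or.inr hKs)
  have hPs := L.sylIn_of_sylow P
  refine ⟨_, hPs, ?_⟩
  rw [← le_cent_comm]
  haveI : Group.IsSolvable Q := by
    haveI := hQ.isNilpotent
    infer_instance
  have e : ∀ {H : Subgroup G}, (Nat.card H).Coprime (Nat.card K) → (Nat.card H).Coprime s :=
    fun h => h.coprime_dvd_right hsK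
  exact t3 hodd this hPs.isPGroup (le_sup_left.trans hP) (le_sup_right.trans hP) hRQ hR
    (e hQc) (e hRc) hQR hQeq ((inf_le_inf_right _ hPs.le).trans hC)

end Cfsg.Agent.H14.O
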