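import Cfsg.Agent.H14.OBas
import Cfsg.Agent.S1408
import Cfsg.Agent.S1416
import Cfsg.Agent.S1417
import Cfsg.Agent.S1418
import Cfsg.Agent.S1420
import Cfsg.Agent.S1423
import Cfsg.Agent.S1424

set_option autoImplicit false

/-! BG 12.15 (d), (e), 12.16 -/

namespace Cfsg.Agent.H14.O

open Subgroup
open Cfsg.Agent.L (cj nz SylIn)
open Cfsg.Agent.H14 (IsPiSub)
open Cfsg.Agent.OOT
open Cfsg.Agent.H21
open scoped commutatorElement

universe u

theorem dvd_card_of_ne_bot {G : Type u} [Group G] [Finite G] {q : ℕ} [hq : Fact q.Prime]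
    {S : Subgroup G} (hS : IsPGroup q S) (h : S ≠ ⊥) : q ∣ Nat.card S := by
  obtain ⟨m, hm⟩ := IsPGroup.iff_card.1 hS
  rcases m with _ | m
  · exact absurd (Subgroup.card_eq_one.1 (by simpa using hm)) h
  · rw [hm]; exact dvd_pow_self q (Nat.succ_ne_zero m)

theorem ea_not_cyclic {G : Type u} [Group G] {q : ℕ} [hq : Fact q.Prime] {A : Subgroup G}
    (hA : IsElementaryAbelian q A) (hAc : Nat.card A = q ^ 2) : ¬ IsCyclic A := by
  intro hc
  haveI := hc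
  have h1 := IsCyclic.exponent_eq_card (α := A)
  have h2 : Monoid.exponent A ∣ q := Monoid.exponent_dvd_of_forall_pow_eq_one (fun a =>
    Subtype.ext (hA.2 a a.2))
  rw [h1, hAc] at h2
  have h3 := Nat.le_of_dvd hq.out.pos h2
  have h4 : q * q ≤ q * 1 := by rw [← sq, mul_one]; exact h3
  have := Nat.le_of_mul_le_mul_left h4 hq.out.pos
  have := hq.out.two_le
  omega

variable {G : Type u} [Group G] [Finite G] (hG : IsMinSimpleOddOrder G)
include hG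

section
variable {M : Subgroup G} (hM : IsCoatom M)
include hM

theorem mb_compl {T : Subgroup G} (hT : IsPiHallOf (bc M) T M) : IsComplIn (Mb M) T M :=
  (compl_iff (π := bc M) (π' := beta M) (fun p hp => ⟨fun h h' => h'.2 h, fun h => by
    by_contra h'; exact h ⟨hp, h'⟩⟩) hT).2 (mb_hall hG hM)

/-- a Hall `β(M)'`-subgroup `T` normalizes a Sylow `q`-subgroup of `M`, `q ∈ σ(M) \ β(M)` -/
theorem hallT {T : Subgroup G} (hT : IsPiHallOf (bc M) T M) {q : ℕ} [hq : Fact q.Prime]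
    (hqσ : q ∈ sigma M) (hqβ : q ∉ beta M) :
    ∃ S, SylIn q S M ∧ S ≤ T ∧ T ≤ nz S ∧
      (∀ H ≤ T ⊓ ⁅M, M⁆, ¬ q ∣ Nat.card H → H ≤ centralizer (S : Set G)) ∧
      ∀ X ≤ T, IsPGroup q X → X ≤ S := by
  obtain ⟨F, hF⟩ : ∃ F, F = T ⊓ ⁅M, M⁆ := ⟨_, rfl⟩
  have hFn : Group.IsNilpotent F := beta'_nilpotent hG hM (hF ▸ inf_le_right) (fun p hp hd =>
    ((IsPiHallOf.isPi hT) p hp (hd.trans (Subgroup.card_dvd_of_le (hF ▸ inf_le_left)))).2)
  obtain ⟨S₀, hS₀⟩ := L.exists_sylIn (p := q) T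
  have hS₀M : SylIn q S₀ M := by
    rw [sylIn_iff_hallOf] at hS₀ ⊢
    have hb : q ∈ bc M := ⟨hq.out, hqβ⟩
    exact IsPiHallOf.trans (Set.singleton_subset_iff.2 hb) hS₀ hT
  have hS₀F : S₀ ≤ F := hF ▸ le_inf hS₀.le (sigma_sylow_le_derived hG hM hqσ hS₀M)
  have hFT : F ≤ T := hF ▸ inf_le_left
  have hFM : F ≤ M := hFT.trans hT.1
  have hS : IsPiHallOf {q} (piCoreOf {q} F) F := nil_piCore_hall hFn {q}
  have hS₀F' : IsPiHallOf {q} S₀ F := sylIn_iff_hallOf.1 (hS₀M.of_le hS₀F hFM)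
  have hTF : T ≤ nz F := by
    rw [hF]
    refine nz_inf_le Subgroup.le_normalizer (hT.1.trans ?_)
    have : nz M ≤ nz ⁅M, M⁆ := by
      intro g hg
      rw [L.mem_nz_iff, L.cj_commutator, L.mem_nz_iff.1 hg]
    exact Subgroup.le_normalizer.trans this
  have heq : S₀ = piCoreOf {q} F :=
    IsPiHallOf.eq_piCoreOf hS₀F' (nil_hall_normal hFn hS₀F')
  have hTS : T ≤ nz S₀ := by
    rw [heq]; exact hTF.trans (normalizer_le_normalizer_piCoreOf _ _)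
  refine ⟨S₀, hS₀M, hS₀.le, hTS, fun H hH hq' => ?_, fun X hX hXq => ?_⟩
  · refine nil_cent hFn (hF ▸ hH) hS₀F ?_
    obtain ⟨m, hm⟩ := IsPGroup.iff_card.1 hS₀.isPGroup
    rw [hm]
    exact Nat.Coprime.pow_right m ((Nat.Prime.coprime_iff_not_dvd hq.out).2 hq').symm
  · have hTs : Group.IsSolvable T := sol hG (ne_top_of_le hM hT.1)
    exact le_of_hall_normal hTs (sylIn_iff_hallOf.1 hS₀) hTS hX
      (isPiSub_of_isPGroup (Set.mem_singleton q) hXq)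

theorem sigma_of_sylIn {p : ℕ} [hp : Fact p.Prime] {P : Subgroup G} (hP : SylIn p P M)
    (hd : p ∣ Nat.card M) (hn : nz P ≤ M) : p ∈ sigma M :=
  ⟨hp.out, hd, hP.toSylow, by rw [hP.map_toSylow]; exact hn⟩

end

section Emb
variable {M D : Subgroup G} (hM : IsCoatom M) (hD : IsCoatom D) (hne : D ≠ M) {q : ℕ}
  [hq : Fact q.Prime] (hqσ : q ∈ sigma M) {X : Subgroup G} (hXq : IsPGroup q X) (hX1 : X ≠ ⊥)
  (hXM : X ≤ M) (hNX : nz X ≤ D)
include hM hD hne hqσ hXq hX1 hXM hNX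

theorem emb_basic : NC M D ∧ ∀ S, SylIn q S (M ⊓ D) → X ≤ S → nz S ≤ M ∧ SylIn q S D := by
  have key : ∀ S, SylIn q S (M ⊓ D) → X ≤ S → NC M D ∧ nz S ≤ M ∧ SylIn q S D := by
    intro S hS hXS
    obtain ⟨h1, h2, h3⟩ := Cfsg.Agent.S1424.result hG M hM q hqσ X hXq hX1 hXM D hD hne hNX
      hS.toSylow (by rw [hS.map_toSylow]; exact hXS)
    rw [hS.map_toSylow] at h2 h3
    exact ⟨fun g hg => h1 g hg.symm, h2, hS.le.trans inf_le_right, hS.isPGroup, h3⟩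
  refine ⟨?_, fun S h1 h2 => (key S h1 h2).2⟩
  obtain ⟨S, hS, hXS⟩ := L.exists_sylIn_ge hXq (le_inf hXM ((L.le_nz X).trans hNX))
  exact (key S hS hXS).1

theorem emb_nc : NC M D := (emb_basic hG hM hD hne hqσ hXq hX1 hXM hNX).1

theorem exists_emb_syl : ∃ S, SylIn q S (M ⊓ D) ∧ X ≤ S :=
  L.exists_sylIn_ge hXq (le_inf hXM ((L.le_nz X).trans hNX))

/-- case `q ∉ σ(D)` -/
theorem emb_e (hqD : q ∉ sigma D) : q ∈ tau2 D ∧ (∃ A, A ≤ M ⊓ D ∧ IsElementaryAbelian q A ∧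
      Nat.card A = q ^ 2) ∧ IsPiHallOf (sc D) (M ⊓ D) D ∧ sigmaCore D ⊓ M = ⊥ ∧
      ∀ r : ℕ, r.Prime → r ∣ Nat.card M → r ∈ sigma D → r ∈ beta D := by
  obtain ⟨S, hS, hXS⟩ := exists_emb_syl hG hM hD hne hqσ hXq hX1 hXM hNX
  obtain ⟨hSM, hSD⟩ := (emb_basic hG hM hD hne hqσ hXq hX1 hXM hNX).2 S hS hXS
  have hqd : q ∣ Nat.card S := (dvd_card_of_ne_bot hXq hX1).trans (Subgroup.card_dvd_of_le hXS)
  have hq2 : q ≠ 2 := prime_ne_two hG hqd
  have hqDd : q ∣ Nat.card D := hqd.trans (Subgroup.card_dvd_of_le hSD.le)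
  have hr2 : PRankLE q 2 D := pRankLE_two_of_not_sigma hG hD hq.out hqD
  have hr1 : ¬ PRankLE q 1 D := by
    intro h
    rw [← pRankLE_sylIn hSD] at h
    have hc := isCyclic_of_pRankLE_one hq2 hSD.isPGroup h
    apply hqD
    refine sigma_of_sylIn hG hD hSD hqDd ?_
    refine le_trans ?_ hNX
    intro g hg
    rw [L.mem_nz_iff] at hg ⊢
    exact OOT.eq_of_card_of_cyclic hc (hg ▸ L.cj_mono hXS) hXS (L.card_cj g X)
  have hτ : q ∈ tau2 D := ⟨hq.out, hqD, hr2, hr1⟩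
  have hr1' : ¬ PRankLE q 1 S := by rwa [pRankLE_sylIn hSD]
  obtain ⟨A, hAS, hA, hAc⟩ := exists_ea_of_not_pRankLE hr1'
  have hAMD : A ≤ M ⊓ D := hAS.trans hS.le
  have hAM : A ≤ M := hAMD.trans inf_le_left
  have hAD : A ≤ D := hAMD.trans inf_le_right
  have hAq : IsPGroup q A := hS.isPGroup.to_le hAS
  obtain ⟨E, hE, hAE⟩ := exists_compl_ge hG hD (H := A) hAD
    (isPiSub_of_isPGroup (⟨hq.out, hqD⟩ : q ∈ sc D) hAq)
  have hE' := (compl_sig_iff hG hD).2 hE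
  obtain ⟨⟨hEA, -⟩, ⟨hCA, hEeq, -⟩, -⟩ :=
    Cfsg.Agent.S1418.result hG D hD E hE' q hτ A ⟨hAE, hA, hAc⟩
  have hAnc : ¬ IsCyclic A := ea_not_cyclic hA hAc
  obtain ⟨EM, hEM⟩ := exists_compl_ge hG hM (H := ⊥) bot_le (isPiSub_bot _)
  have hNA : nz A ≤ M := (Cfsg.Agent.S1420.result hG M hM EM
    ((compl_sig_iff hG hM).2 hEM.1)).2.2.1 q A hqσ hAq hAM hAnc
  have hEM' : E ≤ M := hEA.trans hNA
  obtain ⟨hsn, -, -, -, hint, -⟩ := Cfsg.Agent.S1417.result hG D hD q hτ A ⟨hAD, hA, hAc⟩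
  have hDM : sigmaCore D ⊓ M = ⊥ := hint M hM hne.symm hAM
  have hEMD : E = M ⊓ D := by
    apply le_antisymm (le_inf hEM' hE.1)
    rintro x ⟨hxM, hxD⟩
    obtain ⟨e, he, s, hs, rfl⟩ := hE'.2.2.2 x hxD
    have : s ∈ sigmaCore D ⊓ M := ⟨hs, by
      have := M.mul_mem (M.inv_mem (hEM' he)) hxM
      simpa using this⟩
    rw [hDM, Subgroup.mem_bot] at this
    rw [this, mul_one]; exact he
  refine ⟨hτ, ⟨A, hAMD, hA, hAc⟩, hEMD ▸ hE, hDM, ?_⟩
  -- (e2)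
  intro r hr hrM hrσ
  haveI : Fact r.Prime := ⟨hr⟩
  by_contra hrβ
  have hCAs : IsPiSub (sc D) (centralizer (A : Set G)) := by
    refine IsPiSub.mono ?_ (IsPiHallOf.isPi hE)
    rw [← hEeq]; exact hCA
  have hcontra : ∀ V : Subgroup G, V ≤ centralizer (A : Set G) → r ∣ Nat.card V → False :=
    fun V hV hd => (hCAs r hr (hd.trans (Subgroup.card_dvd_of_le hV))).2 hrσ
  have hrq : r ≠ q := fun h => hqD (h ▸ hrσ)
  rcases lt_or_gt_of_ne hrq with h | h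
  · -- r < q
    obtain ⟨V, hV⟩ := L.exists_sylIn (p := r) D
    have hrD : r ∣ Nat.card D := hrσ.2.1
    have hVd : r ∣ Nat.card V := by
      have h1 := L.card_mul_relIndex hV.le
      rcases hr.dvd_mul.1 (h1 ▸ hrD) with h | h
      · exact h
      · exact absurd h hV.not_dvd
    have hVs : V ≤ sigmaCore D := sigma_sylow_le hG hD hrσ hV
    have hVn : D ≤ nz V := by
      have h1 : IsPiHallOf {r} V (sigmaCore D) :=
        sylIn_iff_hallOf.1 (hV.of_le hVs (sig_le D))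
      rw [IsPiHallOf.eq_piCoreOf h1 (nil_hall_normal hsn h1)]
      exact (sig_norm D).trans (normalizer_le_normalizer_piCoreOf _ _)
    have hidx : ¬ q ∣ (pPrimeCore r D).index := fun hd =>
      absurd ((beta_struct hG hD hrD hrβ).2 q hq.out hd) (not_le.2 h)
    have h1 := le_pPrime_of hAq hAD hidx
    have h2 := h1.trans (pPrime_commutes hV.le hVn hV.isPGroup)
    exact hcontra V (le_cent_comm.1 h2) hVd
  · -- q < r
    have hqM : q ∣ Nat.card M := hqd.trans (Subgroup.card_dvd_of_le (hS.le.trans inf_le_left))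
    have hqni : ¬ IsIdealPrime q G := (Cfsg.Agent.S1408.result hG D hD q hqD hr2 hr1).1
    have hqβ : q ∉ beta M := fun h => hqni h.2
    have hrβM : r ∉ beta M := fun h => hrβ (beta_of_ideal hG hD hrσ h.2)
    obtain ⟨T, hT, hAT⟩ := exists_hallOf_ge (π := bc M) (msol hG hM) hAM
      (isPiSub_of_isPGroup (⟨hq.out, hqβ⟩ : q ∈ bc M) hAq)
    obtain ⟨S', hS', hS'T, hTS', -, hS'max⟩ := hallT hG hM hT hqσ hqβ
    have hAS' : A ≤ S' := hS'max A hAT hAq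
    obtain ⟨R, hR⟩ := L.exists_sylIn (p := r) T
    have hRM : SylIn r R M := by
      rw [sylIn_iff_hallOf] at hR ⊢
      have hb : r ∈ bc M := ⟨hr, hrβM⟩
      exact IsPiHallOf.trans (Set.singleton_subset_iff.2 hb) hR hT
    have hRd : r ∣ Nat.card R := by
      have h1 := L.card_mul_relIndex hRM.le
      rcases hr.dvd_mul.1 (h1 ▸ hrM) with h | h
      · exact h
      · exact absurd h hRM.not_dvd
    have hidx : ¬ r ∣ (pPrimeCore q M).index := fun hd =>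
      absurd ((beta_struct hG hM hqM hqβ).2 r hr hd) (not_le.2 h)
    have h1 := le_pPrime_of hRM.isPGroup hRM.le hidx
    have h2 := cent_of_pPrime hS'.isPGroup hS'.le h1 (hR.le.trans hTS')
    exact hcontra R (h2.trans (Subgroup.centralizer_le hAS')) hRd

/-- case `q ∈ σ(D)` -/
theorem emb_d (hqD : q ∈ sigma D) : q ∉ alpha M ∧ q ∉ alpha D ∧
    (∀ T, IsPiHallOf (bc M) T M → X ≤ T → T ≤ D) ∧
    ∃ S, SylIn q S ⊤ ∧ X ≤ S ∧ nz S ≤ M ⊓ D := by
  obtain ⟨S, hS, hXS⟩ := exists_emb_syl hG hM hD hne hqσ hXq hX1 hXM hNX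
  obtain ⟨hnc, hb⟩ := emb_basic hG hM hD hne hqσ hXq hX1 hXM hNX
  obtain ⟨hSM, hSD⟩ := hb S hS hXS
  have hSt : SylIn q S ⊤ := sylIn_top_of_sigma hG hD hqD hSD
  have hSDn : nz S ≤ D := sigma_nz_le hG hD hqD hSt hSD.le
  have hαM : q ∉ alpha M := fun h => not_sigma_of_alpha hG hD hM hnc.symm h hqD
  have hαD : q ∉ alpha D := fun h => not_sigma_of_alpha hG hM hD hnc h hqσ
  refine ⟨hαM, hαD, ?_, S, hSt, hXS, le_inf hSM hSDn⟩
  intro T hT hXT
  have hβM : q ∉ beta M := fun h => hαM h.1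
  obtain ⟨S', hS', hS'T, hTS', -, hS'max⟩ := hallT hG hM hT hqσ hβM
  have hXS' : X ≤ S' := hS'max X hXT hXq
  have hSM' : SylIn q S M := hSt.of_le ((L.le_nz S).trans hSM) le_top
  obtain ⟨m, hm, hmS⟩ := hS'.exists_conj_eq hSM'
  have hCX : centralizer (X : Set G) ≤ D := (cent_le_nz X).trans hNX
  have hmD : m ∈ D := mem_of_cj_le hG hD hqD hXq ((L.le_nz X).trans hNX) hCX
    ((L.cj_mono hXS').trans (hmS ▸ hSD.le))
  have h1 : nz S' ≤ D := by
    have : S' = cj m⁻¹ S := by rw [← hmS, L.cj_inv_cj]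
    rw [this, L.nz_cj]
    exact (L.cj_mono hSDn).trans (L.cj_eq_self_of_mem (D.inv_mem hmD)).le
  exact hTS'.trans h1

end Emb

section Share
variable {M D : Subgroup G} (hM : IsCoatom M) (hD : IsCoatom D) (hnc : NC M D) {q : ℕ}
  [hq : Fact q.Prime] (hqM : q ∈ sigma M) (hqD : q ∈ sigma D) {S : Subgroup G}
  (hS : SylIn q S ⊤) (hSM : S ≤ M) (hSD : S ≤ D)
include hM hD hnc hqM hqD hS hSM hSD

/-- a Hall `β(M)'`-subgroup of `M` containing the common Sylow `q`-subgroup lies in `D` -/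
theorem share_T {T : Subgroup G} (hT : IsPiHallOf (bc M) T M) (hST : S ≤ T) : T ≤ D := by
  have hβM : q ∉ beta M := fun h => not_sigma_of_beta hG hD hM hnc.symm h hqD
  obtain ⟨S', hS', hS'T, hTS', -, hS'max⟩ := hallT hG hM hT hqM hβM
  have h1 : S ≤ S' := hS'max S hST hS.isPGroup
  have h2 : S = S' := (hS.of_le hSM le_top).eq_of_le hS'.isPGroup hS'.le h1
  rw [← h2] at hTS'
  exact hTS'.trans (sigma_nz_le hG hD hqD hS hSD)

theorem share_fact {x : G} (hx : x ∈ M) : ∃ b ∈ Mb M, ∃ t ∈ M ⊓ D, x = b * t := by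
  have hβM : q ∉ beta M := fun h => not_sigma_of_beta hG hD hM hnc.symm h hqD
  obtain ⟨T, hT, hST⟩ := exists_hallOf_ge (π := bc M) (msol hG hM) hSM
      (isPiSub_of_isPGroup (⟨hq.out, hβM⟩ : q ∈ bc M) hS.isPGroup)
  obtain ⟨b, hb, t, ht, rfl⟩ := (mb_compl hG hM hT).2.2.2 x hx
  exact ⟨b, hb, t, ⟨hT.1 ht, share_T hG hM hD hnc hqM hqD hS hSM hSD hT hST ht⟩, rfl⟩

end Share

/-- BG 12.16 (first part), for subgroups `Y` with `O_q(Y) ≤ M`. -/
theorem sub1425_aux {M : Subgroup G} (hM : IsCoatom M) {Y X : Subgroup G} {q : ℕ}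
    [hq : Fact q.Prime] (hqσ : q ∈ sigma M) (hY : IsPiSub (sigma M) Y)
    (hXq : IsPGroup q X) (hX1 : X ≠ ⊥) (hXM : X ≤ M) (hYX : Y ≤ nz X) :
    ∃ g : G, cj g Y ≤ M := by
  by_cases hN : nz X ≤ M
  · exact ⟨1, by rw [L.cj_one]; exact hYX.trans hN⟩
  have hXt : X ≠ ⊤ := ne_top_of_le hM hXM
  obtain ⟨D, hD, hND⟩ := exists_coatom_ge (normalizer_ne_top hG hX1 hXt)
  have hne : D ≠ M := fun e => hN (e ▸ hND)
  have hnc := emb_nc hG hM hD hne hqσ hXq hX1 hXM hND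
  have hYD : Y ≤ D := hYX.trans hND
  by_cases hqD : q ∈ sigma D
  · obtain ⟨-, -, -, S, hS, hXS, hSN⟩ := emb_d hG hM hD hne hqσ hXq hX1 hXM hND hqD
    have hSM : S ≤ M := (L.le_nz S).trans (hSN.trans inf_le_left)
    have hSD : S ≤ D := (L.le_nz S).trans (hSN.trans inf_le_right)
    have hβD : q ∉ beta D := fun h => not_sigma_of_beta hG hM hD hnc h hqσ
    obtain ⟨T, hT, hST⟩ := exists_hallOf_ge (π := bc D) (msol hG hD) hSD
      (isPiSub_of_isPGroup (⟨hq.out, hβD⟩ : q ∈ bc D) hS.isPGroup)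
    have hTM := share_T hG hD hM hnc.symm hqD hqσ hS hSD hSM hT hST
    have hYb : IsPiSub (bc D) Y := fun r hr hd =>
      ⟨hr, fun h => not_sigma_of_beta hG hM hD hnc h (hY r hr hd)⟩
    obtain ⟨g, -, hg⟩ := IsPiHallOf.exists_conj_le (msol hG hD) hT hYD hYb
    exact ⟨g, hg.trans hTM⟩
  · obtain ⟨-, -, hH, -, h2⟩ := emb_e hG hM hD hne hqσ hXq hX1 hXM hND hqD
    have hYb : IsPiSub (sc D) Y := fun r hr hd =>
      ⟨hr, fun h => not_sigma_of_beta hG hM hD hnc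
        (h2 r hr (hY r hr hd).2.1 h) (hY r hr hd)⟩
    obtain ⟨g, -, hg⟩ := IsPiHallOf.exists_conj_le (msol hG hD) hH hYD hYb
    exact ⟨g, hg.trans inf_le_left⟩

theorem not_isPi_top {M : Subgroup G} (hM : IsCoatom M) : ¬ IsPiSub (sigma M) (⊤ : Subgroup G) := by
  intro h
  have h1 : IsPiHall (sigma M) (sigmaCore M) := hall_of_hallOf hG subset_rfl (sig_hall hG hM)
  have h2 : (sigmaCore M).index = 1 := by
    by_contra hne
    obtain ⟨p, hp, hd⟩ := Nat.exists_prime_and_dvd hne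
    refine h1.2 p hp (h p hp ?_) hd
    rw [Subgroup.card_top]
    exact hd.trans (Subgroup.index_dvd_card _)
  have h3 := Subgroup.index_eq_one.1 h2
  exact hM.1 (top_le_iff.1 (h3 ▸ sig_le M))

theorem sub1425 {M : Subgroup G} (hM : IsCoatom M) {Y : Subgroup G} (hY1 : Y ≠ ⊥)
    (hY : IsPiSub (sigma M) Y) : ∃ g : G, cj g Y ≤ sigmaCore M := by
  have hYt : Y ≠ ⊤ := fun e => not_isPi_top hG hM (e ▸ hY)
  have hYs := sol hG hYt
  -- a nontrivial normal `q`-subgroup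
  obtain ⟨q, hq, X, hX1, hXq, hXY, hXn⟩ : ∃ q : ℕ, q.Prime ∧ ∃ X : Subgroup G, X ≠ ⊥ ∧
      IsPGroup q X ∧ X ≤ Y ∧ Y ≤ nz X := by
    have : Nontrivial Y := (Subgroup.nontrivial_iff_ne_bot Y).2 hY1
    obtain ⟨p, A, hp, hAc, hA1, -, hAp⟩ := H1.exists_pgroup_characteristic_of_solvable Y hYs
    refine ⟨p, hp, A.map Y.subtype, ?_, hAp.map _, Subgroup.map_subtype_le A,
      le_normalizer_map_subtype inferInstance⟩
    intro h
    exact hA1 ((Subgroup.map_eq_bot_iff_of_injective A Y.subtype_injective).1 h)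
  haveI : Fact q.Prime := ⟨hq⟩
  have hqσ : q ∈ sigma M := hY q hq ((dvd_card_of_ne_bot hXq hX1).trans (Subgroup.card_dvd_of_le hXY))
  -- move `X` into `M`
  obtain ⟨S, hS⟩ := L.exists_sylIn (p := q) M
  have hSt := sylIn_top_of_sigma hG hM hqσ hS
  obtain ⟨x, -, hx⟩ := hSt.exists_conj_le hXq le_top
  obtain ⟨g, hg⟩ := sub1425_aux hG hM (Y := cj x Y) (X := cj x X) hqσ (isPiSub_cj.2 hY)
    (L.cj_isPGroup hXq) (fun h => hX1 (L.cj_eq_bot.1 h)) (hx.trans hS.le)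
    (by rw [L.nz_cj]; exact L.cj_mono hXn)
  rw [L.cj_cj] at hg
  exact ⟨g * x, le_sigmaCore hG hM hg (isPiSub_cj.2 hY)⟩

end Cfsg.Agent.H14.O
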