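import Mathlib.GroupTheory.Sylow
import Mathlib.GroupTheory.Nilpotent
import Cfsg.Prelude.Def_Local
import Cfsg.Prelude.Def_LocalEven
import Cfsg.Prelude.Def_Transfer
import Cfsg.Prelude.Def_Amalgam
import Cfsg.Agent.H18.PCore
import Cfsg.Agent.H18.CharP
import Cfsg.Agent.H4.BaerSuzuki
import Cfsg.Agent.H28.S4Sec
import Cfsg.Agent.H28.QdFus
import Cfsg.Agent.H28.TwoCore3
import Cfsg.Agent.H1.Hall
import Cfsg.Agent.H2.Off

set_option autoImplicit false

/-! Symmetric-group-of-degree-four-free groups: offenders when Sylow 2-subgroups have class at most 2. -/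

namespace Cfsg.Agent.H14.SF

open Cfsg Subgroup

universe u

section
variable {G : Type u} [Group G]

theorem nrm_of [Finite G] {K : Subgroup G} {g : G} (h : ∀ x ∈ K, g * x * g⁻¹ ∈ K) :
    g ∈ normalizer (K : Set G) := by
  rw [H18.mem_normalizer_iff_map]
  apply Subgroup.eq_of_le_of_card_ge
  · rintro _ ⟨x, hx, rfl⟩; exact h x hx
  · rw [Nat.card_congr (K.equivMapOfInjective _ (MulAut.conj g).injective).toEquiv.symm]

/-- the four-group generated by two commuting involutions -/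
def four (w x : G) (hw : w * w = 1) (hx : x * x = 1) (hc : w * x = x * w) : Subgroup G where
  carrier := {1, w, x, w * x}
  one_mem' := by simp
  mul_mem' := by
    have e1 : w * (w * x) = x := by rw [← mul_assoc, hw, one_mul]
    have e2 : x * (w * x) = w := by rw [hc, ← mul_assoc, hx, one_mul]
    have e3 : w * x * w = x := by rw [hc, mul_assoc, hw, mul_one]
    have e4 : w * x * x = w := by rw [mul_assoc, hx, mul_one]
    have e5 : w * x * (w * x) = 1 := by rw [← mul_assoc, e3, hx]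
    rintro a b (rfl | rfl | rfl | rfl) (rfl | rfl | rfl | rfl) <;>
      simp [hw, hx, e1, e2, e3, e4, e5, ← hc]
  inv_mem' := by
    have h1 : w⁻¹ = w := inv_eq_of_mul_eq_one_left hw
    have h2 : x⁻¹ = x := inv_eq_of_mul_eq_one_left hx
    rintro a (rfl | rfl | rfl | rfl) <;> simp [h1, h2, ← hc]

theorem mem_four {w x : G} {hw : w * w = 1} {hx : x * x = 1} {hc : w * x = x * w} {g : G} :
    g ∈ four w x hw hx hc ↔ g = 1 ∨ g = w ∨ g = x ∨ g = w * x := Iff.rfl

theorem card_four {w x : G} {hw : w * w = 1} {hx : x * x = 1} {hc : w * x = x * w}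
    (h1 : w ≠ 1) (h2 : x ≠ 1) (h3 : w ≠ x) : Nat.card (four w x hw hx hc) = 4 := by
  classical
  have h4 : w * x ≠ 1 := by
    intro h
    have : x = w := by
      have : w * x = w * w := by rw [h, hw]
      exact mul_left_cancel this
    exact h3 this.symm
  have h5 : w ≠ w * x := by
    intro h
    exact h2 (by simpa using h.symm)
  have h6 : x ≠ w * x := by
    intro h
    exact h1 (by simpa using h.symm)
  have : ((four w x hw hx hc : Subgroup G) : Set G) = ((({1, w, x, w * x} : Finset G)) : Set G) := by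
    ext g; simp [mem_four]
  change Nat.card ((four w x hw hx hc : Subgroup G) : Set G) = 4
  rw [this, Nat.card_coe_set_eq, Set.ncard_coe_finset]
  rw [Finset.card_insert_of_notMem, Finset.card_insert_of_notMem, Finset.card_insert_of_notMem,
    Finset.card_singleton]
  · simpa using h6
  · simp only [Finset.mem_insert, Finset.mem_singleton, not_or]; exact ⟨h3, h5⟩
  · simp only [Finset.mem_insert, Finset.mem_singleton, not_or]
    exact ⟨h1.symm, h2.symm, h4.symm⟩

theorem involves_of_four [Finite G] {w x a d : G} (hw : w * w = 1) (hx : x * x = 1)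
    (hc : w * x = x * w) (h1 : w ≠ 1) (h2 : x ≠ 1) (h3 : w ≠ x)
    (haw : a * w * a⁻¹ = w) (hax : a * x * a⁻¹ = w * x) (hdw : d * w * d⁻¹ = x)
    (hdx : d * x * d⁻¹ = w * x) : Involves (Equiv.Perm (Fin 4)) G := by
  have e1 : w * (w * x) = x := by rw [← mul_assoc, hw, one_mul]
  have e2 : x * (w * x) = w := by rw [hc, ← mul_assoc, hx, one_mul]
  have h4 : w * x ≠ 1 := by
    intro h
    have : x = w := by
      have : w * x = w * w := by rw [h, hw]
      exact mul_left_cancel this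
    exact h3 this.symm
  have h5 : w ≠ w * x := by
    intro h
    exact h2 (by simpa using h.symm)
  have h6 : x ≠ w * x := by
    intro h
    exact h1 (by simpa using h.symm)
  have hawx : a * (w * x) * a⁻¹ = x := by
    have : a * (w * x) * a⁻¹ = (a * w * a⁻¹) * (a * x * a⁻¹) := by group
    rw [this, haw, hax, e1]
  have hdwx : d * (w * x) * d⁻¹ = w := by
    have : d * (w * x) * d⁻¹ = (d * w * d⁻¹) * (d * x * d⁻¹) := by group
    rw [this, hdw, hdx, e2]
  obtain ⟨W, hmem, hcard⟩ : ∃ W : Subgroup G, (∀ g, g ∈ W ↔ g = 1 ∨ g = w ∨ g = x ∨ g = w * x) ∧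
      Nat.card W = 4 := ⟨four w x hw hx hc, fun g => mem_four, card_four h1 h2 h3⟩
  have haN : a ∈ normalizer (W : Set G) := by
    apply nrm_of
    intro g hg
    rw [hmem] at hg ⊢
    rcases hg with h | h | h | h
    · left; rw [h]; group
    · rw [h, haw]; simp
    · rw [h, hax]; simp
    · rw [h, hawx]; simp
  have hdN : d ∈ normalizer (W : Set G) := by
    apply nrm_of
    intro g hg
    rw [hmem] at hg ⊢
    rcases hg with h | h | h | h
    · left; rw [h]; group
    · rw [h, hdw]; simp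
    · rw [h, hdx]; simp
    · rw [h, hdwx]; simp
  refine H28.involves_of_subgroup (normalizer (W : Set G)) ?_
  have hwW : w ∈ W := (hmem _).2 (Or.inr (Or.inl rfl))
  have hxW : x ∈ W := (hmem _).2 (Or.inr (Or.inr (Or.inl rfl)))
  have hle : W ≤ normalizer (W : Set G) := le_normalizer
  refine H28.involves_four (W.subgroupOf (normalizer (W : Set G))) ?_ ⟨d, hdN⟩ ⟨a, haN⟩ ?_ ?_ ?_
  · rw [Nat.card_congr (subgroupOfEquivOfLe hle).toEquiv, hcard]
  · rintro ⟨g, hg⟩ hgW h
    rw [mem_subgroupOf] at hgW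
    have h' : d * g * d⁻¹ = g := congrArg Subtype.val h
    apply Subtype.ext
    change g = 1
    rcases (hmem _).1 hgW with h0 | h0 | h0 | h0
    · exact h0
    · change g = w at h0
      rw [h0, hdw] at h'; exact absurd h'.symm h3
    · change g = x at h0
      rw [h0, hdx] at h'; exact absurd h'.symm h6
    · change g = w * x at h0
      rw [h0, hdwx] at h'; exact absurd h' h5
  · refine ⟨⟨w, hle hwW⟩, hwW, ?_, Subtype.ext haw⟩
    intro h; exact h1 (congrArg Subtype.val h)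
  · refine ⟨⟨x, hle hxW⟩, hxW, ?_⟩
    intro h
    have h' : a * x * a⁻¹ = x := congrArg Subtype.val h
    rw [hax] at h'
    exact h6 h'.symm

/-- conjugation -/
def cn (g x : G) : G := g * x * g⁻¹

theorem cn_mul (g x y : G) : cn g (x * y) = cn g x * cn g y := by simp only [cn]; group

theorem cn_cn (g h x : G) : cn g (cn h x) = cn (g * h) x := by simp only [cn]; group

theorem cn_inv (g x : G) : cn g x⁻¹ = (cn g x)⁻¹ := by simp only [cn]; group

theorem cn_one (g : G) : cn g 1 = 1 := by simp [cn]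

theorem cn_one' (x : G) : cn 1 x = x := by simp [cn]

theorem cn_inj {g x y : G} (h : cn g x = cn g y) : x = y := by
  simpa [cn] using h

theorem cn_mem {V : Subgroup G} {g x : G} (hg : g ∈ normalizer (V : Set G)) (hx : x ∈ V) :
    cn g x ∈ V := H18.conj_mem_of_mem_normalizer hg hx

theorem cn_cent {V : Subgroup G} {g x : G} (hg : g ∈ centralizer (V : Set G)) (hx : x ∈ V) :
    cn g x = x := by
  have := mem_centralizer_iff.1 hg x hx
  simp only [cn]; rw [← this]; group

theorem cn_eq_iff {g x : G} : cn g x = x ↔ g * x = x * g := by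
  simp only [cn]
  constructor
  · intro h; rw [mul_inv_eq_iff_eq_mul] at h; exact h
  · intro h; rw [h]; group

theorem mem_cent_iff {V : Subgroup G} {g : G} :
    g ∈ centralizer (V : Set G) ↔ ∀ x ∈ V, cn g x = x := by
  constructor
  · intro h x hx; exact cn_cent h hx
  · intro h; rw [mem_centralizer_iff]; intro x hx
    have := h x hx
    rw [cn_eq_iff] at this; exact this.symm

theorem el_comm {V : Subgroup G} (hV : IsElementaryAbelian 2 V) {x y : G} (hx : x ∈ V) (hy : y ∈ V) :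
    x * y = y * x := by
  have := hV.1
  exact congrArg Subtype.val (mul_comm' (⟨x, hx⟩ : V) ⟨y, hy⟩)

theorem el_sq {V : Subgroup G} (hV : IsElementaryAbelian 2 V) {x : G} (hx : x ∈ V) :
    x * x = 1 := by rw [← pow_two]; exact hV.2 x hx

theorem four_of_inv [Finite G] {V : Subgroup G} (hV : IsElementaryAbelian 2 V) {a d : G}
    (haV : a ∈ normalizer (V : Set G)) (hdV : d ∈ normalizer (V : Set G))
    (ha : a * a ∈ centralizer (V : Set G)) (hd : d * d * d ∈ centralizer (V : Set G))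
    (hd1 : d ∉ centralizer (V : Set G)) (had : a * d * a⁻¹ * d ∈ centralizer (V : Set G)) :
    Involves (Equiv.Perm (Fin 4)) G := by
  have hα : ∀ x ∈ V, cn a (cn a x) = x := fun x hx => by rw [cn_cn]; exact cn_cent ha hx
  have hδ : ∀ x ∈ V, cn d (cn d (cn d x)) = x := fun x hx => by
    rw [cn_cn, cn_cn]; exact cn_cent hd hx
  have hrel : ∀ y ∈ V, cn d (cn a y) = cn a (cn d (cn d y)) := by
    intro y hy
    have h1 : cn (a * d * a⁻¹ * d) (cn d (cn d y)) = cn d (cn d y) :=
      cn_cent had (cn_mem hdV (cn_mem hdV hy))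
    have h2 : cn (a * d * a⁻¹ * d) (cn d (cn d y)) = cn a (cn d (cn a⁻¹ (cn d (cn d (cn d y))))) := by
      simp only [cn_cn, mul_assoc]
    rw [h2, hδ y hy] at h1
    have h3 : cn a⁻¹ y = cn a y := by
      have : cn a⁻¹ (cn a (cn a y)) = cn a⁻¹ y := by rw [hα y hy]
      rw [← this, cn_cn, inv_mul_cancel, cn_one']
    rw [h3] at h1
    rw [← h1, hα _ (cn_mem hdV (cn_mem haV hy))]
  obtain ⟨v0, hv0, hne⟩ : ∃ v ∈ V, cn d v ≠ v := by
    by_contra hcon
    push Not at hcon
    exact hd1 (mem_cent_iff.2 hcon)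
  have hmul : ∀ x y, x ∈ V → y ∈ V → x * y = y * x := fun x y hx hy => el_comm hV hx hy
  -- the key property
  have key : ∀ w ∈ V, w ≠ 1 → cn a w = w → w * cn d w * cn d (cn d w) = 1 →
      Involves (Equiv.Perm (Fin 4)) G := by
    intro w hw hw1 haw hP
    have hx := cn_mem hdV hw
    have hdd : cn d (cn d w) = w * cn d w := by
      have h1 : w * cn d w * (w * cn d w) = 1 := el_sq hV (V.mul_mem hw hx)
      exact mul_left_cancel (hP.trans h1.symm)
    have hne1 : cn d w ≠ 1 := by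
      intro h
      apply hw1
      apply cn_inj (g := d); rw [h, cn_one]
    refine involves_of_four (w := w) (x := cn d w) (a := a) (d := d) (el_sq hV hw) (el_sq hV hx)
      (hmul _ _ hw hx) hw1 hne1 ?_ haw ?_ rfl hdd
    · intro h
      rw [← h, ← h, el_sq hV hw, one_mul] at hP
      exact hw1 hP
    · change cn a (cn d w) = w * cn d w
      rw [← hdd]
      have h1 := hrel w hw
      rw [haw] at h1
      -- cn d w = cn a (cn d (cn d w))
      rw [h1, hα _ (cn_mem hdV (cn_mem hdV hw))]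
      rw [← h1]
  have hv1 := cn_mem hdV hv0
  have hv2 := cn_mem hdV hv1
  have hw0 : v0 * cn d v0 ∈ V := V.mul_mem hv0 hv1
  have hw01 : v0 * cn d v0 ≠ 1 := by
    intro h
    apply hne
    exact mul_left_cancel (h.trans (el_sq hV hv0).symm)
  have hP0 : (v0 * cn d v0) * cn d (v0 * cn d v0) * cn d (cn d (v0 * cn d v0)) = 1 := by
    have h3 := hδ v0 hv0
    simp only [cn_mul, h3]
    set v1 := cn d v0
    set v2 := cn d v1
    have e1 := el_sq hV hv0
    have e2 := el_sq hV hv1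
    have e3 := el_sq hV hv2
    calc v0 * v1 * (v1 * v2) * (v2 * v0) = v0 * (v1 * v1) * (v2 * v2) * v0 := by group
      _ = 1 := by rw [e2, e3]; simp [e1]
  have hPa : ∀ w ∈ V, w * cn d w * cn d (cn d w) = 1 →
      cn a w * cn d (cn a w) * cn d (cn d (cn a w)) = 1 := by
    intro w hw hP
    rw [hrel w hw, hrel _ (cn_mem hdV (cn_mem hdV hw)), hδ _ (cn_mem hdV hw)]
    rw [← cn_mul, ← cn_mul]
    rw [mul_assoc, hmul _ _ (cn_mem hdV (cn_mem hdV hw)) (cn_mem hdV hw), ← mul_assoc, hP, cn_one]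
  by_cases hcase : cn a (v0 * cn d v0) = v0 * cn d v0
  · exact key _ hw0 hw01 hcase hP0
  · set w := v0 * cn d v0
    have hw1 := cn_mem haV hw0
    refine key (w * cn a w) (V.mul_mem hw0 hw1) ?_ ?_ ?_
    · intro h
      apply hcase
      exact mul_left_cancel (h.trans (el_sq hV hw0).symm)
    · rw [cn_mul, hα _ hw0, hmul _ _ hw1 hw0]
    · have h1 := hPa w hw0 hP0
      have h2 := hP0
      simp only [cn_mul]
      have m1 := cn_mem hdV hw0
      have m2 := cn_mem hdV m1
      have n1 := cn_mem hdV hw1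
      have n2 := cn_mem hdV n1
      set p1 := cn d w
      set p2 := cn d p1
      set q0 := cn a w
      set q1 := cn d q0
      set q2 := cn d q1
      calc w * q0 * (p1 * q1) * (p2 * q2) = w * (q0 * p1) * q1 * (p2 * q2) := by group
        _ = w * (p1 * q0) * q1 * (p2 * q2) := by rw [hmul _ _ hw1 m1]
        _ = w * p1 * ((q0 * q1) * p2) * q2 := by group
        _ = w * p1 * (p2 * (q0 * q1)) * q2 := by rw [hmul _ _ (V.mul_mem hw1 n1) m2]
        _ = (w * p1 * p2) * (q0 * q1 * q2) := by group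
        _ = 1 := by rw [h1, h2, one_mul]

theorem conj_cent_mem {V : Subgroup G} {g c : G} (hg : g ∈ normalizer (V : Set G))
    (hc : c ∈ centralizer (V : Set G)) : g * c * g⁻¹ ∈ centralizer (V : Set G) := by
  rw [mem_cent_iff]
  intro x hx
  have h1 : cn g⁻¹ x ∈ V := cn_mem (inv_mem hg) hx
  have h2 : cn (g * c * g⁻¹) x = cn g (cn c (cn g⁻¹ x)) := by simp only [cn_cn, mul_assoc]
  rw [h2, cn_cent hc h1, cn_cn, mul_inv_cancel, cn_one']

theorem conj_cent_mem' {V : Subgroup G} {g c : G} (hg : g ∈ normalizer (V : Set G))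
    (hc : c ∈ centralizer (V : Set G)) : g⁻¹ * c * g ∈ centralizer (V : Set G) := by
  have := conj_cent_mem (inv_mem hg) hc
  simpa using this

theorem four_of_cyc [Finite G] {V : Subgroup G} (hV : IsElementaryAbelian 2 V) {a b : G}
    (haV : a ∈ normalizer (V : Set G)) (hbV : b ∈ normalizer (V : Set G))
    (ha : a * a ∈ centralizer (V : Set G)) (hb : b * b ∈ centralizer (V : Set G))
    (hcyc : ∀ k : ℕ, (a * b) ^ k ∈ centralizer (V : Set G) → 3 ∣ k) :
    Involves (Equiv.Perm (Fin 4)) G := by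
  classical
  have hex : ∃ k : ℕ, 0 < k ∧ (a * b) ^ k ∈ centralizer (V : Set G) :=
    ⟨orderOf (a * b), orderOf_pos _, by rw [pow_orderOf_eq_one]; exact one_mem _⟩
  obtain ⟨hn0, hn⟩ := Nat.find_spec hex
  obtain ⟨m, hm⟩ := hcyc _ hn
  have hm0 : 0 < m := by omega
  have hmn : m < Nat.find hex := by omega
  have hyV : a * b ∈ normalizer (V : Set G) := mul_mem haV hbV
  refine four_of_inv hV (a := a) (d := (a * b) ^ m) haV (pow_mem hyV _) ha ?_ ?_ ?_
  · rw [← pow_add, ← pow_add]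
    have : m + m + m = Nat.find hex := by omega
    rw [this]; exact hn
  · intro h
    exact Nat.find_min hex hmn ⟨hm0, h⟩
  · have hy'V : a * (a * b) * a⁻¹ ∈ normalizer (V : Set G) := mul_mem (mul_mem haV hyV) (inv_mem haV)
    have h1 : ∀ j : ℕ, (a * (a * b) * a⁻¹) ^ j * (a * b) ^ j ∈ centralizer (V : Set G) := by
      intro j
      induction j with
      | zero => simp
      | succ j ih =>
        have e : (a * (a * b) * a⁻¹) ^ (j + 1) * (a * b) ^ (j + 1) =
            ((a * (a * b) * a⁻¹) * ((a * (a * b) * a⁻¹) ^ j * (a * b) ^ j) * (a * (a * b) * a⁻¹)⁻¹) *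
              ((a * (a * b) * a⁻¹) * (a * b)) := by
          rw [pow_succ' (a * (a * b) * a⁻¹), pow_succ (a * b)]
          group
        rw [e]
        refine mul_mem (conj_cent_mem hy'V ih) ?_
        have e2 : (a * (a * b) * a⁻¹) * (a * b) = (a * a) * (b * b) := by group
        rw [e2]; exact mul_mem ha hb
    have h2 := h1 m
    rwa [conj_pow] at h2

/-- the standing assumption on an action of `H` on `V` -/
structure SA (H V : Subgroup G) : Prop where
  el : IsElementaryAbelian 2 V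
  nrm : H ≤ normalizer (V : Set G)
  cls : ∀ T ≤ H, IsPGroup 2 T → ∀ s ∈ T, ∀ t ∈ T, s * t * s⁻¹ * t⁻¹ ∈ centralizer (V : Set G)
  quad : ∀ T ≤ H, IsPGroup 2 T → ∀ v ∈ V, ∀ s ∈ T, ∀ t ∈ T, cn t (v * cn s v) = v * cn s v
  ker : IsPGroup 2 ↥(H ⊓ centralizer (V : Set G))

/-- the offender measure -/
noncomputable def gg (V B : Subgroup G) : ℕ := Nat.card B * Nat.card ↥(V ⊓ centralizer (B : Set G))

structure Good (H V A : Subgroup G) : Prop where
  le : A ≤ H
  pg : IsPGroup 2 A
  max : ∀ B ≤ H, IsPGroup 2 B → gg V B ≤ gg V A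

structure Triple (H V A : Subgroup G) : Prop where
  sa : SA H V
  gd : Good H V A
  nc : ¬ A ≤ pCoreOf 2 H

theorem SA.mono {H K V : Subgroup G} (h : SA H V) (hK : K ≤ H) : SA K V :=
  ⟨h.el, hK.trans h.nrm, fun T hT => h.cls T (hT.trans hK), fun T hT => h.quad T (hT.trans hK),
    h.ker.to_le (inf_le_inf_right _ hK)⟩

theorem Good.mono {H K V A : Subgroup G} (h : Good H V A) (hK : K ≤ H) (hA : A ≤ K) : Good K V A :=
  ⟨hA, h.pg, fun B hB => h.max B (hB.trans hK)⟩

theorem gg_pos [Finite G] (V B : Subgroup G) : 0 < gg V B := Nat.mul_pos Nat.card_pos Nat.card_pos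

theorem cent_sup {A B : Subgroup G} :
    centralizer ((A ⊔ B : Subgroup G) : Set G) = centralizer (A : Set G) ⊓ centralizer (B : Set G) := by
  apply le_antisymm
  · exact le_inf (centralizer_le (SetLike.coe_subset_coe.2 le_sup_left))
      (centralizer_le (SetLike.coe_subset_coe.2 le_sup_right))
  · rw [le_centralizer_iff]
    refine sup_le ?_ ?_
    · rw [le_centralizer_iff]; exact inf_le_left
    · rw [le_centralizer_iff]; exact inf_le_right

/-- Chermak-Delgado inequality -/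
theorem gg_mul_le [Finite G] {V A B : Subgroup G} (hV : IsElementaryAbelian 2 V)
    (hAB : A ≤ normalizer (B : Set G)) : gg V A * gg V B ≤ gg V (A ⊔ B) * gg V (A ⊓ B) := by
  have h1 : Nat.card (B ⊔ A : Subgroup G) * Nat.card (B ⊓ A : Subgroup G) = Nat.card B * Nat.card A :=
    H1.card_sup_mul_card_inf_of_le_normalizer hAB
  rw [sup_comm, inf_comm] at h1
  have h2 : Nat.card ((V ⊓ centralizer (A : Set G)) ⊔ (V ⊓ centralizer (B : Set G)) : Subgroup G) *
      Nat.card ((V ⊓ centralizer (A : Set G)) ⊓ (V ⊓ centralizer (B : Set G)) : Subgroup G) =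
      Nat.card (V ⊓ centralizer (A : Set G) : Subgroup G) * Nat.card (V ⊓ centralizer (B : Set G) : Subgroup G) :=
    H2.card_sup_mul_card_inf_of_comm fun a ha b hb => el_comm hV ha.1 hb.1
  have h3 : ((V ⊓ centralizer (A : Set G)) ⊓ (V ⊓ centralizer (B : Set G)) : Subgroup G) =
      V ⊓ centralizer ((A ⊔ B : Subgroup G) : Set G) := by
    rw [cent_sup, ← inf_inf_distrib_left]
  have h4 : ((V ⊓ centralizer (A : Set G)) ⊔ (V ⊓ centralizer (B : Set G)) : Subgroup G) ≤
      V ⊓ centralizer ((A ⊓ B : Subgroup G) : Set G) := by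
    refine sup_le (inf_le_inf_left _ ?_) (inf_le_inf_left _ ?_)
    · exact centralizer_le (SetLike.coe_subset_coe.2 inf_le_left)
    · exact centralizer_le (SetLike.coe_subset_coe.2 inf_le_right)
  have h5 := Nat.card_le_card_of_injective _ (inclusion_injective h4)
  rw [h3] at h2
  unfold gg
  calc _ = (Nat.card B * Nat.card A) * (Nat.card (V ⊓ centralizer (A : Set G) : Subgroup G) *
        Nat.card (V ⊓ centralizer (B : Set G) : Subgroup G)) := by ring
    _ = (Nat.card (A ⊔ B : Subgroup G) * Nat.card (A ⊓ B : Subgroup G)) *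
      (Nat.card ((V ⊓ centralizer (A : Set G)) ⊔ (V ⊓ centralizer (B : Set G)) : Subgroup G) *
        Nat.card (V ⊓ centralizer ((A ⊔ B : Subgroup G) : Set G) : Subgroup G)) := by rw [h1, h2]
    _ ≤ (Nat.card (A ⊔ B : Subgroup G) * Nat.card (A ⊓ B : Subgroup G)) *
      (Nat.card (V ⊓ centralizer ((A ⊓ B : Subgroup G) : Set G) : Subgroup G) *
        Nat.card (V ⊓ centralizer ((A ⊔ B : Subgroup G) : Set G) : Subgroup G)) :=
        Nat.mul_le_mul_left _ (Nat.mul_le_mul_right _ h5)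
    _ = _ := by ring

theorem gg_of_cent {V B : Subgroup G} (h : B ≤ centralizer (V : Set G)) :
    gg V B = Nat.card B * Nat.card V := by
  unfold gg
  rw [inf_eq_left.2 (le_centralizer_iff.1 h)]

theorem gg_le_of_cent [Finite G] {V B Z : Subgroup G} (hBZ : B ≤ Z)
    (h : Z ≤ centralizer (V : Set G)) : gg V B ≤ gg V Z := by
  rw [gg_of_cent h, gg_of_cent (hBZ.trans h)]
  exact Nat.mul_le_mul_right _ (Nat.card_le_card_of_injective _ (inclusion_injective hBZ))

theorem exists_triple [Finite G] {H V A : Subgroup G} (hs : SA H V) (hA : A ≤ H) (hAp : IsPGroup 2 A)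
    (hnc : ¬ A ≤ pCoreOf 2 H) (hZ : pCoreOf 2 H ≤ centralizer (V : Set G))
    (hg : gg V (pCoreOf 2 H) ≤ gg V A) : ∃ A', Triple H V A' := by
  obtain ⟨A', ⟨h1, h2⟩, h3⟩ := Set.exists_max_image {B : Subgroup G | B ≤ H ∧ IsPGroup 2 B} (gg V)
    (Set.toFinite _) ⟨A, hA, hAp⟩
  by_cases hc : A' ≤ pCoreOf 2 H
  · refine ⟨A, hs, ⟨hA, hAp, fun B hB hBp => ?_⟩, hnc⟩
    exact (h3 B ⟨hB, hBp⟩).trans ((gg_le_of_cent hc hZ).trans hg)
  · exact ⟨A', hs, ⟨h1, h2, fun B hB hBp => h3 B ⟨hB, hBp⟩⟩, hc⟩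

theorem isPGroup_sup {A B : Subgroup G} (hA : IsPGroup 2 A) (hB : IsPGroup 2 B)
    (h : A ≤ normalizer (B : Set G)) : IsPGroup 2 (A ⊔ B : Subgroup G) :=
  IsPGroup.to_sup_of_normal_right' hA hB h

theorem le_norm_cent {H V : Subgroup G} (h : H ≤ normalizer (V : Set G)) [Finite G] :
    H ≤ normalizer ((centralizer (V : Set G) : Subgroup G) : Set G) := fun _ hg =>
  nrm_of fun _ hc => conj_cent_mem (h hg) hc

theorem le_norm_inf {H A B : Subgroup G} (hA : H ≤ normalizer (A : Set G))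
    (hB : H ≤ normalizer (B : Set G)) [Finite G] :
    H ≤ normalizer ((A ⊓ B : Subgroup G) : Set G) := fun _ hg =>
  nrm_of fun _ hc => ⟨cn_mem (hA hg) hc.1, cn_mem (hB hg) hc.2⟩

theorem Good.ker_le [Finite G] {H V A : Subgroup G} (hs : SA H V) (h : Good H V A) :
    H ⊓ centralizer (V : Set G) ≤ A := by
  have hn : A ≤ normalizer ((H ⊓ centralizer (V : Set G) : Subgroup G) : Set G) :=
    h.le.trans (le_norm_inf le_normalizer (le_norm_cent hs.nrm))
  have hp := isPGroup_sup h.pg hs.ker hn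
  have h1 := h.max _ (sup_le h.le inf_le_left) hp
  have h2 : V ⊓ centralizer ((A ⊔ (H ⊓ centralizer (V : Set G)) : Subgroup G) : Set G) =
      V ⊓ centralizer (A : Set G) := by
    rw [cent_sup, ← inf_assoc]
    refine inf_eq_left.2 (inf_le_left.trans ?_)
    rw [le_centralizer_iff]; exact inf_le_right
  unfold gg at h1
  rw [h2] at h1
  have h3 := Nat.le_of_mul_le_mul_right h1 Nat.card_pos
  have h4 : A = A ⊔ (H ⊓ centralizer (V : Set G)) := eq_of_le_of_card_ge le_sup_left h3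
  rw [h4]; exact le_sup_right

/-- conjugate subgroup -/
def cj (x : G) (A : Subgroup G) : Subgroup G := A.map (MulAut.conj x).toMonoidHom

theorem mem_cj {x g : G} {A : Subgroup G} : g ∈ cj x A ↔ ∃ a ∈ A, cn x a = g := by
  simp [cj, mem_map, cn]

theorem mem_cj' {x g : G} {A : Subgroup G} : g ∈ cj x A ↔ cn x⁻¹ g ∈ A := by
  rw [mem_cj]
  constructor
  · rintro ⟨a, ha, rfl⟩; rw [cn_cn, inv_mul_cancel, cn_one']; exact ha
  · intro h; exact ⟨_, h, by rw [cn_cn, mul_inv_cancel, cn_one']⟩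

theorem cn_mem_cj {x a : G} {A : Subgroup G} (h : a ∈ A) : cn x a ∈ cj x A := mem_cj.2 ⟨a, h, rfl⟩

theorem card_cj (x : G) (A : Subgroup G) : Nat.card (cj x A) = Nat.card A :=
  (Nat.card_congr (A.equivMapOfInjective _ (MulAut.conj x).injective).toEquiv).symm

theorem cj_le {x : G} {A H : Subgroup G} (hx : x ∈ H) (hA : A ≤ H) : cj x A ≤ H := by
  intro g hg
  obtain ⟨a, ha, rfl⟩ := mem_cj.1 hg
  exact mul_mem (mul_mem hx (hA ha)) (inv_mem hx)

theorem cj_eq_of_norm {x : G} {V : Subgroup G} (hx : x ∈ normalizer (V : Set G)) : cj x V = V :=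
  H18.mem_normalizer_iff_map.1 hx

theorem gg_cj {V A : Subgroup G} {x : G} (hx : x ∈ normalizer (V : Set G)) :
    gg V (cj x A) = gg V A := by
  have h : V ⊓ centralizer ((cj x A : Subgroup G) : Set G) = cj x (V ⊓ centralizer (A : Set G)) := by
    ext g
    rw [mem_cj', mem_inf, mem_inf]
    constructor
    · rintro ⟨h1, h2⟩
      refine ⟨cn_mem (inv_mem hx) h1, ?_⟩
      rw [mem_centralizer_iff] at h2 ⊢
      intro a ha
      have := h2 _ (cn_mem_cj (x := x) ha)
      simp only [cn] at this ⊢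
      calc a * (x⁻¹ * g * x⁻¹⁻¹) = x⁻¹ * (x * a * x⁻¹ * g) * x := by group
        _ = x⁻¹ * (g * (x * a * x⁻¹)) * x := by rw [this]
        _ = _ := by group
    · rintro ⟨h1, h2⟩
      have h1' : cn x (cn x⁻¹ g) ∈ V := cn_mem hx h1
      rw [cn_cn, mul_inv_cancel, cn_one'] at h1'
      refine ⟨h1', ?_⟩
      rw [mem_centralizer_iff] at h2 ⊢
      intro b hb
      obtain ⟨a, ha, rfl⟩ := mem_cj.1 hb
      have := h2 _ ha
      simp only [cn] at this ⊢
      calc x * a * x⁻¹ * g = x * (a * (x⁻¹ * g * x⁻¹⁻¹)) * x⁻¹ := by group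
        _ = x * ((x⁻¹ * g * x⁻¹⁻¹) * a) * x⁻¹ := by rw [this]
        _ = _ := by group
  unfold gg
  rw [h, card_cj, card_cj]

theorem Good.cj {H V A : Subgroup G} (hs : SA H V) (h : Good H V A) {x : G} (hx : x ∈ H) :
    Good H V (cj x A) :=
  ⟨cj_le hx h.le, h.pg.map _, fun B hB hBp => (h.max B hB hBp).trans (gg_cj (hs.nrm hx)).ge⟩

/-- `L0`: if `[V,H] ≤ C(H)` then `H` is a 2-group -/
theorem isPGroup_of_triv {H V : Subgroup G} (hs : SA H V)
    (h : ∀ s ∈ H, ∀ v ∈ V, v * cn s v ∈ centralizer (H : Set G)) : IsPGroup 2 H := by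
  have h2 : ∀ s ∈ H, s * s ∈ centralizer (V : Set G) := by
    intro s hs'
    rw [mem_cent_iff]
    intro v hv
    have h3 := h s hs' v hv
    have h4 : cn s (v * cn s v) = v * cn s v := by
      rw [cn_eq_iff]; exact mem_centralizer_iff.1 h3 s hs'
    rw [cn_mul, cn_cn] at h4
    have h5 := cn_mem (hs.nrm hs') hv
    have h6 : cn (s * s) v ∈ V := cn_mem (mul_mem (hs.nrm hs') (hs.nrm hs')) hv
    rw [el_comm hs.el h5 h6] at h4
    exact mul_right_cancel h4
  rw [H18.isPGroup_iff_mem]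
  intro s hs'
  obtain ⟨k, hk⟩ := H18.isPGroup_iff_mem.1 hs.ker (s * s) ⟨mul_mem hs' hs', h2 s hs'⟩
  refine ⟨k + 1, ?_⟩
  rw [pow_succ', pow_mul, pow_two]; exact hk

/-- elements acting trivially on `V / C_V(H)` -/
def triv (H V : Subgroup G) (hV : IsElementaryAbelian 2 V) (hn : H ≤ normalizer (V : Set G)) :
    Subgroup G where
  carrier := {s | s ∈ H ∧ ∀ v ∈ V, v * cn s v ∈ centralizer (H : Set G)}
  one_mem' := by
    refine ⟨one_mem _, fun v hv => ?_⟩
    rw [cn_one', el_sq hV hv]; exact one_mem _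
  mul_mem' := by
    rintro s t ⟨hs1, hs2⟩ ⟨ht1, ht2⟩
    refine ⟨mul_mem hs1 ht1, fun v hv => ?_⟩
    have h1 := hs2 _ (cn_mem (hn ht1) hv)
    have h2 := ht2 v hv
    have h3 := mul_mem h2 h1
    rw [cn_cn] at h3
    have h4 : v * cn t v * (cn t v * cn (s * t) v) = v * (cn t v * cn t v) * cn (s * t) v := by group
    rw [h4, el_sq hV (cn_mem (hn ht1) hv), mul_one] at h3
    exact h3
  inv_mem' := by
    rintro s ⟨hs1, hs2⟩
    refine ⟨inv_mem hs1, fun v hv => ?_⟩
    have h1 := cn_mem (inv_mem (hn hs1)) hv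
    have h2 := hs2 _ h1
    rw [cn_cn, mul_inv_cancel, cn_one'] at h2
    rw [el_comm hV hv h1]; exact h2

/-- elements commuting with `X` modulo `K` -/
def cmod (K : Subgroup G) (X : Set G) : Subgroup G where
  carrier := {h | h ∈ normalizer (K : Set G) ∧ ∀ x ∈ X, x * h * x⁻¹ * h⁻¹ ∈ K}
  one_mem' := by
    refine ⟨one_mem _, fun x _ => ?_⟩
    simp
  mul_mem' := by
    rintro g h ⟨h1, h2⟩ ⟨h3, h4⟩
    refine ⟨mul_mem h1 h3, fun x hx => ?_⟩
    have e : x * (g * h) * x⁻¹ * (g * h)⁻¹ = (x * g * x⁻¹ * g⁻¹) * (g * (x * h * x⁻¹ * h⁻¹) * g⁻¹) := by group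
    rw [e]
    exact mul_mem (h2 x hx) (H18.conj_mem_of_mem_normalizer h1 (h4 x hx))
  inv_mem' := by
    rintro g ⟨h1, h2⟩
    refine ⟨inv_mem h1, fun x hx => ?_⟩
    have e : x * g⁻¹ * x⁻¹ * g⁻¹⁻¹ = g⁻¹ * (x * g * x⁻¹ * g⁻¹)⁻¹ * g := by group
    rw [e]
    exact H18.conj_mem_of_mem_normalizer' h1 (inv_mem (h2 x hx))

theorem mem_cmod {K : Subgroup G} {X : Set G} {h : G} :
    h ∈ cmod K X ↔ h ∈ normalizer (K : Set G) ∧ ∀ x ∈ X, x * h * x⁻¹ * h⁻¹ ∈ K := Iff.rfl

/-- coprime action: `[V,y] ∩ C(y) = 1` -/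
theorem comm_fix {V : Subgroup G} (hV : IsElementaryAbelian 2 V) {y : G} (hyN : y ∈ normalizer (V : Set G))
    {m : ℕ} (hm : Odd m) (hy : y ^ m ∈ centralizer (V : Set G)) {v : G} (hv : v ∈ V)
    (hfix : cn y (v * cn y v) = v * cn y v) : cn y v = v := by
  set w := v * cn y v with hw
  have hyv := cn_mem hyN hv
  have hwV : w ∈ V := mul_mem hv hyv
  have hw2 : w * w = 1 := el_sq hV hwV
  have h1 : cn y v = v * w := by
    rw [hw, ← mul_assoc, el_sq hV hv, one_mul]
  have h2 : ∀ k : ℕ, cn (y ^ k) v = v * w ^ k := by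
    intro k
    induction k with
    | zero => rw [pow_zero, cn_one', pow_zero, mul_one]
    | succ k ih =>
      rw [pow_succ', ← cn_cn, ih, cn_mul, h1]
      have : cn y (w ^ k) = w ^ k := by
        rw [cn_eq_iff]
        have h3 : Commute y w := cn_eq_iff.1 hfix
        exact h3.pow_right k
      rw [this, mul_assoc, pow_succ']
  have h3 := h2 m
  rw [cn_cent hy hv] at h3
  have h4 : w ^ m = 1 := by
    have : v * 1 = v * w ^ m := by rw [mul_one]; exact h3
    exact (mul_left_cancel this).symm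
  obtain ⟨j, rfl⟩ := hm
  rw [pow_add, pow_mul, pow_two, hw2, one_pow, one_mul, pow_one] at h4
  rw [h1, h4, mul_one]

theorem bs [Finite G] {H A : Subgroup G} (hA : A ≤ H) (hn : ¬ A ≤ pCoreOf 2 H) :
    ∃ x ∈ H, ¬ IsPGroup 2 (A ⊔ cj x A : Subgroup G) := by
  by_contra hcon
  push Not at hcon
  haveI : Fact (Nat.Prime 2) := ⟨Nat.prime_two⟩
  obtain ⟨N, hN, hNp, hAN⟩ := H4.baer_suzuki (p := 2) (A.subgroupOf H) (fun g => by
    rw [← H18.isPGroup_map_subtype_iff, Subgroup.map_sup, map_subgroupOf_eq_of_le hA]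
    have e : ((A.subgroupOf H).map (MulAut.conj g).toMonoidHom).map H.subtype = cj (g : G) A := by
      rw [cj, Subgroup.map_map]
      have : H.subtype.comp (MulAut.conj g).toMonoidHom =
          ((MulAut.conj (g : G)).toMonoidHom).comp H.subtype := by
        ext y; simp
      rw [this, ← Subgroup.map_map, map_subgroupOf_eq_of_le hA]
    rw [e]
    exact hcon g g.2)
  apply hn
  have h1 : N.map H.subtype ≤ pCoreOf 2 H := by
    refine H18.le_pCoreOf (map_subtype_le _) ?_ (hNp.map _)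
    intro g hg
    apply nrm_of
    rintro _ ⟨n, hn', rfl⟩
    exact ⟨⟨g, hg⟩ * n * ⟨g, hg⟩⁻¹, hN.conj_mem n hn' _, rfl⟩
  refine le_trans ?_ h1
  intro a ha
  exact ⟨⟨a, hA ha⟩, hAN ha, rfl⟩

/-- `[V, y]` -/
def comSub (V : Subgroup G) (y : G) (hV : IsElementaryAbelian 2 V) (hy : y ∈ normalizer (V : Set G)) :
    Subgroup G where
  carrier := {x | ∃ v ∈ V, x = v * cn y v}
  one_mem' := ⟨1, one_mem _, by rw [cn_one, mul_one]⟩
  mul_mem' := by
    rintro _ _ ⟨v, hv, rfl⟩ ⟨w, hw, rfl⟩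
    refine ⟨v * w, mul_mem hv hw, ?_⟩
    rw [cn_mul]
    calc v * cn y v * (w * cn y w) = v * (cn y v * w) * cn y w := by group
      _ = v * (w * cn y v) * cn y w := by rw [el_comm hV (cn_mem hy hv) hw]
      _ = _ := by group
  inv_mem' := by
    rintro _ ⟨v, hv, rfl⟩
    refine ⟨v, hv, ?_⟩
    have h1 := mul_mem hv (cn_mem hy hv)
    exact inv_eq_of_mul_eq_one_left (el_sq hV h1)

theorem mem_comSub {V : Subgroup G} {y : G} {hV : IsElementaryAbelian 2 V}
    {hy : y ∈ normalizer (V : Set G)} {x : G} : x ∈ comSub V y hV hy ↔ ∃ v ∈ V, x = v * cn y v :=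
  Iff.rfl

theorem isPGroup_of_el {V : Subgroup G} (hV : IsElementaryAbelian 2 V) : IsPGroup 2 V := by
  rw [H18.isPGroup_iff_mem]; intro x hx; exact ⟨1, by rw [pow_one]; exact hV.2 x hx⟩

/-- commuting modulo `C(V)` -/
theorem cn_comm_of {V : Subgroup G} {z y v : G} (hv : v ∈ V) (hz : z ∈ normalizer (V : Set G))
    (hy : y ∈ normalizer (V : Set G)) (h : z * y * z⁻¹ * y⁻¹ ∈ centralizer (V : Set G)) :
    cn z (cn y v) = cn y (cn z v) := by
  have h1 : cn (z * y * z⁻¹ * y⁻¹) (cn y (cn z v)) = cn y (cn z v) :=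
    cn_cent h (cn_mem hy (cn_mem hz hv))
  rw [← h1]; simp only [cn_cn]; congr 1; group

theorem step2 [Finite G] {H V A : Subgroup G} {x0 : G} (hT : Triple H V A) (hx0 : x0 ∈ H)
    (hgen : A ⊔ cj x0 A = H)
    (IHV : ∀ V' : Subgroup G, Nat.card V' < Nat.card V → ∀ H A : Subgroup G, ¬ Triple H V' A) :
    pCoreOf 2 H ≤ centralizer (V : Set G) := by
  haveI : Fact (Nat.Prime 2) := ⟨Nat.prime_two⟩
  obtain ⟨hs, hg, hnc⟩ := hT
  set Z := pCoreOf 2 H with hZ
  have hZp : IsPGroup 2 Z := H18.isPGroup_pCoreOf H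
  have hZn : H ≤ normalizer (Z : Set G) := H18.le_normalizer_pCoreOf H
  have hZH : Z ≤ H := H18.pCoreOf_le H
  -- (a)
  have ha : ∀ z ∈ Z, ∀ h ∈ H, z * h * z⁻¹ * h⁻¹ ∈ centralizer (V : Set G) := by
    have h1 : ∀ B ≤ H, IsPGroup 2 B → B ≤ cmod (centralizer (V : Set G)) (Z : Set G) := by
      intro B hB hBp b hb
      refine ⟨le_norm_cent hs.nrm (hB hb), fun z hz => ?_⟩
      have hp : IsPGroup 2 (B ⊔ Z : Subgroup G) := isPGroup_sup hBp hZp (hB.trans hZn)
      exact hs.cls _ (sup_le hB hZH) hp z (le_sup_right (a := B) hz) b (le_sup_left (b := Z) hb)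
    have h2 : H ≤ cmod (centralizer (V : Set G)) (Z : Set G) := by
      rw [← hgen]
      exact sup_le (h1 A hg.le hg.pg) (h1 _ (cj_le hx0 hg.le) (hg.pg.map _))
    intro z hz h hh
    exact (h2 hh).2 z hz
  -- (b)
  set V' := V ⊓ centralizer (Z : Set G) with hV'
  have hb : IsPGroup 2 ↥(H ⊓ centralizer (V' : Set G)) := by
    rw [H18.isPGroup_iff_mem]
    rintro y ⟨hyH, hyV'⟩
    obtain ⟨k, hk⟩ := H28.exists_pow_odd y (isOfFinOrder_of_finite y)
    set y' := y ^ 2 ^ k with hy'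
    have hy'H : y' ∈ H := pow_mem hyH _
    have hy'V' : y' ∈ centralizer (V' : Set G) := pow_mem hyV' _
    have hy'N := hs.nrm hy'H
    have hcV : y' ∈ centralizer (V : Set G) := by
      by_contra hne
      have hNne : comSub V y' hs.el hy'N ≠ ⊥ := by
        intro hbot
        apply hne
        rw [mem_cent_iff]
        intro v hv
        have h1 : v * cn y' v ∈ comSub V y' hs.el hy'N := ⟨v, hv, rfl⟩
        rw [hbot, mem_bot] at h1
        exact (mul_left_cancel (h1.trans (el_sq hs.el hv).symm))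
      have hNV : comSub V y' hs.el hy'N ≤ V := by
        rintro _ ⟨v, hv, rfl⟩; exact mul_mem hv (cn_mem hy'N hv)
      have hZN : Z ≤ normalizer ((comSub V y' hs.el hy'N : Subgroup G) : Set G) := by
        intro z hz
        apply nrm_of
        rintro _ ⟨v, hv, rfl⟩
        refine ⟨cn z v, cn_mem (hs.nrm (hZH hz)) hv, ?_⟩
        change cn z (v * cn y' v) = _
        rw [cn_mul, cn_comm_of hv (hs.nrm (hZH hz)) hy'N (ha z hz y' hy'H)]
      have hfix := H18.inf_centralizer_ne_bot ((isPGroup_of_el hs.el).to_le hNV) hZp hZN hNne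
      obtain ⟨w, ⟨hw1, hw2⟩, hw3⟩ := H28.exists_ne_of_ne_bot hfix
      apply hw3
      obtain ⟨v, hv, hwv⟩ := hw1
      have hwV' : w ∈ V' := ⟨by rw [hwv]; exact mul_mem hv (cn_mem hy'N hv), hw2⟩
      have h2 : cn y' w = w := cn_cent hy'V' hwV'
      rw [hwv] at h2
      have h3 := comm_fix hs.el hy'N hk (by rw [pow_orderOf_eq_one]; exact one_mem _) hv h2
      rw [hwv, h3, el_sq hs.el hv]
    obtain ⟨j, hj⟩ := H18.isPGroup_iff_mem.1 hs.ker y' ⟨hy'H, hcV⟩
    exact ⟨k + j, by rw [pow_add, pow_mul]; exact hj⟩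
  have hV'n : H ≤ normalizer (V' : Set G) := le_norm_inf hs.nrm (le_norm_cent hZn)
  have hV'el : IsElementaryAbelian 2 V' :=
    ⟨⟨⟨fun x y => Subtype.ext (el_comm hs.el x.2.1 y.2.1)⟩⟩, fun x hx => hs.el.2 x hx.1⟩
  have hcc : centralizer (V : Set G) ≤ centralizer (V' : Set G) :=
    centralizer_le (SetLike.coe_subset_coe.2 inf_le_left)
  have hs' : SA H V' := ⟨hV'el, hV'n, fun T hT hTp s hs1 t ht => hcc (hs.cls T hT hTp s hs1 t ht),
    fun T hT hTp v hv s hs1 t ht => hs.quad T hT hTp v hv.1 s hs1 t ht, hb⟩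
  have hZc : Z ≤ centralizer (V' : Set G) := by
    rw [le_centralizer_iff]; exact inf_le_right
  by_contra hnle
  have hlt : Nat.card V' < Nat.card V := by
    have hle : V' ≤ V := inf_le_left
    refine lt_of_le_of_ne (Nat.card_le_card_of_injective _ (inclusion_injective hle)) ?_
    intro he
    apply hnle
    have : V' = V := eq_of_le_of_card_ge hle he.ge
    rw [le_centralizer_iff, ← this]; exact inf_le_right
  -- the inequality
  have hAZ : A ⊔ Z ≤ H := sup_le hg.le hZH
  have hAZp : IsPGroup 2 (A ⊔ Z : Subgroup G) := isPGroup_sup hg.pg hZp (hg.le.trans hZn)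
  have h1 := gg_mul_le hs.el (V := V) (hg.le.trans hZn)
  have h2 := hg.max (A ⊓ Z) (inf_le_left.trans hg.le) (hg.pg.to_le inf_le_left)
  have h3 : gg V Z ≤ gg V (A ⊔ Z) := by
    have h4 : gg V A * gg V Z ≤ gg V A * gg V (A ⊔ Z) := by
      calc _ ≤ _ := h1
        _ ≤ gg V (A ⊔ Z) * gg V A := Nat.mul_le_mul_left _ h2
        _ = _ := mul_comm _ _
    exact Nat.le_of_mul_le_mul_left h4 (gg_pos _ _)
  have h5 : gg V' Z ≤ gg V' (A ⊔ Z) := by
    have e1 : V' ⊓ centralizer (Z : Set G) = V ⊓ centralizer (Z : Set G) := by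
      rw [hV', inf_assoc, inf_idem]
    have e2 : V' ⊓ centralizer ((A ⊔ Z : Subgroup G) : Set G) = V ⊓ centralizer ((A ⊔ Z : Subgroup G) : Set G) := by
      rw [hV', inf_assoc]
      congr 1
      rw [inf_eq_right]
      exact centralizer_le (SetLike.coe_subset_coe.2 le_sup_right)
    unfold gg at h3 ⊢
    rw [e1, e2]; exact h3
  obtain ⟨A', hA'⟩ := exists_triple hs' hAZ hAZp (fun h => hnc (le_sup_left.trans h)) hZc h5
  exact IHV V' hlt H A' hA'

end

end Cfsg.Agent.H14.SF
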