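import Cfsg.Agent.H14.S4Off
import Cfsg.Agent.H1.Coprime

set_option autoImplicit false

namespace Cfsg.Agent.H14.SF

open Cfsg Subgroup

universe u

section
variable {G : Type u} [Group G]

theorem comm_inv_mem {K : Subgroup G} {s t : G} (h : s * t * s⁻¹ * t⁻¹ ∈ K) :
    t * s * t⁻¹ * s⁻¹ ∈ K := by
  have := inv_mem h
  have e : (s * t * s⁻¹ * t⁻¹)⁻¹ = t * s * t⁻¹ * s⁻¹ := by group
  rwa [e] at this

theorem card_le_of_le [Finite G] {A B : Subgroup G} (h : A ≤ B) : Nat.card A ≤ Nat.card B :=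
  Nat.card_le_card_of_injective _ (inclusion_injective h)

/-- minimality hypothesis on `H` -/
def MinH (H V : Subgroup G) : Prop :=
  ∀ H' : Subgroup G, Nat.card H' < Nat.card H → ∀ A : Subgroup G, ¬ Triple H' V A

def MinA (H V : Subgroup G) (n : ℕ) : Prop :=
  ∀ A' : Subgroup G, Nat.card A' < n → ¬ Triple H V A'

theorem P3 [Finite G] {H V : Subgroup G} (hs : SA H V) (hZ : pCoreOf 2 H ≤ centralizer (V : Set G))
    (IHH : MinH H V) {A : Subgroup G} {a : G} (hg : Good H V A) (ha : a ∈ A)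
    (haV : a ∉ centralizer (V : Set G)) {T : Subgroup G} (hT : T ≤ H) (hTp : IsPGroup 2 T)
    (hTa : ∀ t ∈ T, t * a * t⁻¹ * a⁻¹ ∈ centralizer (V : Set G)) :
    ∀ t ∈ T, ∀ s ∈ A, t * s * t⁻¹ * s⁻¹ ∈ centralizer (V : Set G) := by
  set K := H ⊓ cmod (centralizer (V : Set G)) {a} with hK
  have hnc := le_norm_cent hs.nrm
  have hTK : T ≤ K := fun t ht => ⟨hT ht, hnc (hT ht), by
    rintro x rfl; exact comm_inv_mem (hTa t ht)⟩
  have hAK : A ≤ K := fun s hs' => ⟨hg.le hs', hnc (hg.le hs'), by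
    rintro x rfl; exact hs.cls A hg.le hg.pg _ ha s hs'⟩
  have hKH : K ≤ H := inf_le_left
  have hAO : A ≤ pCoreOf 2 K := by
    by_contra hcon
    have htr : Triple K V A := ⟨hs.mono hKH, hg.mono hKH hAK, hcon⟩
    have hKeq : K = H := by
      apply eq_of_le_of_card_ge hKH
      by_contra hlt
      exact IHH K (not_le.1 hlt) A htr
    -- `a` commutes with `H` modulo `C(V)`
    have hall : ∀ h ∈ H, h * a * h⁻¹ * a⁻¹ ∈ centralizer (V : Set G) := by
      intro h hh
      rw [← hKeq] at hh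
      exact comm_inv_mem (hh.2.2 a rfl)
    apply haV
    apply hZ
    have hX : zpowers a ⊔ (H ⊓ centralizer (V : Set G)) ≤ A :=
      sup_le (by rw [zpowers_le]; exact ha) (hg.ker_le hs)
    refine H18.le_pCoreOf (hX.trans hg.le) ?_ (hg.pg.to_le hX) (le_sup_left (a := zpowers a) (mem_zpowers a))
    intro h hh
    rw [H18.mem_normalizer_iff_map]
    apply eq_of_le_of_card_ge
    · rw [Subgroup.map_sup, MonoidHom.map_zpowers]
      refine sup_le ?_ ?_
      · rw [zpowers_le]
        have e : (MulAut.conj h).toMonoidHom a = (h * a * h⁻¹ * a⁻¹) * a := by simp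
        rw [e]
        refine mul_mem ?_ (le_sup_left (a := zpowers a) (mem_zpowers a))
        exact le_sup_right (a := zpowers a) (b := H ⊓ centralizer (V : Set G))
          (mem_inf.2 ⟨H.mul_mem (H.mul_mem (H.mul_mem hh (hg.le ha)) (H.inv_mem hh))
            (H.inv_mem (hg.le ha)), hall h hh⟩)
      · refine le_trans ?_ le_sup_right
        rintro _ ⟨x, hx, rfl⟩
        exact mem_inf.2 ⟨H.mul_mem (H.mul_mem hh hx.1) (H.inv_mem hh), conj_cent_mem (hs.nrm hh) hx.2⟩
    · exact (card_cj h _).ge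
  have hp : IsPGroup 2 (T ⊔ pCoreOf 2 K : Subgroup G) :=
    isPGroup_sup hTp (H18.isPGroup_pCoreOf K) (hTK.trans (H18.le_normalizer_pCoreOf K))
  intro t ht s hs'
  exact hs.cls _ (sup_le hT ((H18.pCoreOf_le K).trans hKH)) hp t (le_sup_left (b := pCoreOf 2 K) ht) s
    (le_sup_right (a := T) (hAO hs'))

theorem P3' [Finite G] {H V : Subgroup G} (hs : SA H V) (hZ : pCoreOf 2 H ≤ centralizer (V : Set G))
    (IHH : MinH H V) {A₁ A₂ : Subgroup G} {a b : G} (h1 : Good H V A₁) (h2 : Good H V A₂)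
    (ha : a ∈ A₁) (haV : a ∉ centralizer (V : Set G)) (hb : b ∈ A₂)
    (hbV : b ∉ centralizer (V : Set G)) (hab : a * b * a⁻¹ * b⁻¹ ∈ centralizer (V : Set G)) :
    ∀ s ∈ A₁, ∀ t ∈ A₂, s * t * s⁻¹ * t⁻¹ ∈ centralizer (V : Set G) := by
  have hnc := le_norm_cent hs.nrm
  have k1 := P3 hs hZ IHH h1 ha haV (T := A₂ ⊓ cmod (centralizer (V : Set G)) {a})
    (inf_le_left.trans h2.le) (h2.pg.to_le inf_le_left) (fun t ht => comm_inv_mem (ht.2.2 a rfl))
    b ⟨hb, hnc (h2.le hb), by rintro x rfl; exact hab⟩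
  exact P3 hs hZ IHH h2 hb hbV h1.le h1.pg (fun t ht => comm_inv_mem (k1 t ht))

theorem norm_of_comm [Finite G] {H V A₁ A₂ : Subgroup G} (hs : SA H V) (h1 : Good H V A₁)
    (h2 : Good H V A₂) (h : ∀ s ∈ A₁, ∀ t ∈ A₂, s * t * s⁻¹ * t⁻¹ ∈ centralizer (V : Set G)) :
    A₁ ≤ normalizer (A₂ : Set G) := by
  intro s hs'
  apply nrm_of
  intro t ht
  have e : s * t * s⁻¹ = (s * t * s⁻¹ * t⁻¹) * t := by group
  rw [e]
  refine mul_mem ?_ ht
  apply h2.ker_le hs
  exact mem_inf.2 ⟨H.mul_mem (H.mul_mem (H.mul_mem (h1.le hs') (h2.le ht)) (H.inv_mem (h1.le hs')))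
    (H.inv_mem (h2.le ht)), h s hs' t ht⟩

theorem gen [Finite G] {H V A₁ A₂ : Subgroup G} (hs : SA H V) (IHH : MinH H V) (h1 : Good H V A₁)
    (h2 : Good H V A₂) (h : ¬ IsPGroup 2 (A₁ ⊔ A₂ : Subgroup G)) : A₁ ⊔ A₂ = H := by
  have hle : A₁ ⊔ A₂ ≤ H := sup_le h1.le h2.le
  apply eq_of_le_of_card_ge hle
  by_contra hlt
  refine IHH (A₁ ⊔ A₂) (not_le.1 hlt) A₁ ⟨hs.mono hle, h1.mono hle le_sup_left, fun hc => h ?_⟩
  have h3 : IsPGroup 2 (A₂ ⊔ pCoreOf 2 (A₁ ⊔ A₂) : Subgroup G) :=
    isPGroup_sup h2.pg (H18.isPGroup_pCoreOf _) (le_sup_right.trans (H18.le_normalizer_pCoreOf _))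
  exact h3.to_le (sup_le (hc.trans le_sup_right) le_sup_left)

theorem le_norm_triv [Finite G] {H V : Subgroup G} (hV : IsElementaryAbelian 2 V)
    (hn : H ≤ normalizer (V : Set G)) : H ≤ normalizer ((triv H V hV hn : Subgroup G) : Set G) := by
  intro h hh
  apply nrm_of
  rintro s ⟨hs1, hs2⟩
  refine ⟨mul_mem (mul_mem hh hs1) (inv_mem hh), fun v hv => ?_⟩
  have h1 := hs2 (cn h⁻¹ v) (cn_mem (inv_mem (hn hh)) hv)
  have h2 : cn h (cn h⁻¹ v * cn s (cn h⁻¹ v)) = cn h⁻¹ v * cn s (cn h⁻¹ v) := by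
    rw [cn_eq_iff]; exact mem_centralizer_iff.1 h1 h hh
  rw [← h2, cn_mul, cn_cn, cn_cn, cn_cn, mul_inv_cancel, cn_one'] at h1
  exact h1

theorem not_triv [Finite G] {H V A : Subgroup G} {x0 y : G} (hT : Triple H V A) (hx0 : x0 ∈ H)
    (hgen : A ⊔ cj x0 A = H) (hy : y ∈ H)
    (h : ∀ s ∈ cj y A, ∀ v ∈ V, v * cn s v ∈ centralizer (H : Set G)) : False := by
  obtain ⟨hs, hg, hnc⟩ := hT
  have hn := le_norm_triv hs.el hs.nrm
  have h1 : A ≤ triv H V hs.el hs.nrm := by
    intro a ha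
    have h2 : cn y a ∈ triv H V hs.el hs.nrm :=
      ⟨cj_le hy hg.le (cn_mem_cj ha), h _ (cn_mem_cj ha)⟩
    have h3 := cn_mem (inv_mem (hn hy)) h2
    rwa [cn_cn, inv_mul_cancel, cn_one'] at h3
  have h2 : H ≤ triv H V hs.el hs.nrm := by
    conv_lhs => rw [← hgen]
    refine sup_le h1 ?_
    intro g hg'
    obtain ⟨a, ha, rfl⟩ := mem_cj.1 hg'
    exact cn_mem (hn hx0) (h1 ha)
  have h3 := isPGroup_of_triv hs (fun s hs' v hv => (h2 hs').2 v hv)
  apply hnc
  exact hg.le.trans (H18.le_pCoreOf le_rfl le_normalizer h3)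

/-- `{v ∈ V | [v, s] ∈ K}` -/
def comIn (V K : Subgroup G) (s : G) (hV : IsElementaryAbelian 2 V)
    (hs : s ∈ normalizer (V : Set G)) : Subgroup G where
  carrier := {v | v ∈ V ∧ v * cn s v ∈ K}
  one_mem' := ⟨one_mem _, by rw [cn_one, mul_one]; exact one_mem _⟩
  mul_mem' := by
    rintro v w ⟨hv, hv'⟩ ⟨hw, hw'⟩
    refine ⟨mul_mem hv hw, ?_⟩
    rw [cn_mul]
    have e : v * w * (cn s v * cn s w) = (v * cn s v) * (w * cn s w) := by
      calc v * w * (cn s v * cn s w) = v * (w * cn s v) * cn s w := by group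
        _ = v * (cn s v * w) * cn s w := by rw [el_comm hV hw (cn_mem hs hv)]
        _ = _ := by group
    rw [e]; exact mul_mem hv' hw'
  inv_mem' := by
    rintro v ⟨hv, hv'⟩
    have : v⁻¹ = v := inv_eq_of_mul_eq_one_left (el_sq hV hv)
    rw [this]; exact ⟨hv, hv'⟩

theorem cn_cent_mem {A : Subgroup G} {s v : G} (hs : s ∈ normalizer (A : Set G))
    (hv : v ∈ centralizer (A : Set G)) : cn s v ∈ centralizer (A : Set G) :=
  conj_cent_mem hs hv

theorem P4 [Finite G] {H V A : Subgroup G} {x0 : G} (hT : Triple H V A) (hx0 : x0 ∈ H)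
    (hgen : A ⊔ cj x0 A = H) (hZ : pCoreOf 2 H ≤ centralizer (V : Set G))
    (IHA : MinA H V (Nat.card A)) {y z : G} (hy : y ∈ H) (hz : z ∈ H)
    (hp : IsPGroup 2 (cj y A ⊔ cj z A : Subgroup G)) : cj y A = cj z A := by
  have hs := hT.sa
  have hg := hT.gd
  have g2 : Good H V (cj y A) := hg.cj hs hy
  have g3 : Good H V (cj z A) := hg.cj hs hz
  have hle : cj y A ⊔ cj z A ≤ H := sup_le g2.le g3.le
  have hcomm : ∀ s ∈ cj y A, ∀ t ∈ cj z A, s * t * s⁻¹ * t⁻¹ ∈ centralizer (V : Set G) :=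
    fun s hs' t ht => hs.cls _ hle hp s (le_sup_left (b := cj z A) hs') t (le_sup_right (a := cj y A) ht)
  have n23 := norm_of_comm hs g2 g3 hcomm
  have h1 := gg_mul_le hs.el n23
  have e2 : gg V (cj y A) = gg V A := gg_cj (hs.nrm hy)
  have e3 : gg V (cj z A) = gg V A := gg_cj (hs.nrm hz)
  have h4 := hg.max _ hle hp
  have h5 := hg.max (cj y A ⊓ cj z A) (inf_le_left.trans g2.le) (g2.pg.to_le inf_le_left)
  rw [e2, e3] at h1
  have hpos := gg_pos V A
  have eB : gg V (cj y A ⊔ cj z A) = gg V A := by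
    apply le_antisymm h4
    by_contra hlt
    have := Nat.mul_lt_mul_of_lt_of_le (not_le.1 hlt) h5 hpos
    omega
  have eD : gg V (cj y A ⊓ cj z A) = gg V A := by
    apply le_antisymm h5
    by_contra hlt
    have := Nat.mul_lt_mul_of_le_of_lt h4 (not_le.1 hlt) hpos
    omega
  by_cases hD : cj y A ⊓ cj z A ≤ pCoreOf 2 H
  · exfalso
    have hDV : cj y A ⊓ cj z A ≤ centralizer (V : Set G) := hD.trans hZ
    set n := Nat.card A with hn
    set k := Nat.card ↥(cj y A ⊓ cj z A) with hk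
    set c := Nat.card ↥(V ⊓ centralizer (A : Set G)) with hc
    set N := Nat.card V with hN
    have hnpos : 0 < n := Nat.card_pos
    have hkpos : 0 < k := Nat.card_pos
    have hNpos : 0 < N := Nat.card_pos
    have hcpos : 0 < c := Nat.card_pos
    have q1 : k * N = n * c := by
      rw [gg_of_cent hDV] at eD; exact eD
    have c2 : Nat.card ↥(V ⊓ centralizer ((cj y A : Subgroup G) : Set G)) = c := by
      have := e2; unfold gg at this
      rw [card_cj] at this; exact Nat.eq_of_mul_eq_mul_left hnpos this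
    have c3 : Nat.card ↥(V ⊓ centralizer ((cj z A : Subgroup G) : Set G)) = c := by
      have := e3; unfold gg at this
      rw [card_cj] at this; exact Nat.eq_of_mul_eq_mul_left hnpos this
    have c4 : Nat.card ↥(V ⊓ centralizer ((cj x0 A : Subgroup G) : Set G)) = c := by
      have := gg_cj (A := A) (hs.nrm hx0); unfold gg at this
      rw [card_cj] at this; exact Nat.eq_of_mul_eq_mul_left hnpos this
    have q2 : Nat.card ↥(cj y A ⊔ cj z A) * k = n * n := by
      have h1 : Nat.card (cj z A ⊔ cj y A : Subgroup G) * Nat.card (cj z A ⊓ cj y A : Subgroup G) =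
          Nat.card (cj z A) * Nat.card (cj y A) := H1.card_sup_mul_card_inf_of_le_normalizer n23
      rw [sup_comm, inf_comm, card_cj, card_cj] at h1
      exact h1
    set b := Nat.card ↥(cj y A ⊔ cj z A) with hb
    set e := Nat.card ↥(V ⊓ centralizer ((cj y A ⊔ cj z A : Subgroup G) : Set G)) with he
    have q3 : b * e = n * c := eB
    set f := Nat.card ↥(V ⊓ centralizer (H : Set G)) with hf
    set sV := (V ⊓ centralizer ((cj y A : Subgroup G) : Set G)) ⊔
      (V ⊓ centralizer ((cj z A : Subgroup G) : Set G)) with hsV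
    have q4 : Nat.card sV * e = c * c := by
      have h2 : Nat.card sV *
          Nat.card ((V ⊓ centralizer ((cj y A : Subgroup G) : Set G)) ⊓
            (V ⊓ centralizer ((cj z A : Subgroup G) : Set G)) : Subgroup G) = _ :=
        H2.card_sup_mul_card_inf_of_comm fun a ha b hb => el_comm hs.el ha.1 hb.1
      rw [← inf_inf_distrib_left, ← cent_sup, c2, c3] at h2
      exact h2
    have q5 : c * c ≤ N * f := by
      have h2 : Nat.card ((V ⊓ centralizer (A : Set G)) ⊔ (V ⊓ centralizer ((cj x0 A : Subgroup G) : Set G)) : Subgroup G) *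
          Nat.card ((V ⊓ centralizer (A : Set G)) ⊓
            (V ⊓ centralizer ((cj x0 A : Subgroup G) : Set G)) : Subgroup G) = _ :=
        H2.card_sup_mul_card_inf_of_comm fun a ha b hb => el_comm hs.el ha.1 hb.1
      rw [← inf_inf_distrib_left, ← cent_sup, c4, hgen] at h2
      rw [← h2]
      exact Nat.mul_le_mul_right _ (card_le_of_le (sup_le inf_le_left inf_le_left))
    -- e * N = c * c
    have q6 : e * N = c * c := by
      have r1 : e * (n * n) = n * c * k := by rw [← q2, ← q3]; ring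
      have r2 : e * n = c * k := by
        apply Nat.eq_of_mul_eq_mul_left hnpos
        calc n * (e * n) = e * (n * n) := by ring
          _ = n * c * k := r1
          _ = n * (c * k) := by ring
      apply Nat.eq_of_mul_eq_mul_left hnpos
      calc n * (e * N) = (e * n) * N := by ring
        _ = c * k * N := by rw [r2]
        _ = c * (k * N) := by ring
        _ = n * (c * c) := by rw [q1]; ring
    have q7 : e ≤ f := by
      have : N * e ≤ N * f := by rw [mul_comm N e, q6]; exact q5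
      exact Nat.le_of_mul_le_mul_left this hNpos
    have hHB : V ⊓ centralizer (H : Set G) ≤
        V ⊓ centralizer ((cj y A ⊔ cj z A : Subgroup G) : Set G) :=
      inf_le_inf_left _ (centralizer_le (SetLike.coe_subset_coe.2 hle))
    have hHBe := eq_of_le_of_card_ge hHB q7
    have hepos : 0 < e := Nat.card_pos
    have hsVe : sV = V := by
      apply eq_of_le_of_card_ge (sup_le inf_le_left inf_le_left)
      have : Nat.card sV * e = N * e := by rw [q4, ← q6, mul_comm]
      exact (Nat.eq_of_mul_eq_mul_right hepos this).ge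
    refine not_triv hT hx0 hgen hy (fun s hs' v hv => ?_)
    have hsN : s ∈ normalizer (V : Set G) := hs.nrm (g2.le hs')
    have h6 : v * cn s v ∈ centralizer ((cj z A : Subgroup G) : Set G) := by
      have h7 : sV ≤ comIn V (centralizer ((cj z A : Subgroup G) : Set G)) s hs.el hsN := by
        refine sup_le ?_ ?_
        · rintro w ⟨hw1, hw2⟩
          refine ⟨hw1, ?_⟩
          have : cn s w = w := by rw [cn_eq_iff]; exact mem_centralizer_iff.1 hw2 s hs'
          rw [this, el_sq hs.el hw1]; exact one_mem _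
        · rintro w ⟨hw1, hw2⟩
          exact ⟨hw1, mul_mem hw2 (cn_cent_mem (n23 hs') hw2)⟩
      rw [hsVe] at h7
      exact (h7 hv).2
    have h8 : v * cn s v ∈ centralizer ((cj y A : Subgroup G) : Set G) := by
      rw [mem_centralizer_iff]
      intro t ht
      exact cn_eq_iff.1 (hs.quad _ g2.le g2.pg v hv s hs' t ht)
    have h9 : v * cn s v ∈ V ⊓ centralizer (H : Set G) := by
      rw [hHBe, cent_sup]
      exact ⟨mul_mem hv (cn_mem hsN hv), h8, h6⟩
    exact h9.2
  · have htr : Triple H V (cj y A ⊓ cj z A) :=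
      ⟨hs, ⟨inf_le_left.trans g2.le, g2.pg.to_le inf_le_left,
        fun B hB hBp => (hg.max B hB hBp).trans eD.ge⟩, hD⟩
    have hcard : Nat.card A ≤ Nat.card ↥(cj y A ⊓ cj z A) := by
      by_contra hlt
      exact IHA _ (not_le.1 hlt) htr
    have k2 : cj y A ⊓ cj z A = cj y A :=
      eq_of_le_of_card_ge inf_le_left (by rw [card_cj]; exact hcard)
    have k3 : cj y A ⊓ cj z A = cj z A :=
      eq_of_le_of_card_ge inf_le_right (by rw [card_cj]; exact hcard)
    rw [← k2, k3]

theorem claim5 [Finite G] {H V A : Subgroup G} {x0 : G} (hT : Triple H V A) (hx0 : x0 ∈ H)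
    (hgen : A ⊔ cj x0 A = H) (hZ : pCoreOf 2 H ≤ centralizer (V : Set G)) (IHH : MinH H V)
    (IHA : MinA H V (Nat.card A)) {a : G} (ha : a ∈ A) (haV : a ∉ centralizer (V : Set G)) :
    cj x0 A ⊔ cj (a * x0) A = H := by
  have hs := hT.sa
  have hg := hT.gd
  have haH := hg.le ha
  have g2 : Good H V (cj x0 A) := hg.cj hs hx0
  have g3 : Good H V (cj (a * x0) A) := hg.cj hs (mul_mem haH hx0)
  apply gen hs IHH g2 g3
  intro hp
  have h1 := P4 hT hx0 hgen hZ IHA hx0 (mul_mem haH hx0) hp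
  have h2 : a ∈ normalizer ((cj x0 A : Subgroup G) : Set G) := by
    apply nrm_of
    intro b hb
    obtain ⟨c, hc, rfl⟩ := mem_cj.1 hb
    rw [h1]
    have : a * cn x0 c * a⁻¹ = cn (a * x0) c := by
      change cn a (cn x0 c) = _
      rw [cn_cn]
    rw [this]; exact cn_mem_cj hc
  have hpa : IsPGroup 2 (zpowers a ⊔ cj x0 A : Subgroup G) :=
    isPGroup_sup (hg.pg.to_le (by rw [zpowers_le]; exact ha)) g2.pg (by rw [zpowers_le]; exact h2)
  have hple : zpowers a ⊔ cj x0 A ≤ H := sup_le (by rw [zpowers_le]; exact haH) g2.le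
  have hne : ∃ b ∈ cj x0 A, b ∉ centralizer (V : Set G) := by
    by_contra hcon
    push Not at hcon
    apply hT.nc
    have h3 : A ≤ H ⊓ centralizer (V : Set G) := by
      intro c hc
      refine ⟨hg.le hc, ?_⟩
      have h4 := hcon _ (cn_mem_cj hc)
      have h5 := conj_cent_mem' (hs.nrm hx0) h4
      have : x0⁻¹ * cn x0 c * x0 = c := by simp only [cn]; group
      rwa [this] at h5
    refine h3.trans (H18.le_pCoreOf inf_le_left ?_ hs.ker)
    exact le_norm_inf le_normalizer (le_norm_cent hs.nrm)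
  obtain ⟨b, hb, hbV⟩ := hne
  have hab := hs.cls _ hple hpa a (le_sup_left (a := zpowers a) (mem_zpowers a)) b
    (le_sup_right (a := zpowers a) hb)
  have h3 := P3' hs hZ IHH hg g2 ha haV hb hbV hab
  have h4 := norm_of_comm hs hg g2 h3
  have h5 := isPGroup_sup hg.pg g2.pg h4
  rw [hgen] at h5
  exact hT.nc (hg.le.trans (H18.le_pCoreOf le_rfl le_normalizer h5))

theorem mem_cent_cj {A : Subgroup G} {a v : G} (h : v ∈ centralizer (A : Set G)) :
    cn a v ∈ centralizer ((cj a A : Subgroup G) : Set G) := by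
  rw [mem_centralizer_iff]
  intro b hb
  obtain ⟨c, hc, rfl⟩ := mem_cj.1 hb
  rw [← cn_mul, ← cn_mul, mem_centralizer_iff.1 h c hc]

theorem cj_cj (x y : G) (A : Subgroup G) : cj x (cj y A) = cj (x * y) A := by
  ext g
  rw [mem_cj', mem_cj', mem_cj', cn_cn, mul_inv_rev]

theorem claim6 [Finite G] {H V A : Subgroup G} {x0 : G} (hT : Triple H V A) (hx0 : x0 ∈ H)
    (hgen : A ⊔ cj x0 A = H) (hZ : pCoreOf 2 H ≤ centralizer (V : Set G)) (IHH : MinH H V)
    (IHA : MinA H V (Nat.card A)) {a v : G} (ha : a ∈ A) (haV : a ∉ centralizer (V : Set G))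
    (hv : v ∈ V) (hv2 : v ∈ centralizer ((cj x0 A : Subgroup G) : Set G))
    (hw : v * cn a v ∈ centralizer (H : Set G)) : v ∈ centralizer (H : Set G) := by
  have hs := hT.sa
  have hg := hT.gd
  have h1 := claim5 hT hx0 hgen hZ IHH IHA ha haV
  rw [← h1, cent_sup]
  refine ⟨hv2, ?_⟩
  have h2 : cn a v ∈ centralizer ((cj (a * x0) A : Subgroup G) : Set G) := by
    rw [← cj_cj]; exact mem_cent_cj hv2
  have h3 : v * cn a v ∈ centralizer ((cj (a * x0) A : Subgroup G) : Set G) :=
    centralizer_le (SetLike.coe_subset_coe.2 (cj_le (mul_mem (hg.le ha) hx0) hg.le)) hw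
  have h4 := mul_mem h3 (inv_mem h2)
  rwa [mul_inv_cancel_right] at h4

theorem card_range_mul_card_ker {A B : Type*} [Group A] [Group B] (f : A →* B) :
    Nat.card f.range * Nat.card f.ker = Nat.card A := by
  rw [Subgroup.card_eq_card_quotient_mul_card_subgroup f.ker,
    Nat.card_congr (QuotientGroup.quotientKerEquivRange f).toEquiv]

theorem step6 [Finite G] {H V A : Subgroup G} {x0 : G} (hT : Triple H V A) (hx0 : x0 ∈ H)
    (hgen : A ⊔ cj x0 A = H) (hZ : pCoreOf 2 H ≤ centralizer (V : Set G)) (IHH : MinH H V)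
    (IHA : MinA H V (Nat.card A)) {v : G} (hv : v ∈ V)
    (hv2 : v ∈ centralizer ((cj x0 A : Subgroup G) : Set G)) (hvH : v ∉ centralizer (H : Set G))
    {u : G} (hu : u ∈ V) (hu1 : u ∈ centralizer (A : Set G)) :
    ∃ a ∈ A, v * cn a v * u ∈ centralizer (H : Set G) := by
  have hs := hT.sa
  have hg := hT.gd
  have hfix : ∀ a ∈ A, ∀ b ∈ A, cn a (v * cn b v) = v * cn b v := fun a ha b hb =>
    hs.quad A hg.le hg.pg v hv b hb a ha
  let ψ : A →* G :=
    { toFun := fun a => v * cn (a : G) v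
      map_one' := by simp only [OneMemClass.coe_one, cn_one']; exact el_sq hs.el hv
      map_mul' := by
        intro a b
        have h1 : cn (b : G) v = v * (v * cn (b : G) v) := by
          rw [← mul_assoc, el_sq hs.el hv, one_mul]
        change v * cn ((a : G) * b) v = (v * cn (a : G) v) * (v * cn (b : G) v)
        rw [← cn_cn]
        conv_lhs => rw [h1]
        rw [cn_mul, hfix a a.2 b b.2, mul_assoc v (cn (a : G) v)] }
  have hψ : ∀ a : A, ψ a = v * cn (a : G) v := fun _ => rfl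
  have hkey : ∀ a : A, ψ a ∈ centralizer (H : Set G) → (a : G) ∈ centralizer (V : Set G) := by
    intro a ha
    by_contra hne
    exact hvH (claim6 hT hx0 hgen hZ IHH IHA a.2 hne hv hv2 ha)
  have hψ1 : ∀ a : A, (a : G) ∈ centralizer (V : Set G) → ψ a = 1 := by
    intro a ha
    rw [hψ, cn_cent ha hv, el_sq hs.el hv]
  have hker : ψ.ker = (H ⊓ centralizer (V : Set G)).subgroupOf A := by
    ext a
    rw [MonoidHom.mem_ker, mem_subgroupOf]
    constructor
    · intro h
      exact ⟨hg.le a.2, hkey a (by rw [h]; exact one_mem _)⟩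
    · intro h
      exact hψ1 a h.2
  set K := H ⊓ centralizer (V : Set G) with hK
  have hKA : K ≤ A := hg.ker_le hs
  have hkc : Nat.card ψ.ker = Nat.card K := by
    rw [hker]; exact Nat.card_congr (subgroupOfEquivOfLe hKA).toEquiv
  have q1 := card_range_mul_card_ker ψ
  rw [hkc] at q1
  have hrV : ψ.range ≤ V ⊓ centralizer (A : Set G) := by
    rintro _ ⟨a, rfl⟩
    refine mem_inf.2 ⟨mul_mem hv (cn_mem (hs.nrm (hg.le a.2)) hv), ?_⟩
    rw [mem_centralizer_iff]
    intro b hb
    exact cn_eq_iff.1 (hfix b hb a a.2)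
  have hrC : ψ.range ⊓ (V ⊓ centralizer (H : Set G)) = ⊥ := by
    rw [eq_bot_iff]
    rintro _ ⟨⟨a, rfl⟩, _, h⟩
    rw [mem_bot]
    exact hψ1 a (hkey a h)
  have q2 : Nat.card (ψ.range ⊔ (V ⊓ centralizer (H : Set G)) : Subgroup G) * 1 =
      Nat.card ψ.range * Nat.card (V ⊓ centralizer (H : Set G) : Subgroup G) := by
    have := H2.card_sup_mul_card_inf_of_comm (A := ψ.range) (B := V ⊓ centralizer (H : Set G))
      fun a ha b hb => el_comm hs.el (hrV ha).1 hb.1
    rw [hrC, card_bot] at this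
    exact this
  set n := Nat.card A with hn
  set k := Nat.card K with hk
  set c := Nat.card ↥(V ⊓ centralizer (A : Set G)) with hc
  set N := Nat.card V with hN
  set f := Nat.card ↥(V ⊓ centralizer (H : Set G)) with hf
  have hnpos : 0 < n := Nat.card_pos
  have hkpos : 0 < k := Nat.card_pos
  have hcpos : 0 < c := Nat.card_pos
  have c4 : Nat.card ↥(V ⊓ centralizer ((cj x0 A : Subgroup G) : Set G)) = c := by
    have := gg_cj (A := A) (hs.nrm hx0); unfold gg at this
    rw [card_cj] at this; exact Nat.eq_of_mul_eq_mul_left hnpos this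
  have q5 : c * c ≤ N * f := by
    have h2 : Nat.card ((V ⊓ centralizer (A : Set G)) ⊔ (V ⊓ centralizer ((cj x0 A : Subgroup G) : Set G)) : Subgroup G) *
        Nat.card ((V ⊓ centralizer (A : Set G)) ⊓
          (V ⊓ centralizer ((cj x0 A : Subgroup G) : Set G)) : Subgroup G) = _ :=
      H2.card_sup_mul_card_inf_of_comm fun a ha b hb => el_comm hs.el ha.1 hb.1
    rw [← inf_inf_distrib_left, ← cent_sup, c4, hgen] at h2
    rw [← h2]
    exact Nat.mul_le_mul_right _ (card_le_of_le (sup_le inf_le_left inf_le_left))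
  have q6 : k * N ≤ n * c := by
    have := hg.max K inf_le_left hs.ker
    rw [gg_of_cent inf_le_right] at this
    exact this
  have q7 : k * c ≤ n * f := by
    have : c * (k * c) ≤ c * (n * f) := by
      calc c * (k * c) = k * (c * c) := by ring
        _ ≤ k * (N * f) := Nat.mul_le_mul_left _ q5
        _ = (k * N) * f := by ring
        _ ≤ (n * c) * f := Nat.mul_le_mul_right _ q6
        _ = c * (n * f) := by ring
    exact Nat.le_of_mul_le_mul_left this hcpos
  have q8 : c ≤ Nat.card (ψ.range ⊔ (V ⊓ centralizer (H : Set G)) : Subgroup G) := by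
    rw [mul_one] at q2
    rw [q2]
    have : k * c ≤ k * (Nat.card ψ.range * f) := by
      calc k * c ≤ n * f := q7
        _ = k * (Nat.card ψ.range * f) := by rw [← q1]; ring
    exact Nat.le_of_mul_le_mul_left this hkpos
  have hCle : V ⊓ centralizer (H : Set G) ≤ V ⊓ centralizer (A : Set G) :=
    inf_le_inf_left _ (centralizer_le (SetLike.coe_subset_coe.2 hg.le))
  have heq : ψ.range ⊔ (V ⊓ centralizer (H : Set G)) = V ⊓ centralizer (A : Set G) :=
    eq_of_le_of_card_ge (sup_le hrV hCle) q8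
  have hu' : u ∈ ψ.range ⊔ (V ⊓ centralizer (H : Set G)) := by rw [heq]; exact ⟨hu, hu1⟩
  have hnorm : V ⊓ centralizer (H : Set G) ≤ normalizer (ψ.range : Set G) := by
    intro x hx
    apply nrm_of
    intro y hy
    have : x * y * x⁻¹ = y := by rw [el_comm hs.el hx.1 (hrV hy).1]; group
    rw [this]; exact hy
  obtain ⟨_, ⟨a, rfl⟩, d, hd, hud⟩ := (H1.mem_sup_iff_of_le_normalizer hnorm).1 hu'
  refine ⟨a, a.2, ?_⟩
  rw [← hud, ← mul_assoc]
  have h1 : v * cn (a : G) v * ψ a = 1 := el_sq hs.el (hrV ⟨a, rfl⟩).1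
  rw [h1, one_mul]; exact hd.2

theorem sq_cent {H V T : Subgroup G} (hs : SA H V) (hT : T ≤ H) (hTp : IsPGroup 2 T) {a : G}
    (ha : a ∈ T) : a * a ∈ centralizer (V : Set G) := by
  rw [mem_cent_iff]
  intro v hv
  have h4 := hs.quad T hT hTp v hv a ha a ha
  rw [cn_mul, cn_cn] at h4
  have h5 := cn_mem (hs.nrm (hT ha)) hv
  have h6 : cn (a * a) v ∈ V := cn_mem (mul_mem (hs.nrm (hT ha)) (hs.nrm (hT ha))) hv
  rw [el_comm hs.el h5 h6] at h4
  exact mul_right_cancel h4

theorem cj_one (A : Subgroup G) : cj 1 A = A := by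
  ext g; rw [mem_cj', inv_one, cn_one']

theorem step7 [Finite G] {H V A : Subgroup G} {x0 : G} (hT : Triple H V A) (hx0 : x0 ∈ H)
    (hgen : A ⊔ cj x0 A = H) (hZ : pCoreOf 2 H ≤ centralizer (V : Set G)) (IHH : MinH H V)
    (IHA : MinA H V (Nat.card A)) : Involves (Equiv.Perm (Fin 4)) G := by
  have hs := hT.sa
  have hg := hT.gd
  have g2 : Good H V (cj x0 A) := hg.cj hs hx0
  have hT2 : Triple H V (cj x0 A) := by
    refine ⟨hs, g2, fun h => hT.nc ?_⟩
    intro a ha
    have h1 := h (cn_mem_cj ha)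
    have h2 := cn_mem (inv_mem (H18.le_normalizer_pCoreOf H hx0)) h1
    rwa [cn_cn, inv_mul_cancel, cn_one'] at h2
  have hback : cj x0⁻¹ (cj x0 A) = A := by rw [cj_cj, inv_mul_cancel, cj_one]
  have hgen2 : cj x0 A ⊔ cj x0⁻¹ (cj x0 A) = H := by rw [hback, sup_comm, hgen]
  have hu : ∃ u ∈ V, u ∈ centralizer (A : Set G) ∧ u ∉ centralizer (H : Set G) := by
    by_contra hcon
    push Not at hcon
    refine not_triv hT hx0 hgen (one_mem H) (fun s hs' v hv => ?_)
    rw [cj_one] at hs'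
    refine hcon _ (mul_mem hv (cn_mem (hs.nrm (hg.le hs')) hv)) ?_
    rw [mem_centralizer_iff]
    intro t ht
    exact cn_eq_iff.1 (hs.quad A hg.le hg.pg v hv s hs' t ht)
  have hv : ∃ v ∈ V, v ∈ centralizer ((cj x0 A : Subgroup G) : Set G) ∧ v ∉ centralizer (H : Set G) := by
    by_contra hcon
    push Not at hcon
    refine not_triv hT hx0 hgen hx0 (fun s hs' v hv => ?_)
    refine hcon _ (mul_mem hv (cn_mem (hs.nrm (g2.le hs')) hv)) ?_
    rw [mem_centralizer_iff]
    intro t ht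
    exact cn_eq_iff.1 (hs.quad _ g2.le g2.pg v hv s hs' t ht)
  obtain ⟨u, huV, huA, huH⟩ := hu
  obtain ⟨v, hvV, hvA, hvH⟩ := hv
  obtain ⟨a, ha, haw⟩ := step6 hT hx0 hgen hZ IHH IHA hvV hvA hvH huV huA
  obtain ⟨b, hb, hbw⟩ := step6 hT2 (inv_mem hx0) hgen2 hZ IHH (by rw [card_cj]; exact IHA) huV
    (by rw [hback]; exact huA) huH hvV hvA
  have haH := hg.le ha
  have hbH := g2.le hb
  have haN := hs.nrm haH
  have hbN := hs.nrm hbH
  refine four_of_cyc hs.el haN hbN (sq_cent hs hg.le hg.pg ha) (sq_cent hs g2.le g2.pg hb) ?_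
  -- relations
  have hau : cn a u = u := cn_eq_iff.2 (mem_centralizer_iff.1 huA a ha)
  have hbv : cn b v = v := cn_eq_iff.2 (mem_centralizer_iff.1 hvA b hb)
  have hav' := cn_mem haN hvV
  have hbu' := cn_mem hbN huV
  set c₁ := v * cn a v * u with hc₁
  set c₂ := u * cn b u * v with hc₂
  have hc₁V : c₁ ∈ V := mul_mem (mul_mem hvV hav') huV
  have hc₂V : c₂ ∈ V := mul_mem (mul_mem huV hbu') hvV
  have uu := el_sq hs.el huV
  have vv := el_sq hs.el hvV
  have hav : cn a v = v * u * c₁ := by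
    have e1 : v * u * c₁ = (v * u) * ((v * cn a v) * u) := rfl
    rw [e1, el_comm hs.el (mul_mem hvV hav') huV]
    calc cn a v = (v * 1 * v) * cn a v := by rw [mul_one, vv, one_mul]
      _ = (v * (u * u) * v) * cn a v := by rw [uu]
      _ = _ := by group
  have hbu : cn b u = u * v * c₂ := by
    have e1 : u * v * c₂ = (u * v) * ((u * cn b u) * v) := rfl
    rw [e1, el_comm hs.el (mul_mem huV hbu') hvV]
    calc cn b u = (u * 1 * u) * cn b u := by rw [mul_one, uu, one_mul]
      _ = (u * (v * v) * u) * cn b u := by rw [vv]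
      _ = _ := by group
  have hyH : a * b ∈ H := mul_mem haH hbH
  have hcf : ∀ c ∈ centralizer (H : Set G), ∀ h ∈ H, cn h c = c := fun c hc h hh =>
    cn_eq_iff.2 (mem_centralizer_iff.1 hc h hh)
  have hyv : cn (a * b) v = v * u * c₁ := by rw [← cn_cn, hbv, hav]
  set c₃ := c₁ * c₂ with hc₃
  have hc₃V : c₃ ∈ V := mul_mem hc₁V hc₂V
  have hc₃C : c₃ ∈ centralizer (H : Set G) := mul_mem haw hbw
  have hyu : cn (a * b) u = v * c₃ := by
    rw [← cn_cn, hbu, cn_mul, cn_mul, hau, hav, hcf c₂ hbw a haH]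
    calc u * (v * u * c₁) * c₂ = (u * v) * u * (c₁ * c₂) := by group
      _ = (v * u) * u * (c₁ * c₂) := by rw [el_comm hs.el huV hvV]
      _ = v * (u * u) * c₃ := by rw [hc₃]; group
      _ = v * c₃ := by rw [uu, mul_one]
  have hyyu : cn (a * b) (cn (a * b) u) = v * u * c₁ * c₃ := by
    rw [hyu, cn_mul, hyv, hcf c₃ hc₃C _ hyH]
  have hyyyu : cn (a * b) (cn (a * b) (cn (a * b) u)) = u := by
    rw [hyyu, cn_mul, cn_mul, cn_mul, hyv, hyu, hcf c₁ haw _ hyH, hcf c₃ hc₃C _ hyH]
    have m1 : u * c₁ ∈ V := mul_mem huV hc₁V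
    have m2 : c₃ * c₁ ∈ V := mul_mem hc₃V hc₁V
    calc v * u * c₁ * (v * c₃) * c₁ * c₃ = v * ((u * c₁) * v) * (c₃ * c₁) * c₃ := by group
      _ = v * (v * (u * c₁)) * (c₁ * c₃) * c₃ := by
        rw [el_comm hs.el m1 hvV, el_comm hs.el hc₃V hc₁V]
      _ = (v * v) * u * (c₁ * c₁) * (c₃ * c₃) := by group
      _ = u := by rw [vv, el_sq hs.el hc₁V, el_sq hs.el hc₃V]; simp
  have h3q : ∀ q : ℕ, cn ((a * b) ^ (3 * q)) u = u := by
    intro q
    induction q with
    | zero => rw [mul_zero, pow_zero, cn_one']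
    | succ q ih =>
      have e : (a * b) ^ (3 * (q + 1)) = (a * b) ^ (3 * q) * ((a * b) * ((a * b) * (a * b))) := by
        rw [mul_add, mul_one, pow_add, pow_succ' (a * b) 2, pow_two]
      have e2 : cn ((a * b) ^ (3 * (q + 1))) u =
          cn ((a * b) ^ (3 * q)) (cn (a * b) (cn (a * b) (cn (a * b) u))) := by
        rw [cn_cn (a * b) (a * b) u, cn_cn (a * b), cn_cn, e]
      rw [e2, hyyyu, ih]
  have huA2 : ∀ x, x ∈ centralizer (A : Set G) → x ∈ centralizer ((cj x0 A : Subgroup G) : Set G) →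
      x ∈ centralizer (H : Set G) := by
    intro x h1 h2
    rw [← hgen, cent_sup]; exact ⟨h1, h2⟩
  have hHA : centralizer (H : Set G) ≤ centralizer (A : Set G) :=
    centralizer_le (SetLike.coe_subset_coe.2 hg.le)
  intro k hk
  have hkk := cn_cent hk huV
  have hdiv : k = (k % 3) + 3 * (k / 3) := (Nat.mod_add_div k 3).symm
  have hk3 : k % 3 < 3 := Nat.mod_lt _ (by norm_num)
  rw [hdiv, pow_add, ← cn_cn, h3q] at hkk
  interval_cases hr : k % 3
  · exact Nat.dvd_of_mod_eq_zero hr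
  · exfalso
    rw [pow_one, hyu] at hkk
    apply hvH
    apply huA2 v _ hvA
    have h1 : v * c₃ ∈ centralizer (A : Set G) := by rw [hkk]; exact huA
    have h2 := mul_mem h1 (inv_mem (hHA hc₃C))
    rwa [mul_inv_cancel_right] at h2
  · exfalso
    rw [pow_two, ← cn_cn, hyyu] at hkk
    apply hvH
    apply huA2 v _ hvA
    have h1 : v * u * c₁ * c₃ ∈ centralizer (A : Set G) := by rw [hkk]; exact huA
    have h2 := mul_mem h1 (inv_mem (hHA hc₃C))
    rw [mul_inv_cancel_right] at h2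
    have h3 := mul_mem h2 (inv_mem (hHA haw))
    rw [mul_inv_cancel_right] at h3
    have h4 := mul_mem h3 (inv_mem huA)
    rwa [mul_inv_cancel_right] at h4

theorem no_triple [Finite G] (h4 : ¬ Involves (Equiv.Perm (Fin 4)) G) :
    ∀ V H A : Subgroup G, ¬ Triple H V A := by
  have main : ∀ n : ℕ, ∀ V : Subgroup G, Nat.card V = n → ∀ H A : Subgroup G, ¬ Triple H V A := by
    intro n
    induction n using Nat.strong_induction_on with
    | _ n IHV =>
    intro V hV
    have IHV' : ∀ V' : Subgroup G, Nat.card V' < Nat.card V → ∀ H A : Subgroup G, ¬ Triple H V' A :=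
      fun V' hV' => IHV _ (hV ▸ hV') V' rfl
    have main2 : ∀ m : ℕ, ∀ H : Subgroup G, Nat.card H = m → ∀ A : Subgroup G, ¬ Triple H V A := by
      intro m
      induction m using Nat.strong_induction_on with
      | _ m IHH =>
      intro H hH
      have IHH' : MinH H V := fun H' hH' => IHH _ (hH ▸ hH') H' rfl
      have main3 : ∀ k : ℕ, ∀ A : Subgroup G, Nat.card A = k → ¬ Triple H V A := by
        intro k
        induction k using Nat.strong_induction_on with
        | _ k IHA =>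
        intro A hA hT
        have IHA' : MinA H V (Nat.card A) := fun A' hA' => IHA _ (hA ▸ hA') A' rfl
        obtain ⟨x0, hx0, hnp⟩ := bs hT.gd.le hT.nc
        have hgen := gen hT.sa IHH' hT.gd (hT.gd.cj hT.sa hx0) hnp
        have hZ := step2 hT hx0 hgen IHV'
        exact h4 (step7 hT hx0 hgen hZ IHH' IHA')
      exact fun A => main3 _ A rfl
    exact fun H => main2 _ H rfl
  exact fun V => main _ V rfl

end

end Cfsg.Agent.H14.SF
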