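import Cfsg.Agent.H14.S4Off2
import Cfsg.Agent.H2.JSub
import Cfsg.Agent.H2.PCon
import Cfsg.Agent.H2.ThompFact
import Cfsg.Agent.H23.PSolvable

set_option autoImplicit false

namespace Cfsg.Agent.H14.SF

open Cfsg Subgroup

universe u

section
variable {G : Type u} [Group G]

/-- class at most two, elementwise -/
def Cl2 (P : Subgroup G) : Prop :=
  ∀ x ∈ P, ∀ y ∈ P, ∀ z ∈ P, z * (x * y * x⁻¹ * y⁻¹) = (x * y * x⁻¹ * y⁻¹) * z

theorem Cl2.mono {P Q : Subgroup G} (h : Cl2 P) (hQ : Q ≤ P) : Cl2 Q :=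
  fun x hx y hy z hz => h x (hQ hx) y (hQ hy) z (hQ hz)

theorem Cl2.map {G' : Type*} [Group G'] {P : Subgroup G} (h : Cl2 P) (f : G →* G') : Cl2 (P.map f) := by
  rintro _ ⟨x, hx, rfl⟩ _ ⟨y, hy, rfl⟩ _ ⟨z, hz, rfl⟩
  simp only [← map_mul, ← map_inv]
  rw [h x hx y hy z hz]

theorem cl2_of_lcs {S : Subgroup G} (h : S.lowerCentralSeries 2 = ⊥) : Cl2 S := by
  intro x hx y hy z hz
  have h1 : x * y * x⁻¹ * y⁻¹ ∈ S.lowerCentralSeries 1 := commutator_mem_commutator hx hy
  have h2 : (x * y * x⁻¹ * y⁻¹) * z * (x * y * x⁻¹ * y⁻¹)⁻¹ * z⁻¹ ∈ S.lowerCentralSeries 2 :=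
    commutator_mem_commutator h1 hz
  rw [h, mem_bot] at h2
  have h3 : (x * y * x⁻¹ * y⁻¹) * z = z * (x * y * x⁻¹ * y⁻¹) := by
    rw [mul_inv_eq_one, mul_inv_eq_iff_eq_mul] at h2
    exact h2
  exact h3.symm

theorem cl2_of_isPGroup [Finite G] {S : Sylow 2 G} (h : Cl2 (S : Subgroup G)) {P : Subgroup G}
    (hP : IsPGroup 2 P) : Cl2 P := by
  haveI : Fact (Nat.Prime 2) := ⟨Nat.prime_two⟩
  obtain ⟨T, hT⟩ := hP.exists_le_sylow
  obtain ⟨g, hg⟩ := MulAction.exists_smul_eq G S T
  have h1 : (T : Subgroup G) = (S : Subgroup G).map (MulAut.conj g).toMonoidHom := by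
    rw [← hg]; rfl
  exact (h1 ▸ h.map _ : Cl2 (T : Subgroup G)).mono hT

theorem fix_of_comm {y x w : G} {m j : ℕ} (hm : Odd m) (hy : y ^ m = 1) (hx : cn y x = x * w)
    (hw : cn y w = w) (hj : w ^ 2 ^ j = 1) : cn y x = x := by
  have h2 : ∀ k : ℕ, cn (y ^ k) x = x * w ^ k := by
    intro k
    induction k with
    | zero => rw [pow_zero, cn_one', pow_zero, mul_one]
    | succ k ih =>
      rw [pow_succ', ← cn_cn, ih, cn_mul, hx]
      have : cn y (w ^ k) = w ^ k := by
        rw [cn_eq_iff]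
        have h3 : Commute y w := cn_eq_iff.1 hw
        exact h3.pow_right k
      rw [this, mul_assoc, pow_succ']
  have h3 := h2 m
  rw [hy, cn_one'] at h3
  have h4 : w ^ m = 1 := by
    have : x * 1 = x * w ^ m := by rw [mul_one]; exact h3
    exact (mul_left_cancel this).symm
  have h5 : orderOf w ∣ m := orderOf_dvd_of_pow_eq_one h4
  have h6 : orderOf w ∣ 2 ^ j := orderOf_dvd_of_pow_eq_one hj
  have h7 : Nat.Coprime m (2 ^ j) := Nat.Coprime.pow_right _ (Nat.coprime_two_right.2 hm)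
  have h8 : orderOf w = 1 := Nat.eq_one_of_dvd_coprimes h7 h5 h6
  rw [orderOf_eq_one_iff] at h8
  rw [hx, h8, mul_one]

theorem core [Finite G] (S : Sylow 2 G) (hc : centralizer ((pCore 2 G : Subgroup G) : Set G) ≤ pCore 2 G)
    (h4 : ¬ Involves (Equiv.Perm (Fin 4)) G) (hcl : Cl2 (S : Subgroup G)) :
    (thompsonSubgroupOf 2 (S : Subgroup G)).Normal := by
  haveI : Fact (Nat.Prime 2) := ⟨Nat.prime_two⟩
  set Q := pCore 2 G with hQ
  haveI hQn : Q.Normal := inferInstance
  have hQp : IsPGroup 2 Q := H18.isPGroup_pCore 2 G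
  have hQS : Q ≤ S := H18.pCore_le_sylow S
  set ZQ := Q ⊓ centralizer (Q : Set G) with hZQ
  haveI hZn : ZQ.Normal := H28.center_normal hQn
  set V := H28.omegaZ Q with hV
  haveI hVn : V.Normal := H28.omegaZ_normal hQn
  have hVel : IsElementaryAbelian 2 V := H28.omegaZ_elem Q
  have hVZ : V ≤ ZQ := fun x hx => hx.1
  have hVQ : V ≤ Q := hVZ.trans inf_le_left
  have hVC : V ≤ centralizer (Q : Set G) := hVZ.trans inf_le_right
  have hQV : Q ≤ centralizer (V : Set G) := le_centralizer_iff.1 hVC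
  set C := cmod ZQ (Q : Set G) with hC
  have hNtop : ∀ {K : Subgroup G} [K.Normal] (g : G), g ∈ normalizer (K : Set G) := by
    intro K hK g; rw [normalizer_eq_top]; exact mem_top g
  haveI hCn : C.Normal := by
    refine ⟨fun c hc' g => ⟨hNtop _, fun q hq => ?_⟩⟩
    have h1 := hc'.2 (g⁻¹ * q * g) (by
      have := hQn.conj_mem q hq g⁻¹; simpa using this)
    have h2 := hZn.conj_mem _ h1 g
    have e : g * (g⁻¹ * q * g * c * (g⁻¹ * q * g)⁻¹ * c⁻¹) * g⁻¹ =
        q * (g * c * g⁻¹) * q⁻¹ * (g * c * g⁻¹)⁻¹ := by group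
    rwa [e] at h2
  have hcl' : ∀ T : Subgroup G, IsPGroup 2 T → Cl2 (T ⊔ Q : Subgroup G) := fun T hT =>
    cl2_of_isPGroup hcl (isPGroup_sup hT hQp (fun g _ => hNtop g))
  have hSA : SA C V := by
    refine ⟨hVel, fun g _ => hNtop g, ?_, ?_, ?_⟩
    · intro T _ hTp s hs t ht
      rw [mem_centralizer_iff]
      intro v hv
      exact hcl' T hTp s (le_sup_left (b := Q) hs) t (le_sup_left (b := Q) ht) v
        (le_sup_right (a := T) (hVQ hv))
    · intro T _ hTp v hv s hs t ht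
      have h1 := hcl' T hTp v (le_sup_right (a := T) (hVQ hv)) s (le_sup_left (b := Q) hs) t
        (le_sup_left (b := Q) ht)
      have h2 : v⁻¹ = v := inv_eq_of_mul_eq_one_left (el_sq hVel hv)
      have h3 : v * s * v⁻¹ * s⁻¹ = v * cn s v := by rw [h2]; simp only [cn]; group
      rw [h3] at h1
      exact cn_eq_iff.2 h1
    · rw [H18.isPGroup_iff_mem]
      rintro y ⟨hyC, hyV⟩
      obtain ⟨k, hk⟩ := H28.exists_pow_odd y (isOfFinOrder_of_finite y)
      set y' := y ^ 2 ^ k with hy'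
      have hy'C : y' ∈ C := pow_mem hyC _
      have hy'V : y' ∈ centralizer (V : Set G) := pow_mem hyV _
      have hord : y' ^ orderOf y' = 1 := pow_orderOf_eq_one y'
      -- centralizes `Z(Q)`
      have hz : ∀ j : ℕ, ∀ z ∈ ZQ, z ^ 2 ^ j = 1 → cn y' z = z := by
        intro j
        induction j with
        | zero => intro z _ h; rw [pow_zero, pow_one] at h; rw [h, cn_one]
        | succ j ih =>
          intro z hz h
          have hz2 : z ^ 2 ∈ ZQ := pow_mem hz 2
          have h1 : cn y' (z ^ 2) = z ^ 2 := ih _ hz2 (by rw [← pow_mul, ← pow_succ']; exact h)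
          have hcz : cn y' z ∈ ZQ := hZn.conj_mem z hz y'
          set w := z⁻¹ * cn y' z with hw
          have hwZ : w ∈ ZQ := mul_mem (inv_mem hz) hcz
          have hcomm : ∀ a ∈ ZQ, ∀ b ∈ ZQ, a * b = b * a := fun a ha b hb =>
            mem_centralizer_iff.1 hb.2 a ha.1
          have hw2 : w ^ 2 = 1 := by
            rw [pow_two, hw]
            have e : z⁻¹ * cn y' z * (z⁻¹ * cn y' z) = (cn y' z * z⁻¹) * (z⁻¹ * cn y' z) := by
              rw [hcomm _ (inv_mem hz) _ hcz]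
            rw [e]
            have e2 : cn y' z * z⁻¹ * (z⁻¹ * cn y' z) = cn y' z * ((z ^ 2)⁻¹ * cn y' z) := by
              rw [pow_two]; group
            rw [e2, hcomm _ (inv_mem hz2) _ hcz, ← mul_assoc, ← cn_mul, ← pow_two, h1, mul_inv_cancel]
          have hwV : w ∈ V := ⟨hwZ, hw2⟩
          exact fix_of_comm hk hord (w := w) (by rw [hw]; group) (cn_cent hy'V hwV) (j := 1)
            (by rw [pow_one]; exact hw2)
      have hq : ∀ q ∈ Q, cn y' q = q := by
        intro q hq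
        set w := q⁻¹ * cn y' q with hw
        have hwZ : w ∈ ZQ := by
          have h1 := hy'C.2 q⁻¹ (inv_mem hq)
          have e : q⁻¹ * y' * q⁻¹⁻¹ * y'⁻¹ = w := by rw [hw]; simp only [cn]; group
          rwa [e] at h1
        obtain ⟨j, hj⟩ := H18.isPGroup_iff_mem.1 hQp w hwZ.1
        exact fix_of_comm hk hord (w := w) (by rw [hw]; group) (hz j w hwZ hj) hj
      have hyQ : y' ∈ Q := hc (mem_cent_iff.2 hq)
      obtain ⟨j, hj⟩ := H18.isPGroup_iff_mem.1 hQp y' hyQ
      exact ⟨k + j, by rw [pow_add, pow_mul]; exact hj⟩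
  have hQC : Q ≤ C := by
    intro q hq
    refine ⟨hNtop q, fun x hx => mem_inf.2 ⟨?_, ?_⟩⟩
    · exact mul_mem (mul_mem (mul_mem hx hq) (inv_mem hx)) (inv_mem hq)
    · rw [mem_centralizer_iff]
      intro z hz
      exact hcl x (hQS hx) q (hQS hq) z (hQS hz)
  have hSC : (S : Subgroup G) ≤ C := by
    intro s hs
    refine ⟨hNtop s, fun q hq => mem_inf.2 ⟨?_, ?_⟩⟩
    · have : q * s * q⁻¹ * s⁻¹ = q * (s * q⁻¹ * s⁻¹) := by group
      rw [this]; exact mul_mem hq (hQn.conj_mem _ (inv_mem hq) s)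
    · rw [mem_centralizer_iff]
      intro z hz
      exact hcl q (hQS hq) s hs z (hQS hz)
  have hcore : pCoreOf 2 C = Q := by
    apply le_antisymm (H18.pCoreOf_le_pCore_of_normal C)
    exact H18.le_pCoreOf hQC (fun g _ => hNtop g) hQp
  have hJ : thompsonSubgroupOf 2 (S : Subgroup G) ≤ Q := by
    rw [H2.thompsonSubgroupOf_eq]
    apply sSup_le
    intro A hA
    by_contra hAQ
    have hAC : A ≤ C := hA.1.trans hSC
    have hAp : IsPGroup 2 A := S.2.to_le hA.1
    have hAQp : IsPGroup 2 (A ⊔ Q : Subgroup G) := isPGroup_sup hAp hQp (fun g _ => hNtop g)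
    have hne : ¬ A ⊔ Q ≤ pCoreOf 2 C := by
      rw [hcore]; exact fun h => hAQ (le_sup_left.trans h)
    have hB : IsElementaryAbelian 2 (V ⊔ (A ⊓ Q) : Subgroup G) := by
      have hcomm : ∀ a ∈ V, ∀ b ∈ A ⊓ Q, a * b = b * a := fun a ha b hb =>
        (mem_centralizer_iff.1 (hVC ha) b hb.2).symm
      have hn : (A ⊓ Q : Subgroup G) ≤ normalizer (V : Set G) := fun g _ => hNtop g
      have hAel := hA.2.1
      constructor
      · refine ⟨⟨fun x y => Subtype.ext ?_⟩⟩
        obtain ⟨v1, hv1, a1, ha1, e1⟩ := (H1.mem_sup_iff_of_le_normalizer hn).1 x.2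
        obtain ⟨v2, hv2, a2, ha2, e2⟩ := (H1.mem_sup_iff_of_le_normalizer hn).1 y.2
        change (x : G) * y = y * x
        rw [← e1, ← e2]
        have c1 : v1 * v2 = v2 * v1 := el_comm hVel hv1 hv2
        have c2 : a1 * a2 = a2 * a1 := el_comm hAel ha1.1 ha2.1
        calc v1 * a1 * (v2 * a2) = v1 * (a1 * v2) * a2 := by group
          _ = v1 * (v2 * a1) * a2 := by rw [hcomm v2 hv2 a1 ha1]
          _ = (v1 * v2) * (a1 * a2) := by group
          _ = (v2 * v1) * (a2 * a1) := by rw [c1, c2]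
          _ = v2 * (v1 * a2) * a1 := by group
          _ = v2 * (a2 * v1) * a1 := by rw [hcomm v1 hv1 a2 ha2]
          _ = _ := by group
      · intro x hx
        obtain ⟨v1, hv1, a1, ha1, e1⟩ := (H1.mem_sup_iff_of_le_normalizer hn).1 hx
        rw [← e1, pow_two]
        calc v1 * a1 * (v1 * a1) = v1 * (a1 * v1) * a1 := by group
          _ = v1 * (v1 * a1) * a1 := by rw [hcomm v1 hv1 a1 ha1]
          _ = (v1 * v1) * (a1 * a1) := by group
          _ = 1 := by rw [el_sq hVel hv1, el_sq hAel ha1.1, mul_one]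
    have q1 : Nat.card (V ⊔ (A ⊓ Q) : Subgroup G) ≤ Nat.card A :=
      hA.2.2 _ (sup_le (hVQ.trans hQS) (inf_le_left.trans hA.1)) hB
    have q2 : Nat.card (V ⊔ (A ⊓ Q) : Subgroup G) * Nat.card (V ⊓ (A ⊓ Q) : Subgroup G) =
        Nat.card V * Nat.card (A ⊓ Q : Subgroup G) :=
      H1.card_sup_mul_card_inf_of_le_normalizer (fun g _ => hNtop g)
    have q3 : Nat.card (V ⊓ (A ⊓ Q) : Subgroup G) ≤ Nat.card (V ⊓ centralizer (A : Set G) : Subgroup G) := by
      apply card_le_of_le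
      refine inf_le_inf_left _ ?_
      intro a ha
      rw [mem_centralizer_iff]
      intro b hb
      exact el_comm hA.2.1 hb ha.1
    have q4 : Nat.card (Q ⊔ A : Subgroup G) * Nat.card (Q ⊓ A : Subgroup G) = Nat.card Q * Nat.card A :=
      H1.card_sup_mul_card_inf_of_le_normalizer (fun g _ => hNtop g)
    rw [sup_comm, inf_comm] at q4
    have q5 : V ⊓ centralizer ((A ⊔ Q : Subgroup G) : Set G) = V ⊓ centralizer (A : Set G) := by
      rw [cent_sup, ← inf_assoc]
      exact inf_eq_left.2 (inf_le_left.trans hVC)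
    have hg : gg V (pCoreOf 2 C) ≤ gg V (A ⊔ Q) := by
      rw [hcore, gg_of_cent hQV]
      unfold gg
      rw [q5]
      have hpos : 0 < Nat.card (A ⊓ Q : Subgroup G) := Nat.card_pos
      apply Nat.le_of_mul_le_mul_right _ hpos
      calc Nat.card Q * Nat.card V * Nat.card (A ⊓ Q : Subgroup G)
          = Nat.card Q * (Nat.card V * Nat.card (A ⊓ Q : Subgroup G)) := by ring
        _ = Nat.card Q * (Nat.card (V ⊔ (A ⊓ Q) : Subgroup G) * Nat.card (V ⊓ (A ⊓ Q) : Subgroup G)) := by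
          rw [q2]
        _ ≤ Nat.card Q * (Nat.card A * Nat.card (V ⊓ centralizer (A : Set G) : Subgroup G)) :=
          Nat.mul_le_mul_left _ (Nat.mul_le_mul q1 q3)
        _ = (Nat.card Q * Nat.card A) * Nat.card (V ⊓ centralizer (A : Set G) : Subgroup G) := by ring
        _ = (Nat.card (A ⊔ Q : Subgroup G) * Nat.card (A ⊓ Q : Subgroup G)) *
            Nat.card (V ⊓ centralizer (A : Set G) : Subgroup G) := by rw [q4]
        _ = _ := by ring
    obtain ⟨A', hA'⟩ := exists_triple hSA (sup_le hAC hQC) hAQp hne (by rw [hcore]; exact hQV) hg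
    exact no_triple h4 V C A' hA'
  have h1 := H2.thompsonSubgroupOf_eq_of_le hJ hQS
  rw [← h1]
  have h2 := H2.normalizer_le_normalizer_thompson (p := 2) Q
  rw [normalizer_eq_top Q, top_le_iff] at h2
  exact normalizer_eq_top_iff.1 h2

theorem main [Finite G] (hcon : IsPConstrained 2 G) (h4 : ¬ Involves (Equiv.Perm (Fin 4)) G)
    (S : Sylow 2 G) (hcl : Cl2 (S : Subgroup G)) :
    normalizer ((thompsonSubgroupOf 2 (S : Subgroup G)) : Set G) ⊔ pPrimeCore 2 G = ⊤ := by
  haveI : Fact (Nat.Prime 2) := ⟨Nat.prime_two⟩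
  have hc := H2.charP_quotient_of_isPConstrained hcon
  set N := pPrimeCore 2 G with hN
  haveI hNn : N.Normal := inferInstance
  have hNc : (Nat.card N).Coprime 2 := H1.pPrimeCore_coprime 2 G
  set f := QuotientGroup.mk' N with hf
  have hfs : Function.Surjective f := QuotientGroup.mk'_surjective N
  have hinj : Function.Injective (f.comp (S : Subgroup G).subtype) := by
    rw [injective_iff_map_eq_one]
    intro s hs
    have h1 : (s : G) ∈ N := (QuotientGroup.eq_one_iff _).1 hs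
    obtain ⟨k, hk⟩ := S.2 s
    have h2 : orderOf (s : G) ∣ 2 ^ k := orderOf_dvd_of_pow_eq_one (by
      have := congrArg Subtype.val hk; simpa using this)
    have h3 : orderOf (s : G) ∣ Nat.card N := by
      have := orderOf_dvd_natCard (⟨s, h1⟩ : N)
      rwa [Subgroup.orderOf_mk] at this
    have h5 : orderOf (s : G) = 1 := Nat.eq_one_of_dvd_coprimes (Nat.Coprime.pow_right k hNc) h3 h2
    rw [orderOf_eq_one_iff] at h5
    exact Subtype.ext h5
  have hJ : thompsonSubgroupOf 2 ((S : Subgroup G).map f) =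
      (thompsonSubgroupOf 2 (S : Subgroup G)).map f := by
    have h1 := H2.thompsonSubgroupOf_map (p := 2) hinj (⊤ : Subgroup (S : Subgroup G))
    rw [H2.thompsonSubgroupOf_top, ← Subgroup.map_map, ← Subgroup.map_map,
      ← MonoidHom.range_eq_map, Subgroup.range_subtype] at h1
    exact h1
  have hnor : ((thompsonSubgroupOf 2 (S : Subgroup G)).map f).Normal := by
    rw [← hJ]
    have := core (S.mapSurjective hfs) hc (fun h => h4 (H28.involves_of_quotient N h))
      (by rw [Sylow.coe_mapSurjective]; exact hcl.map f)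
    rwa [Sylow.coe_mapSurjective] at this
  haveI hCn : (((thompsonSubgroupOf 2 (S : Subgroup G)).map f).comap f).Normal := hnor.comap f
  rw [eq_top_iff]
  intro g _
  obtain ⟨n, hn, c, hc', rfl⟩ := H2.exists_factor_of_J_le S
    (C := ((thompsonSubgroupOf 2 (S : Subgroup G)).map f).comap f) (le_comap_map _ _) g
  refine mul_mem (le_sup_left (b := N) hn) ?_
  obtain ⟨j, hj, hjc⟩ := hc'
  have h1 : j⁻¹ * c ∈ N := by
    rw [← QuotientGroup.eq_one_iff]
    change f (j⁻¹ * c) = 1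
    rw [map_mul, map_inv, hjc, inv_mul_cancel]
  have e : c = j * (j⁻¹ * c) := by group
  rw [e]
  exact mul_mem (le_sup_left (b := N) (le_normalizer hj)) (le_sup_right (a := normalizer _) h1)

end

end Cfsg.Agent.H14.SF
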