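import Cfsg.Agent.H14.SE3
import Cfsg.Agent.H10.OE3
import Cfsg.Agent.H25.PLenAb
import Cfsg.Agent.OOT.PLen1
import Cfsg.Agent.S1285
import Cfsg.Agent.S0223
import Cfsg.Agent.FT

/-! Groups all of whose `p'`-subgroups are abelian: local analysis (helper14). -/

set_option autoImplicit false

namespace Cfsg.Agent.H14.SE

open Cfsg Subgroup Cfsg.Agent.H4
open scoped Pointwise commutatorElement

universe u

/-- every `p'`-subgroup is abelian -/
def AbP (G : Type*) [Group G] (p : ℕ) : Prop :=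
  ∀ H : Subgroup G, (Nat.card H).Coprime p → ∀ a ∈ H, ∀ b ∈ H, a * b = b * a

section
variable {G : Type u} [Group G] [Finite G] {p : ℕ} [hp : Fact p.Prime]

/-- invariant `p'`-subgroups are centralized -/
theorem cent_of_inv (h : AbP G p) {T Q : Subgroup G} (hT : (Nat.card T).Coprime p) (hQ : (Nat.card Q).Coprime p)
    (hTQ : T ≤ normalizer (Q : Set G)) : T ≤ centralizer (Q : Set G) := by
  have h1 := Cfsg.Agent.H1.card_sup_dvd_of_le_normalizer T Q hTQ
  have h2 : (Nat.card (T ⊔ Q : Subgroup G)).Coprime p :=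
    Nat.Coprime.coprime_dvd_left h1 (Nat.Coprime.mul_left hT hQ)
  intro t ht
  rw [mem_centralizer_iff]
  intro q hq
  exact h _ h2 q (mem_sup_right hq) t (mem_sup_left ht)

theorem star_of_AbP (h : AbP G p) (hp2 : p ≠ 2) : Star G p := by
  intro s t hs ht hodd
  have hss := mul_self_of_orderOf_two hs
  have htt := mul_self_of_orderOf_two ht
  have h0 : orderOf (s * t) ≠ 0 := (orderOf_pos _).ne'
  obtain ⟨k, m, hm, hkm⟩ := Nat.exists_eq_pow_mul_and_not_dvd h0 p hp.out.ne_one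
  refine ⟨k, ?_⟩
  have hinv : t * (s * t) ^ p ^ k * t⁻¹ = ((s * t) ^ p ^ k)⁻¹ := conj_pow_inv (inv_conj_mul' hss htt) _
  obtain ⟨c, hc⟩ : ∃ c, c = (s * t) ^ p ^ k := ⟨_, rfl⟩
  rw [← hc] at hinv ⊢
  have hcm : orderOf c = m := by
    have hpk : p ^ k ≠ 0 := (pow_pos hp.out.pos k).ne'
    rw [hc, orderOf_pow_of_dvd hpk (by rw [hkm]; exact Dvd.intro _ rfl), hkm]
    exact Nat.mul_div_cancel_left _ (Nat.pos_of_ne_zero hpk)
  have htN : zpowers t ≤ normalizer (zpowers c : Set G) := by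
    rw [zpowers_le]
    apply nrm_of_conj
    intro q hq
    obtain ⟨j, rfl⟩ := mem_zpowers_iff.mp hq
    have h1 : t * c ^ j * t⁻¹ = (t * c * t⁻¹) ^ j := (conj_zpow).symm
    rw [h1, hinv, inv_zpow]
    exact inv_mem (zpow_mem (mem_zpowers c) j)
  have hmp : (Nat.card (zpowers c)).Coprime p := by
    rw [Nat.card_zpowers, hcm]
    exact Nat.Coprime.symm ((Nat.Prime.coprime_iff_not_dvd hp.out).mpr hm)
  have htp : (Nat.card (zpowers t)).Coprime p := by
    rw [Nat.card_zpowers, ht]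
    exact (Nat.coprime_primes Nat.prime_two hp.out).mpr (Ne.symm hp2)
  have h2 := cent_of_inv h htp hmp htN (mem_zpowers t)
  rw [mem_centralizer_iff] at h2
  have h3 := h2 c (mem_zpowers c)
  have h4 : c = c⁻¹ := by
    rw [← hinv, ← h3, mul_inv_cancel_right]
  have h5 : c * c = 1 := by
    nth_rewrite 2 [h4]; exact mul_inv_cancel c
  have h6 : orderOf c ∣ 2 := orderOf_dvd_of_pow_eq_one (by rw [pow_two]; exact h5)
  have h7 : Odd (orderOf c) := by
    rw [hcm]
    rw [hkm] at hodd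
    exact Nat.Odd.of_mul_right hodd
  rcases (Nat.dvd_prime Nat.prime_two).mp h6 with h8 | h8
  · exact orderOf_eq_one_iff.mp h8
  · rw [h8] at h7; exact absurd h7 (by decide)

/-- commutators of a 2-group with an invariant odd-order subgroup -/
theorem comm_pgroup (h : AbP G p) (hp2 : p ≠ 2) {T X : Subgroup G} (hT : IsPGroup 2 T) (hX : (Nat.card X).Coprime 2)
    (hTX : T ≤ normalizer (X : Set G)) : IsPGroup p (⁅X, T⁆ : Subgroup G) := by
  haveI : Fact (Nat.Prime 2) := ⟨Nat.prime_two⟩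
  have hTs : Group.IsSolvable T := Cfsg.Agent.H23.isSolvable_of_isPGroup hT
  obtain ⟨n, hn⟩ := hT.exists_card_eq
  have hcop : (Nat.card T).Coprime (Nat.card X) := by
    rw [hn]; exact Nat.Coprime.pow_left _ hX.symm
  obtain ⟨P, hP, hTP⟩ := Cfsg.Agent.H23.exists_invariant_sylow hTX hcop (Or.inl hTs) p
  obtain ⟨C, hC⟩ : ∃ C, C = X ⊓ centralizer (T : Set G) := ⟨_, rfl⟩
  have hCi : ∀ q : ℕ, q.Prime → q ≠ p → ¬ q ∣ C.relIndex X := by
    intro q hq hqp hqd
    haveI : Fact q.Prime := ⟨hq⟩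
    obtain ⟨Q, hQ, hTQ⟩ := Cfsg.Agent.H23.exists_invariant_sylow hTX hcop (Or.inl hTs) q
    have hTp : (Nat.card T).Coprime p := by
      rw [hn]
      exact Nat.Coprime.pow_left _ ((Nat.coprime_primes Nat.prime_two hp.out).mpr (Ne.symm hp2))
    have hQp : (Nat.card Q).Coprime p := by
      obtain ⟨j, hj⟩ := hQ.isPGroup.exists_card_eq
      rw [hj]
      exact Nat.Coprime.pow_left _ ((Nat.coprime_primes hq hp.out).mpr hqp)
    have h1 := cent_of_inv h hTp hQp hTQ
    have h2 : Q ≤ C := by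
      rw [hC]
      refine le_inf hQ.le ?_
      rw [← Subgroup.le_centralizer_iff]
      exact h1
    have h3 := hQ.not_dvd
    apply h3
    rw [← relIndex_mul_relIndex Q C X h2 (by rw [hC]; exact inf_le_left)]
    exact hqd.mul_left _
  have hPC : ((P.subgroupOf X).index).Coprime ((C.subgroupOf X).index) := by
    rw [Nat.coprime_iff_gcd_eq_one]
    by_contra hne
    obtain ⟨q, hq, hqd⟩ := Nat.exists_prime_and_dvd hne
    by_cases hqp : q = p
    · subst hqp
      exact hP.not_dvd (hqd.trans (Nat.gcd_dvd_left _ _))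
    · exact hCi q hq hqp (hqd.trans (Nat.gcd_dvd_right _ _))
  apply hP.isPGroup.to_le
  rw [commutator_le]
  intro x hx t ht
  obtain ⟨r, hr, c, hc, hrc⟩ := Cfsg.Agent.H1.factor_of_coprime_index hPC ⟨x, hx⟩
  have hrP : (r : G) ∈ P := mem_subgroupOf.mp hr
  have hcC : (c : G) ∈ C := mem_subgroupOf.mp hc
  rw [hC] at hcC
  have hct := mem_centralizer_iff.mp hcC.2 t ht
  have hx' : x = r * c := congrArg Subtype.val hrc
  have e : ⁅x, t⁆ = (r : G) * (t * (r : G)⁻¹ * t⁻¹) := by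
    rw [hx', commutatorElement_def]
    calc (r : G) * c * t * ((r : G) * c)⁻¹ * t⁻¹ = r * (c * t) * (c : G)⁻¹ * (r : G)⁻¹ * t⁻¹ := by group
      _ = r * (t * c) * (c : G)⁻¹ * (r : G)⁻¹ * t⁻¹ := by rw [hct]
      _ = r * (t * (r : G)⁻¹ * t⁻¹) := by group
  rw [e]
  exact mul_mem hrP ((mem_normalizer_iff.mp (hTP ht) _).mp (inv_mem hrP))

end

section
variable {L : Type u} [Group L] [Finite L]

theorem core_top (hs : Group.IsSolvable L) {T : Subgroup L} (hT : IsPGroup 2 T)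
    (hTab : ∀ a ∈ T, ∀ b ∈ T, a * b = b * a) (hTi : ¬ 2 ∣ T.index) :
    (∀ Z : Subgroup L, (Nat.card Z).Coprime 2 → T ≤ normalizer (Z : Set L) → Z ≤ pPrimeCore 2 L) ∧
      pPrimeCore 2 L ⊔ normalizer (T : Set L) = ⊤ := by
  haveI : Fact (Nat.Prime 2) := ⟨Nat.prime_two⟩
  have hps : IsPSolvable 2 L := Cfsg.Agent.H23.isPSolvable_of_isSolvable hs
  obtain ⟨S, hS⟩ : ∃ S : Sylow 2 L, (S : Subgroup L) = T := ⟨hT.toSylow hTi, rfl⟩
  have hSab : IsMulCommutative (S : Subgroup L) := by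
    rw [hS]
    exact ⟨⟨fun a b => Subtype.ext (hTab a a.2 b b.2)⟩⟩
  have hpl := Cfsg.Agent.H25.PLenAb.plengthLE_one_of_abelian hps S hSab
  have hidx := (Cfsg.Agent.OOT.plength_one_iff).mp hpl
  have hTc : T ≤ pPrimePCore 2 L := by
    haveI := Cfsg.Agent.H10.pPrimePCore_normal 2 L
    rw [← Subgroup.relIndex_eq_one]
    have hd : (pPrimePCore 2 L).relIndex T ∣ (pPrimePCore 2 L).index :=
      Subgroup.relIndex_dvd_index_of_normal _ _
    have hd2 : (pPrimePCore 2 L).relIndex T ∣ Nat.card T := Subgroup.relIndex_dvd_card _ _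
    obtain ⟨n, hn⟩ := IsPGroup.iff_card.1 hT
    rw [hn] at hd2
    exact Nat.Coprime.eq_one_of_dvd (Nat.Coprime.coprime_dvd_left hd
      (Nat.Coprime.pow_right n hidx)) hd2
  constructor
  · intro Z hZ hTZ
    exact Cfsg.Agent.H10.le_pPrimeCore_of_scn hs hT hTi le_rfl inf_le_left hTc hZ hTZ
  · exact Cfsg.Agent.OOT.sup_normalizer_of_plength_one hidx ⟨le_top, hT, by rw [relIndex_top_right]; exact hTi⟩

end
end Cfsg.Agent.H14.SE
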