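import Cfsg.Agent.H14.SE4

/-! Groups all of whose `p'`-subgroups are abelian: the signalizer functor (helper14). -/

set_option autoImplicit false

namespace Cfsg.Agent.H14.SE

open Cfsg Subgroup Cfsg.Agent.H4
open scoped Pointwise commutatorElement

universe u

section
variable {G : Type u} [Group G] [Finite G] {p : ℕ} [hp : Fact p.Prime]

/-- the odd core of a subgroup -/
def OC (C : Subgroup G) : Subgroup G := (pPrimeCore 2 C).map C.subtype

omit [Finite G] in
theorem OC_le (C : Subgroup G) : OC C ≤ C := map_subtype_le _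

theorem OC_coprime (C : Subgroup G) : (Nat.card (OC C)).Coprime 2 := by
  have h1 := Cfsg.Agent.H1.pPrimeCore_coprime 2 C
  have h2 : Nat.card (OC C) = Nat.card (pPrimeCore 2 C) :=
    (Nat.card_congr ((pPrimeCore 2 C).equivMapOfInjective _ C.subtype_injective).toEquiv).symm
  rwa [h2]

omit [Finite G] in
theorem OC_nrm (C : Subgroup G) : C ≤ normalizer (OC C : Set G) := by
  haveI := Cfsg.Agent.H10.pPrimeCore_characteristic 2 C
  exact le_normalizer.trans (Cfsg.Agent.H23.normalizer_le_normalizer_map (pPrimeCore 2 C))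

omit [Finite G] in
theorem nrm_OC (C : Subgroup G) : normalizer (C : Set G) ≤ normalizer (OC C : Set G) := by
  haveI := Cfsg.Agent.H10.pPrimeCore_characteristic 2 C
  exact Cfsg.Agent.H23.normalizer_le_normalizer_map (pPrimeCore 2 C)

/-- the context -/
structure Ctx (p : ℕ) (T A : Subgroup G) : Prop where
  ab : AbP G p
  p2 : p ≠ 2
  T2 : IsPGroup 2 T
  Tc : ∀ a ∈ T, ∀ b ∈ T, a * b = b * a
  Ti : ¬ 2 ∣ T.index
  mA : ∀ a, a ∈ A ↔ a ∈ T ∧ a ^ 2 = 1
  A8 : 2 ^ 3 ≤ Nat.card A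
  solv : ∀ a ∈ A, a ≠ 1 → Group.IsSolvable (centralizer ({a} : Set G))

variable {T A : Subgroup G}

omit [Finite G] in
theorem Ctx.T_le (c : Ctx p T A) {a : G} (ha : a ∈ A) : T ≤ centralizer ({a} : Set G) := by
  intro t ht
  rw [mem_centralizer_singleton_iff]
  exact c.Tc t ht a ((c.mA a).mp ha).1

omit [Finite G] in
theorem Ctx.CT_le (c : Ctx p T A) {a : G} (ha : a ∈ A) : centralizer (T : Set G) ≤ centralizer ({a} : Set G) := by
  intro t ht
  rw [mem_centralizer_singleton_iff]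
  exact (mem_centralizer_iff.mp ht a ((c.mA a).mp ha).1).symm

theorem core_facts {C : Subgroup G} (hs : Group.IsSolvable C) (hT : IsPGroup 2 T)
    (hTab : ∀ a ∈ T, ∀ b ∈ T, a * b = b * a) (hTi : ¬ 2 ∣ T.index) (hTC : T ≤ C) :
    (∀ Z : Subgroup G, Z ≤ C → (Nat.card Z).Coprime 2 → T ≤ normalizer (Z : Set G) → Z ≤ OC C) ∧
      ∀ x ∈ C, ∃ o ∈ OC C, ∃ n ∈ C, n ∈ normalizer (T : Set G) ∧ x = o * n := by
  obtain ⟨h1, h2⟩ := core_top hs (T := T.subgroupOf C) (hT.comap_of_injective C.subtype C.subtype_injective)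
    (fun a ha b hb => Subtype.ext (hTab a (mem_subgroupOf.mp ha) b (mem_subgroupOf.mp hb)))
    (fun hd => hTi (hd.trans (by
      have := relIndex_mul_index hTC
      rw [← this]
      exact Dvd.intro _ rfl)))
  constructor
  · intro Z hZC hZ hTZ z hz
    have h3 : (⟨z, hZC hz⟩ : C) ∈ pPrimeCore 2 C := by
      apply h1 (Z.subgroupOf C)
      · rw [Nat.card_congr (subgroupOfEquivOfLe hZC).toEquiv]; exact hZ
      · intro t ht
        rw [mem_normalizer_iff]
        intro x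
        exact mem_normalizer_iff.mp (hTZ (mem_subgroupOf.mp ht)) x
      · exact hz
    exact ⟨_, h3, rfl⟩
  · intro x hx
    haveI := Cfsg.Agent.H1.pPrimeCore_normal 2 C
    have h3 : (⟨x, hx⟩ : C) ∈ pPrimeCore 2 C ⊔ normalizer ((T.subgroupOf C : Subgroup C) : Set C) := by
      rw [h2]; exact mem_top _
    obtain ⟨o, ho, n, hn, hon⟩ := mem_sup_of_normal_left.mp h3
    refine ⟨o, ⟨o, ho, rfl⟩, n, n.2, ?_, ?_⟩
    · apply nrm_of_conj
      intro t ht
      have := (mem_normalizer_iff.mp hn ⟨t, hTC ht⟩).mp ht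
      exact this
    · exact (congrArg Subtype.val hon).symm

/-- `[O(C_G(a)), T]` -/
def YY (T : Subgroup G) (a : G) : Subgroup G := ⁅OC (centralizer ({a} : Set G)), T⁆

/-- `O_p(C_G(T))` -/
def DD (p : ℕ) (T : Subgroup G) : Subgroup G :=
  (pCore p (centralizer (T : Set G))).map (centralizer (T : Set G)).subtype

/-- the functor -/
def psi (p : ℕ) (T : Subgroup G) (a : G) : Subgroup G := YY T a ⊔ DD p T

omit [Finite G] in
theorem DD_le : DD p T ≤ centralizer (T : Set G) := map_subtype_le _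

omit [Finite G] in
theorem DD_p : IsPGroup p (DD p T) := (Cfsg.Agent.H1.pCore_isPGroup p _).map _

omit [Finite G] in
theorem nrm_DD : normalizer (T : Set G) ≤ normalizer (DD p T : Set G) := by
  haveI := Cfsg.Agent.H10.pCore_characteristic p (centralizer (T : Set G))
  refine le_trans ?_ (Cfsg.Agent.H23.normalizer_le_normalizer_map (pCore p (centralizer (T : Set G))))
  intro n hn
  rw [mem_normalizer_iff]
  have key : ∀ n ∈ normalizer (T : Set G), ∀ x ∈ centralizer (T : Set G), n * x * n⁻¹ ∈ centralizer (T : Set G) := by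
    intro n hn x hx
    rw [mem_centralizer_iff] at hx ⊢
    intro t ht
    have h1 : n⁻¹ * t * n ∈ T := by
      have := (mem_normalizer_iff.mp (inv_mem hn) t).mp ht
      rwa [inv_inv] at this
    have h2 := hx _ h1
    calc t * (n * x * n⁻¹) = n * ((n⁻¹ * t * n) * x) * n⁻¹ := by group
      _ = n * (x * (n⁻¹ * t * n)) * n⁻¹ := by rw [h2]
      _ = n * x * n⁻¹ * t := by group
  intro x
  refine ⟨key n hn x, fun hx => ?_⟩
  have := key n⁻¹ (inv_mem hn) _ hx
  have e : n⁻¹ * (n * x * n⁻¹) * n⁻¹⁻¹ = x := by group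
  rwa [e] at this

theorem le_DD {K : Subgroup G} (hK : K ≤ centralizer (T : Set G)) (hKp : IsPGroup p K)
    (hKn : centralizer (T : Set G) ≤ normalizer (K : Set G)) : K ≤ DD p T := by
  have hn : (K.subgroupOf (centralizer (T : Set G))).Normal := (normal_subgroupOf_iff_le_normalizer hK).mpr hKn
  have h1 := Cfsg.Agent.H1.le_pCore hn (hKp.comap_of_injective (centralizer (T : Set G)).subtype
    (centralizer (T : Set G)).subtype_injective)
  intro k hk
  exact ⟨⟨k, hK hk⟩, h1 hk, rfl⟩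

theorem Ctx.core (c : Ctx p T A) {a : G} (ha : a ∈ A) (ha1 : a ≠ 1) :
    (∀ Z : Subgroup G, Z ≤ centralizer ({a} : Set G) → (Nat.card Z).Coprime 2 → T ≤ normalizer (Z : Set G) →
      Z ≤ OC (centralizer ({a} : Set G))) ∧
      ∀ x ∈ centralizer ({a} : Set G), ∃ o ∈ OC (centralizer ({a} : Set G)), ∃ n ∈ centralizer ({a} : Set G),
        n ∈ normalizer (T : Set G) ∧ x = o * n :=
  core_facts (c.solv a ha ha1) c.T2 c.Tc c.Ti (c.T_le ha)

theorem Ctx.YY_p (c : Ctx p T A) {a : G} (ha : a ∈ A) : IsPGroup p (YY T a) :=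
  comm_pgroup c.ab c.p2 c.T2 (OC_coprime _) ((c.T_le ha).trans (OC_nrm _))

omit [Finite G] in
theorem Ctx.YY_le (c : Ctx p T A) {a : G} (ha : a ∈ A) : YY T a ≤ OC (centralizer ({a} : Set G)) :=
  Cfsg.Agent.H23.commutator_le_of_le_normalizer ((c.T_le ha).trans (OC_nrm _))

theorem Ctx.YY_nrm (c : Ctx p T A) {a : G} (ha : a ∈ A) (ha1 : a ≠ 1) :
    centralizer ({a} : Set G) ≤ normalizer (YY T a : Set G) := by
  haveI : Fact (Nat.Prime 2) := ⟨Nat.prime_two⟩
  intro x hx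
  obtain ⟨o, ho, n, hn, hnT, rfl⟩ := (c.core ha ha1).2 x hx
  refine mul_mem (Cfsg.Agent.H1.left_le_normalizer_commutator _ _ ho) ?_
  have h1 : zpowers n ≤ normalizer (OC (centralizer ({a} : Set G)) : Set G) := by
    rw [zpowers_le]; exact OC_nrm _ hn
  have h2 : zpowers n ≤ normalizer (T : Set G) := by rw [zpowers_le]; exact hnT
  exact Cfsg.Agent.H10.le_normalizer_commutator h1 h2 (mem_zpowers n)

theorem Ctx.DD_nrm (c : Ctx p T A) {a : G} (ha : a ∈ A) (ha1 : a ≠ 1) :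
    DD p T ≤ normalizer (YY T a : Set G) :=
  DD_le.trans ((c.CT_le ha).trans (c.YY_nrm ha ha1))

theorem Ctx.psi_p (c : Ctx p T A) {a : G} (ha : a ∈ A) (ha1 : a ≠ 1) : IsPGroup p (psi p T a) := by
  unfold psi
  rw [sup_comm]
  exact DD_p.to_sup_of_normal_right' (c.YY_p ha) (c.DD_nrm ha ha1)

omit [Finite G] in
theorem Ctx.psi_le (c : Ctx p T A) {a : G} (ha : a ∈ A) : psi p T a ≤ centralizer ({a} : Set G) :=
  sup_le ((c.YY_le ha).trans (OC_le _)) (DD_le.trans (c.CT_le ha))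

theorem Ctx.T_nrm (c : Ctx p T A) {a : G} (ha : a ∈ A) (ha1 : a ≠ 1) : T ≤ normalizer (psi p T a : Set G) := by
  intro t ht
  have h1 := c.YY_nrm ha ha1 (c.T_le ha ht)
  have h2 : t ∈ normalizer (DD p T : Set G) := nrm_DD (le_normalizer ht)
  apply nrm_of_conj
  intro x hx
  unfold psi at hx ⊢
  rw [← SetLike.mem_coe, coe_mul_of_right_le_normalizer_left _ _ (c.DD_nrm ha ha1)] at hx
  obtain ⟨y, hy, d, hd, rfl⟩ := hx
  have e : t * (y * d) * t⁻¹ = (t * y * t⁻¹) * (t * d * t⁻¹) := by group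
  change t * (y * d) * t⁻¹ ∈ _
  rw [e]
  exact mul_mem (mem_sup_left ((mem_normalizer_iff.mp h1 _).mp hy))
    (mem_sup_right ((mem_normalizer_iff.mp h2 _).mp hd))

theorem coprime_two_of_p (hp2 : p ≠ 2) {K : Subgroup G} (hK : IsPGroup p K) : (Nat.card K).Coprime 2 := by
  obtain ⟨j, hj⟩ := hK.exists_card_eq
  rw [hj]
  exact Nat.Coprime.pow_left _ ((Nat.coprime_primes hp.out Nat.prime_two).mpr hp2)

theorem card_T_coprime (hT : IsPGroup 2 T) {Z : Subgroup G} (hZ : (Nat.card Z).Coprime 2) :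
    (Nat.card T).Coprime (Nat.card Z) := by
  haveI : Fact (Nat.Prime 2) := ⟨Nat.prime_two⟩
  obtain ⟨n, hn⟩ := hT.exists_card_eq
  rw [hn]; exact Nat.Coprime.pow_left _ hZ.symm

theorem Ctx.balance (c : Ctx p T A) {a b : G} (ha : a ∈ A) (ha1 : a ≠ 1) (hb : b ∈ A) (hb1 : b ≠ 1) :
    psi p T a ⊓ centralizer ({b} : Set G) ≤ psi p T b := by
  haveI : Fact (Nat.Prime 2) := ⟨Nat.prime_two⟩
  obtain ⟨Z, hZ⟩ : ∃ Z, Z = psi p T a ⊓ centralizer ({b} : Set G) := ⟨_, rfl⟩
  rw [← hZ]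
  have hZp : IsPGroup p Z := by rw [hZ]; exact (c.psi_p ha ha1).to_le inf_le_left
  have hZ2 := coprime_two_of_p c.p2 hZp
  have hTZ : T ≤ normalizer (Z : Set G) := by
    intro t ht
    apply nrm_of_conj
    intro z hz
    rw [hZ] at hz ⊢
    exact mem_inf.mpr ⟨(mem_normalizer_iff.mp (c.T_nrm ha ha1 ht) z).mp hz.1,
      mul_mem (mul_mem (c.T_le hb ht) hz.2) (inv_mem (c.T_le hb ht))⟩
  have hZO : Z ≤ OC (centralizer ({b} : Set G)) :=
    (c.core hb hb1).1 Z (by rw [hZ]; exact inf_le_right) hZ2 hTZ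
  intro z hz
  have hTs : Group.IsSolvable T := Cfsg.Agent.H23.isSolvable_of_isPGroup c.T2
  obtain ⟨e, he, n, hn, rfl⟩ := Cfsg.Agent.H23.exists_centralizer_mul_commutator hTZ
    (card_T_coprime c.T2 hZ2) (Or.inl hTs) hz
  have h1 : n ∈ YY T b := commutator_mono hZO le_rfl hn
  have h2 : e ∈ DD p T := by
    obtain ⟨heZ, heT⟩ := mem_inf.mp he
    rw [hZ] at heZ
    have h3 : e ∈ psi p T a := (mem_inf.mp heZ).1
    unfold psi at h3
    rw [← SetLike.mem_coe, coe_mul_of_right_le_normalizer_left _ _ (c.DD_nrm ha ha1)] at h3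
    obtain ⟨y, hy, d, hd, rfl⟩ := h3
    have hyT : y ∈ centralizer (T : Set G) := by
      have : y = (y * d) * d⁻¹ := by group
      rw [this]
      exact mul_mem heT (inv_mem (DD_le hd))
    refine mul_mem ?_ hd
    have h4 : YY T a ⊓ centralizer (T : Set G) ≤ DD p T := by
      apply le_DD inf_le_right ((c.YY_p ha).to_le inf_le_left)
      intro x hx
      apply nrm_of_conj
      intro w hw
      exact mem_inf.mpr ⟨(mem_normalizer_iff.mp (c.YY_nrm ha ha1 (c.CT_le ha hx)) w).mp hw.1,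
        mul_mem (mul_mem hx hw.2) (inv_mem hx)⟩
    exact h4 (mem_inf.mpr ⟨hy, hyT⟩)
  exact mul_mem (mem_sup_right h2) (mem_sup_left h1)

theorem Ctx.functor (c : Ctx p T A) : IsSolvableSignalizerFunctor 2 A (psi p T) := by
  refine ⟨⟨fun a ha _ => c.psi_le ha, fun a ha ha1 hd => ?_, fun a ha ha1 b hb x hx => ?_,
    fun a ha ha1 b hb hb1 => c.balance ha ha1 hb hb1⟩, fun a ha ha1 => ?_⟩
  · have h1 := coprime_two_of_p c.p2 (c.psi_p ha ha1)
    exact (Nat.Prime.coprime_iff_not_dvd Nat.prime_two).mp h1.symm hd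
  · exact (mem_normalizer_iff.mp (c.T_nrm ha ha1 ((c.mA b).mp hb).1) x).mp hx
  · exact Cfsg.Agent.H23.isSolvable_of_isPGroup (c.psi_p ha ha1)

end
end Cfsg.Agent.H14.SE
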