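import Cfsg.Agent.H14.SE5
import Cfsg.Agent.H2.Fusion

/-! Groups all of whose `p'`-subgroups are abelian: the strongly embedded subgroup (helper14). -/

set_option autoImplicit false

namespace Cfsg.Agent.H14.SE

open Cfsg Subgroup Cfsg.Agent.H4
open scoped Pointwise commutatorElement

universe u

section
variable {G : Type u} [Group G] [Finite G] {p : ℕ} [hp : Fact p.Prime] {T A : Subgroup G}

omit [Finite G] in
theorem Ctx.conj_mem (c : Ctx p T A) {n a : G} (hn : n ∈ normalizer (T : Set G)) (ha : a ∈ A) : n * a * n⁻¹ ∈ A := by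
  rw [c.mA]
  refine ⟨(mem_normalizer_iff.mp hn a).mp ((c.mA a).mp ha).1, ?_⟩
  rw [conj_pow, ((c.mA a).mp ha).2, mul_one, mul_inv_cancel]

theorem Ctx.YY_conj (c : Ctx p T A) {n a : G} (hn : n ∈ normalizer (T : Set G)) (ha : a ∈ A) (ha1 : a ≠ 1) :
    (YY T a).map (MulAut.conj n).toMonoidHom ≤ YY T (n * a * n⁻¹) := by
  have hb := c.conj_mem hn ha
  have hb1 : n * a * n⁻¹ ≠ 1 := by
    intro h; apply ha1
    have : a = n⁻¹ * (n * a * n⁻¹) * n := by group
    rw [this, h]; group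
  unfold YY
  rw [map_commutator]
  have hTn : T.map (MulAut.conj n).toMonoidHom ≤ T := by
    rintro _ ⟨t, ht, rfl⟩
    exact (mem_normalizer_iff.mp hn t).mp ht
  refine commutator_mono ?_ hTn
  apply (c.core hb hb1).1
  · rintro _ ⟨x, hx, rfl⟩
    have h1 := mem_centralizer_singleton_iff.mp (OC_le _ hx)
    rw [mem_centralizer_singleton_iff]
    change n * x * n⁻¹ * (n * a * n⁻¹) = n * a * n⁻¹ * (n * x * n⁻¹)
    calc n * x * n⁻¹ * (n * a * n⁻¹) = n * (x * a) * n⁻¹ := by group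
      _ = n * (a * x) * n⁻¹ := by rw [h1]
      _ = n * a * n⁻¹ * (n * x * n⁻¹) := by group
  · have h2 : Nat.card ((OC (centralizer ({a} : Set G))).map (MulAut.conj n).toMonoidHom) =
        Nat.card (OC (centralizer ({a} : Set G))) :=
      (Nat.card_congr ((OC (centralizer ({a} : Set G))).equivMapOfInjective _ (MulAut.conj n).injective).toEquiv).symm
    rw [h2]; exact OC_coprime _
  · intro t ht
    apply nrm_of_conj
    rintro _ ⟨x, hx, rfl⟩
    have h3 : n⁻¹ * t * n ∈ T := by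
      have := (mem_normalizer_iff.mp (inv_mem hn) t).mp ht
      rwa [inv_inv] at this
    have h4 := (mem_normalizer_iff.mp (OC_nrm _ (c.T_le ha h3)) x).mp hx
    refine ⟨_, h4, ?_⟩
    change n * (n⁻¹ * t * n * x * (n⁻¹ * t * n)⁻¹) * n⁻¹ = t * (n * x * n⁻¹) * t⁻¹
    group

theorem Ctx.psi_conj (c : Ctx p T A) {n a : G} (hn : n ∈ normalizer (T : Set G)) (ha : a ∈ A) (ha1 : a ≠ 1) :
    (psi p T a).map (MulAut.conj n).toMonoidHom ≤ psi p T (n * a * n⁻¹) := by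
  unfold psi
  rw [Subgroup.map_sup]
  apply sup_le ((c.YY_conj hn ha ha1).trans le_sup_left)
  refine le_trans ?_ le_sup_right
  rintro _ ⟨x, hx, rfl⟩
  exact (mem_normalizer_iff.mp (nrm_DD hn) x).mp hx

omit [Finite G] in
theorem Ctx.Ac (c : Ctx p T A) : IsMulCommutative A :=
  ⟨⟨fun a b => Subtype.ext (c.Tc a ((c.mA a).mp a.2).1 b ((c.mA b).mp b.2).1)⟩⟩

omit [Finite G] in
theorem Ctx.Anc (c : Ctx p T A) : ¬ IsCyclic A := by
  intro h
  obtain ⟨g, hg⟩ := h.exists_generator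
  have h1 : Nat.card A = orderOf g := (orderOf_eq_card_of_forall_mem_zpowers hg).symm
  have h2 : orderOf g ∣ 2 := orderOf_dvd_of_pow_eq_one (Subtype.ext ((c.mA g).mp g.2).2)
  have h3 := Nat.le_of_dvd (by norm_num) h2
  have h4 := c.A8
  rw [h1] at h4
  omega

theorem Ctx.exists_K (c : Ctx p T A) (hT : T ≠ ⊥) (hTt : T ≠ ⊤) : ∃ K : Subgroup G, K ≠ ⊥ ∧ K ≠ ⊤ ∧
    normalizer (T : Set G) ≤ normalizer (K : Set G) ∧
    ∀ a ∈ A, a ≠ 1 → centralizer ({a} : Set G) ≤ normalizer (K : Set G) := by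
  haveI : Fact (Nat.Prime 2) := ⟨Nat.prime_two⟩
  have hA : IsElementaryAbelian 2 A := ⟨c.Ac, fun a ha => ((c.mA a).mp ha).2⟩
  obtain ⟨-, X, hXA, hX2, hXa⟩ := Cfsg.Agent.S1285.result 2 A hA c.A8 (psi p T) c.functor p
    (fun a ha ha1 => c.psi_p ha ha1)
  have hXc : (Nat.card X).Coprime 2 := Nat.Coprime.symm ((Nat.Prime.coprime_iff_not_dvd Nat.prime_two).mpr hX2)
  have hAX : A ≤ normalizer (X : Set G) := fun a ha => nrm_of_conj (hXA a ha)
  have hA2 : IsPGroup 2 A := c.T2.to_le (fun a ha => ((c.mA a).mp ha).1)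
  have hgen := Cfsg.Agent.H23.iSup_centralizer_of_not_isCyclic c.Ac c.Anc hAX (card_T_coprime hA2 hXc)
  have hNX : normalizer (T : Set G) ≤ normalizer (X : Set G) := by
    intro n hn
    apply nrm_of_conj
    intro x hx
    rw [← hgen] at hx
    have h1 : n * x * n⁻¹ ∈ (⨆ a : {a : G // a ∈ A ∧ a ≠ 1}, X ⊓ centralizer ({(a : G)} : Set G)).map
        (MulAut.conj n).toMonoidHom := ⟨x, hx, rfl⟩
    rw [Subgroup.map_iSup] at h1
    have h2 : (⨆ a : {a : G // a ∈ A ∧ a ≠ 1}, (X ⊓ centralizer ({(a : G)} : Set G)).map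
        (MulAut.conj n).toMonoidHom) ≤ X := by
      apply iSup_le
      rintro ⟨a, ha, ha1⟩
      change (X ⊓ centralizer ({a} : Set G)).map (MulAut.conj n).toMonoidHom ≤ X
      rw [hXa a ha ha1]
      have hb1 : n * a * n⁻¹ ≠ 1 := by
        intro h; apply ha1
        have : a = n⁻¹ * (n * a * n⁻¹) * n := by group
        rw [this, h]; group
      refine (c.psi_conj hn ha ha1).trans ?_
      rw [← hXa _ (c.conj_mem hn ha) hb1]
      exact inf_le_left
    exact h2 h1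
  -- reduction to the commutator
  have key : ∀ K : Subgroup G, normalizer (T : Set G) ≤ normalizer (K : Set G) →
      (∀ a ∈ A, a ≠ 1 → YY T a ≤ normalizer (K : Set G)) →
      ∀ a ∈ A, a ≠ 1 → centralizer ({a} : Set G) ≤ normalizer (K : Set G) := by
    intro K hNK hYK a ha ha1 x hx
    obtain ⟨o, ho, n, -, hnT, rfl⟩ := (c.core ha ha1).2 x hx
    refine mul_mem ?_ (hNK hnT)
    obtain ⟨e, he, y, hy, rfl⟩ := Cfsg.Agent.H23.exists_centralizer_mul_commutator
      ((c.T_le ha).trans (OC_nrm _)) (card_T_coprime c.T2 (OC_coprime _))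
      (Or.inl (Cfsg.Agent.H23.isSolvable_of_isPGroup c.T2)) ho
    refine mul_mem (hNK ?_) (hYK a ha ha1 hy)
    exact Subgroup.centralizer_le_normalizer (T : Set G) (mem_inf.mp he).2
  by_cases hX : X = ⊥
  · refine ⟨T, hT, hTt, le_rfl, key T le_rfl fun a ha ha1 => ?_⟩
    have h1 : YY T a ≤ X := le_sup_left.trans (by
      change psi p T a ≤ X
      rw [← hXa a ha ha1]; exact inf_le_left)
    rw [hX] at h1
    exact h1.trans bot_le
  · refine ⟨X, hX, ?_, hNX, key X hNX fun a ha ha1 => ?_⟩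
    · rintro rfl
      apply hT
      rw [← Subgroup.card_eq_one]
      obtain ⟨n, hn⟩ := c.T2.exists_card_eq
      have h1 : Nat.card T ∣ Nat.card (⊤ : Subgroup G) := card_dvd_of_le le_top
      exact Nat.Coprime.eq_one_of_dvd (by rw [hn] at h1 ⊢; exact Nat.Coprime.pow_left _ hXc.symm) h1
    · refine le_trans ?_ (le_normalizer (H := X))
      refine le_sup_left.trans (?_ : psi p T a ≤ X)
      rw [← hXa a ha ha1]; exact inf_le_left

theorem conj_into {H : Subgroup G} (hT : IsPGroup 2 T) (hTi : ¬ 2 ∣ T.index) (hTH : T ≤ H) {t : G} (ht : t ∈ H)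
    (hto : orderOf t = 2) : ∃ h ∈ H, h * t * h⁻¹ ∈ T := by
  haveI : Fact (Nat.Prime 2) := ⟨Nat.prime_two⟩
  have h1 : Cfsg.Agent.H23.IsSylowOf 2 T H := Cfsg.Agent.H23.isSylowOf_iff.mpr ⟨hTH, hT, fun hd => hTi (hd.trans (by
    have := relIndex_mul_index hTH
    rw [← this]
    exact Dvd.intro _ rfl))⟩
  have h2 : IsPGroup 2 (zpowers t) := IsPGroup.of_card (n := 1) (by rw [Nat.card_zpowers, hto, pow_one])
  obtain ⟨P, hP, htP⟩ := Cfsg.Agent.H23.exists_isSylowOf_ge (G := H) (by rw [zpowers_le]; exact ht) h2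
  obtain ⟨h, hh, hPT⟩ := hP.exists_conj h1
  refine ⟨h, hh, ?_⟩
  rw [← hPT]
  exact Subgroup.smul_mem_pointwise_smul _ (MulAut.conj h) P (htP (mem_zpowers t))

theorem Ctx.exists_se (c : Ctx p T A) (hG : IsSimpleGroup G) (hT : T ≠ ⊥) (hTt : T ≠ ⊤) :
    ∃ H : Subgroup G, IsStronglyEmbedded H ∧ Four H := by
  haveI : Fact (Nat.Prime 2) := ⟨Nat.prime_two⟩
  obtain ⟨K, hK, hKt, hNK, hCK⟩ := c.exists_K hT hTt
  obtain ⟨H, hH⟩ : ∃ H, H = normalizer (K : Set G) := ⟨_, rfl⟩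
  rw [← hH] at hNK hCK
  have hTH : T ≤ H := le_normalizer.trans hNK
  have hHt : H ≠ ⊤ := by
    intro h
    rw [hH, Subgroup.normalizer_eq_top_iff] at h
    rcases h.eq_bot_or_eq_top with h1 | h1
    · exact hK h1
    · exact hKt h1
  have hTev : 2 ∣ Nat.card T := by
    obtain ⟨n, hn⟩ := c.T2.exists_card_eq
    rw [hn]
    apply dvd_pow_self
    rintro rfl
    apply hT
    rw [← Subgroup.card_eq_one, hn, pow_zero]
  have heven : Even (Nat.card H) := even_iff_two_dvd.mpr (hTev.trans (card_dvd_of_le hTH))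
  have hinv : ∀ t ∈ T, orderOf t = 2 → t ∈ A ∧ t ≠ 1 := by
    intro t ht hto
    refine ⟨(c.mA t).mpr ⟨ht, by rw [← hto]; exact pow_orderOf_eq_one t⟩, ?_⟩
    rintro rfl
    rw [orderOf_one] at hto
    omega
  refine ⟨H, (Cfsg.Agent.S0223.result H hHt heven).mpr ⟨?_, ?_⟩, ?_⟩
  · intro t ht hto x hx
    obtain ⟨h, hh, hhT⟩ := conj_into c.T2 c.Ti hTH ht hto
    obtain ⟨hA, hA1⟩ := hinv _ hhT (by rw [orderOf_conj]; exact hto)
    rw [mem_centralizer_singleton_iff] at hx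
    have h1 : h * x * h⁻¹ ∈ H := by
      apply hCK _ hA hA1
      rw [mem_centralizer_singleton_iff]
      calc h * x * h⁻¹ * (h * t * h⁻¹) = h * (x * t) * h⁻¹ := by group
        _ = h * (t * x) * h⁻¹ := by rw [hx]
        _ = h * t * h⁻¹ * (h * x * h⁻¹) := by group
    have e : x = h⁻¹ * (h * x * h⁻¹) * h := by group
    rw [e]
    exact mul_mem (mul_mem (inv_mem hh) h1) hh
  · intro t ht s hs hto hso hts
    obtain ⟨g, hg⟩ := isConj_iff.mp hts
    obtain ⟨h₁, hh₁, ht'⟩ := conj_into c.T2 c.Ti hTH ht hto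
    obtain ⟨h₂, hh₂, hs'⟩ := conj_into c.T2 c.Ti hTH hs hso
    obtain ⟨S, hS⟩ : ∃ S : Sylow 2 G, (S : Subgroup G) = T := ⟨c.T2.toSylow c.Ti, rfl⟩
    have hSab : IsMulCommutative (S : Subgroup G) := by
      rw [hS]; exact ⟨⟨fun a b => Subtype.ext (c.Tc a a.2 b b.2)⟩⟩
    have hcf := Cfsg.Agent.H2.controlsFusion_normalizer_of_abelian S hSab
    have e : h₂ * g * h₁⁻¹ * (h₁ * t * h₁⁻¹) * (h₂ * g * h₁⁻¹)⁻¹ = h₂ * (g * t * g⁻¹) * h₂⁻¹ := by group
    obtain ⟨x, hx, hxe⟩ := hcf (h₁ * t * h₁⁻¹) (by rw [hS]; exact ht') (h₂ * g * h₁⁻¹) (by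
      rw [hS, e, hg]; exact hs')
    have hxT : x ∈ normalizer (T : Set G) := by rw [← hS]; exact hx
    have hxe' : h₂ * (g * t * g⁻¹) * h₂⁻¹ = x * (h₁ * t * h₁⁻¹) * x⁻¹ := by
      rw [hxe, e]
    rw [hg] at hxe'
    refine ⟨h₂⁻¹ * x * h₁, mul_mem (mul_mem (inv_mem hh₂) (hNK hxT)) hh₁, ?_⟩
    calc h₂⁻¹ * x * h₁ * t * (h₂⁻¹ * x * h₁)⁻¹ = h₂⁻¹ * (x * (h₁ * t * h₁⁻¹) * x⁻¹) * h₂ := by group
      _ = s := by rw [← hxe']; group
  · intro w
    obtain ⟨g, rfl⟩ := QuotientGroup.mk_surjective w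
    have hA8 := c.A8
    obtain ⟨a, ha, ha1⟩ : ∃ a ∈ A, a ≠ 1 := by
      by_contra hcon
      push Not at hcon
      have : A = ⊥ := (eq_bot_iff_forall A).mpr hcon
      rw [this, Subgroup.card_bot] at hA8
      norm_num at hA8
    have haT := (c.mA a).mp ha
    have hao : orderOf a = 2 := orderOf_eq_prime haT.2 ha1
    obtain ⟨b, hb, hba⟩ : ∃ b ∈ A, b ∉ zpowers a := by
      by_contra hcon
      push Not at hcon
      have : A ≤ zpowers a := hcon
      have h1 := card_le_of_le this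
      rw [Nat.card_zpowers, hao] at h1
      omega
    have hbT := (c.mA b).mp hb
    have hb1 : b ≠ 1 := by rintro rfl; exact hba (one_mem _)
    have hbo : orderOf b = 2 := orderOf_eq_prime hbT.2 hb1
    have hab : a ≠ b := by rintro rfl; exact hba (mem_zpowers a)
    refine ⟨g * a * g⁻¹, g * b * g⁻¹, by rw [orderOf_conj]; exact hao, by rw [orderOf_conj]; exact hbo, ?_, ?_, ?_, ?_⟩
    · intro h
      exact hab (mul_left_cancel (mul_right_cancel h))
    · calc g * a * g⁻¹ * (g * b * g⁻¹) = g * (a * b) * g⁻¹ := by group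
        _ = g * (b * a) * g⁻¹ := by rw [c.Tc a haT.1 b hbT.1]
        _ = g * b * g⁻¹ * (g * a * g⁻¹) := by group
    · rw [smul_mk_eq_iff]
      have e : g⁻¹ * (g * a * g⁻¹) * g = a := by group
      rw [e]; exact hTH haT.1
    · rw [smul_mk_eq_iff]
      have e : g⁻¹ * (g * b * g⁻¹) * g = b := by group
      rw [e]; exact hTH hbT.1

end
end Cfsg.Agent.H14.SE
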