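import Cfsg.Agent.H14.SE6

/-! Groups all of whose `p'`-subgroups are abelian: the simple case (helper14). -/

set_option autoImplicit false

namespace Cfsg.Agent.H14.SE

open Cfsg Subgroup Cfsg.Agent.H4
open scoped Pointwise commutatorElement

universe u

section
variable {G : Type u} [Group G] [Finite G] {p : ℕ} [hp : Fact p.Prime]

omit [Finite G] in
theorem mem_of_coprime_pow {C : Subgroup G} {y : G} {m n : ℕ} (hmn : m.Coprime n) (hm : y ^ m ∈ C) (hn : y ^ n ∈ C) :
    y ∈ C := by
  obtain ⟨a, b, hab⟩ := Nat.isCoprime_iff_coprime.mpr hmn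
  have h1 : y = (y ^ m) ^ a * (y ^ n) ^ b := by
    rw [← zpow_natCast y m, ← zpow_natCast y n, ← zpow_mul, ← zpow_mul, ← zpow_add, mul_comm (m : ℤ) a,
      mul_comm (n : ℤ) b, hab, zpow_one]
  rw [h1]
  exact mul_mem (zpow_mem hm a) (zpow_mem hn b)

theorem exists_pelt (hG : IsSimpleGroup G) (hns : ¬ Group.IsSolvable G) (hab : AbP G p) (hp2 : p ≠ 2)
    (S : Sylow 2 G) (hT : (S : Subgroup G) ≠ ⊥) :
    ∃ x : G, ∃ k, x ^ p ^ k = 1 ∧ x ∈ normalizer ((S : Subgroup G) : Set G) ∧
      x ∉ centralizer ((S : Subgroup G) : Set G) := by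
  haveI : Fact (Nat.Prime 2) := ⟨Nat.prime_two⟩
  obtain ⟨y, hy, hyC⟩ : ∃ y ∈ normalizer ((S : Subgroup G) : Set G), y ∉ centralizer ((S : Subgroup G) : Set G) := by
    by_contra hcon
    push Not at hcon
    have h1 : normalizer ((S : Subgroup G) : Set G) ≤ centralizer ((S : Subgroup G) : Set G) := hcon
    obtain ⟨P, N, hNn, hN⟩ := Cfsg.Agent.H20.hasNormalPComplement_of_normalizer_le S h1
    have h6 := hN.card_mul
    rcases hNn.eq_bot_or_eq_top with h2 | h2
    · apply hns
      obtain ⟨n, hn⟩ := P.isPGroup'.exists_card_eq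
      rw [h2, Subgroup.card_bot, one_mul] at h6
      have h3 : IsPGroup 2 G := IsPGroup.of_card (n := n) (by rw [← h6]; exact hn)
      haveI := h3.isNilpotent
      infer_instance
    · apply hT
      rw [h2, Subgroup.card_top] at h6
      have h7 : Nat.card (P : Subgroup G) = 1 := Nat.eq_of_mul_eq_mul_left (Nat.card_pos (α := G)) (by rw [h6, mul_one])
      rw [← Subgroup.card_eq_one, ← h7]
      exact Nat.card_congr (S.equiv P).toEquiv
  have h0 : orderOf y ≠ 0 := (orderOf_pos _).ne'
  obtain ⟨k, m, hm, hkm⟩ := Nat.exists_eq_pow_mul_and_not_dvd h0 p hp.out.ne_one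
  have hmp : m.Coprime p := Nat.Coprime.symm ((Nat.Prime.coprime_iff_not_dvd hp.out).mpr hm)
  have hz : y ^ p ^ k ∈ centralizer ((S : Subgroup G) : Set G) := by
    have hord : orderOf (y ^ p ^ k) = m := by
      have hpk : p ^ k ≠ 0 := (pow_pos hp.out.pos k).ne'
      rw [orderOf_pow_of_dvd hpk (by rw [hkm]; exact Dvd.intro _ rfl), hkm]
      exact Nat.mul_div_cancel_left _ (Nat.pos_of_ne_zero hpk)
    have h1 : zpowers (y ^ p ^ k) ≤ centralizer ((S : Subgroup G) : Set G) := by
      apply cent_of_inv hab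
      · rw [Nat.card_zpowers, hord]; exact hmp
      · obtain ⟨n, hn⟩ := S.isPGroup'.exists_card_eq
        change Nat.card (S : Subgroup G) = _ at hn
        rw [hn]
        exact Nat.Coprime.pow_left _ ((Nat.coprime_primes Nat.prime_two hp.out).mpr (Ne.symm hp2))
      · rw [zpowers_le]; exact pow_mem hy _
    exact h1 (mem_zpowers _)
  refine ⟨y ^ m, k, ?_, pow_mem hy _, fun h => ?_⟩
  · rw [← pow_mul, mul_comm, ← hkm, pow_orderOf_eq_one]
  · exact hyC (mem_of_coprime_pow (Nat.Coprime.pow_right k hmp) h hz)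

theorem simple_case (hG : IsSimpleGroup G) (hns : ¬ Group.IsSolvable G)
    (hprop : ∀ K : Subgroup G, K ≠ ⊤ → Group.IsSolvable K) (hab : AbP G p) (hp5 : 5 ≤ p) : False := by
  haveI : Fact (Nat.Prime 2) := ⟨Nat.prime_two⟩
  have hp2 : p ≠ 2 := by omega
  obtain ⟨S⟩ : Nonempty (Sylow 2 G) := inferInstance
  obtain ⟨T, hTS⟩ : ∃ T, T = (S : Subgroup G) := ⟨_, rfl⟩
  have hT2 : IsPGroup 2 T := by rw [hTS]; exact S.isPGroup'
  have hTi : ¬ 2 ∣ T.index := by rw [hTS]; exact S.not_dvd_index
  obtain ⟨n, hn⟩ := hT2.exists_card_eq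
  have hTp : (Nat.card T).Coprime p := by
    rw [hn]
    exact Nat.Coprime.pow_left _ ((Nat.coprime_primes Nat.prime_two hp.out).mpr (Ne.symm hp2))
  have hTc := hab T hTp
  have hT : T ≠ ⊥ := by
    intro h
    apply hns
    apply Cfsg.Agent.FT.odd_order
    rw [h, Subgroup.index_bot] at hTi
    rw [← Nat.not_even_iff_odd, even_iff_two_dvd]
    exact hTi
  have hTt : T ≠ ⊤ := by
    intro h
    apply hns
    have h3 : IsPGroup 2 G := IsPGroup.of_card (n := n) (by rw [← hn, h, Subgroup.card_top])
    haveI := h3.isNilpotent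
    infer_instance
  obtain ⟨x, k, hxk, hxN, hxC⟩ := exists_pelt hG hns hab hp2 S (by rw [← hTS]; exact hT)
  rw [← hTS] at hxN hxC
  obtain ⟨A, hA⟩ : ∃ A : Subgroup G, ∀ a, a ∈ A ↔ a ∈ T ∧ a ^ 2 = 1 := by
    refine ⟨{ carrier := {a | a ∈ T ∧ a ^ 2 = 1}
              mul_mem' := ?_
              one_mem' := ⟨one_mem _, one_pow _⟩
              inv_mem' := ?_ }, fun a => Iff.rfl⟩
    · rintro a b ⟨ha, ha2⟩ ⟨hb, hb2⟩
      refine ⟨mul_mem ha hb, ?_⟩
      have : Commute a b := hTc a ha b hb
      rw [this.mul_pow, ha2, hb2, one_mul]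
    · rintro a ⟨ha, ha2⟩
      exact ⟨inv_mem ha, by rw [inv_pow, ha2, inv_one]⟩
  have hAT : A ≤ T := fun a ha => ((hA a).mp ha).1
  -- `x` moves an element of `A`
  obtain ⟨a, ha, hxa⟩ : ∃ a ∈ A, x * a ≠ a * x := by
    by_contra hcon
    push Not at hcon
    apply hxC
    haveI : IsMulCommutative T := ⟨⟨fun a b => Subtype.ext (hTc a a.2 b b.2)⟩⟩
    have h1 : zpowers x ≤ centralizer (T : Set G) := by
      apply Cfsg.Agent.H1.abelian_coprime_trivial_of_omega
      · rw [zpowers_le]; exact hxN
      · have h2 : Nat.card (zpowers x) ∣ p ^ k := by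
          rw [Nat.card_zpowers]; exact orderOf_dvd_of_pow_eq_one hxk
        exact Nat.Coprime.coprime_dvd_left h2 (Nat.Coprime.pow_left _ hTp.symm)
      · intro v hv hvp z hz
        have hv2 : orderOf v = 2 := by
          have h3 : orderOf v ∣ 2 ^ n := by
            rw [← hn]
            exact Subgroup.orderOf_dvd_natCard T hv
          exact (Nat.prime_dvd_prime_iff_eq hvp Nat.prime_two).mp (hvp.dvd_of_dvd_pow h3)
        have hvA : v ∈ A := (hA v).mpr ⟨hv, by rw [← hv2]; exact pow_orderOf_eq_one v⟩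
        have h4 : x ∈ centralizer ({v} : Set G) := mem_centralizer_singleton_iff.mpr (hcon v hvA)
        have h5 : zpowers x ≤ centralizer ({v} : Set G) := by rw [zpowers_le]; exact h4
        exact mem_centralizer_singleton_iff.mp (h5 hz)
    exact h1 (mem_zpowers x)
  have hconj : ∀ b ∈ A, ∀ i : ℕ, x ^ i * b * (x ^ i)⁻¹ ∈ A := by
    intro b hb i
    rw [hA]
    refine ⟨(mem_normalizer_iff.mp (pow_mem hxN i) b).mp (hAT hb), ?_⟩
    rw [conj_pow, ((hA b).mp hb).2, mul_one, mul_inv_cancel]
  have hA8 : 2 ^ 3 ≤ Nat.card A := by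
    have h1 : p ≤ Nat.card A := by
      have h2 : Function.Injective (fun i : Fin p => (⟨_, hconj a ha i⟩ : A)) := by
        have key : ∀ i j : ℕ, i < j → j < p → x ^ i * a * (x ^ i)⁻¹ = x ^ j * a * (x ^ j)⁻¹ → False := by
          intro i j hij hjp he
          have h3 : x ^ (j - i) ∈ centralizer ({a} : Set G) := by
            rw [mem_centralizer_singleton_iff]
            have e : x ^ j = x ^ i * x ^ (j - i) := by rw [← pow_add]; congr 1; omega
            rw [e] at he
            have e2 : x ^ i * a * (x ^ i)⁻¹ = x ^ i * (x ^ (j - i) * a * (x ^ (j - i))⁻¹) * (x ^ i)⁻¹ := by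
              rw [he]; group
            have e3 : a = x ^ (j - i) * a * (x ^ (j - i))⁻¹ := mul_left_cancel (mul_right_cancel e2)
            rw [eq_mul_inv_iff_mul_eq] at e3
            exact e3.symm
          have h4 : (j - i).Coprime (p ^ k) := by
            apply Nat.Coprime.pow_right
            apply Nat.Coprime.symm
            rw [Nat.Prime.coprime_iff_not_dvd hp.out]
            intro hd
            have := Nat.le_of_dvd (by omega) hd
            omega
          have h5 := mem_of_coprime_pow h4 h3 (by rw [hxk]; exact one_mem _)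
          exact hxa (mem_centralizer_singleton_iff.mp h5)
        intro i j hij
        have hij' : x ^ (i : ℕ) * a * (x ^ (i : ℕ))⁻¹ = x ^ (j : ℕ) * a * (x ^ (j : ℕ))⁻¹ := congrArg Subtype.val hij
        rcases lt_trichotomy (i : ℕ) (j : ℕ) with h3 | h3 | h3
        · exact (key i j h3 j.2 hij').elim
        · exact Fin.ext h3
        · exact (key j i h3 i.2 hij'.symm).elim
      have h3 := Nat.card_le_card_of_injective _ h2
      rwa [Nat.card_fin] at h3
    have hA2 : IsPGroup 2 A := hT2.to_le hAT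
    obtain ⟨m, hm⟩ := hA2.exists_card_eq
    rw [hm] at h1 ⊢
    apply Nat.pow_le_pow_right (by norm_num)
    by_contra hm3
    have : 2 ^ m ≤ 2 ^ 2 := Nat.pow_le_pow_right (by norm_num) (by omega)
    omega
  have c : Ctx p T A :=
    { ab := hab
      p2 := hp2
      T2 := hT2
      Tc := hTc
      Ti := hTi
      mA := hA
      A8 := hA8
      solv := by
        intro b hb hb1
        apply hprop
        intro h
        have h1 : b ∈ center G := by
          rw [mem_center_iff]
          intro g
          have : g ∈ centralizer ({b} : Set G) := by rw [h]; exact mem_top _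
          exact mem_centralizer_singleton_iff.mp this
        rcases (inferInstance : (center G).Normal).eq_bot_or_eq_top with h2 | h2
        · rw [h2, mem_bot] at h1; exact hb1 h1
        · apply hns
          have h3 : ∀ g g' : G, g * g' = g' * g := by
            intro g g'
            have : g' ∈ center G := by rw [h2]; exact mem_top _
            exact (mem_center_iff.mp this) g
          exact Group.isSolvable_of_comm h3 }
  obtain ⟨H, hH, hfour⟩ := c.exists_se hG hT hTt
  exact se_contra hH hp2 (star_of_AbP hab hp2) hfour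

end
end Cfsg.Agent.H14.SE
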