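import Cfsg.Agent.H14.SE7
import Cfsg.Agent.H23.PCompl
import Cfsg.Agent.H3.BurnsidePQ

/-! Groups all of whose `p'`-subgroups are abelian of exponent dividing `p - 1` (helper14). -/

set_option autoImplicit false

namespace Cfsg.Agent.H14.SE

open Cfsg Subgroup Cfsg.Agent.H4
open scoped Pointwise commutatorElement

universe u

section
variable {G : Type u} [Group G] [Finite G] {p : ℕ} [hp : Fact p.Prime]

/-- the hypothesis -/
def HH (G : Type*) [Group G] (p : ℕ) : Prop :=
  ∀ H : Subgroup G, (Nat.card H).Coprime p → (∀ a ∈ H, ∀ b ∈ H, a * b = b * a) ∧ ∀ x ∈ H, x ^ (p - 1) = 1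

omit [Finite G] hp in
theorem HH.sub (h : HH G p) (K : Subgroup G) : HH K p := by
  intro H hH
  have h1 : Nat.card (H.map K.subtype) = Nat.card H :=
    (Nat.card_congr (H.equivMapOfInjective _ K.subtype_injective).toEquiv).symm
  obtain ⟨h2, h3⟩ := h (H.map K.subtype) (by rw [h1]; exact hH)
  refine ⟨fun a ha b hb => Subtype.ext ?_, fun x hx => Subtype.ext ?_⟩
  · exact h2 a ⟨a, ha, rfl⟩ b ⟨b, hb, rfl⟩
  · exact h3 x ⟨x, hx, rfl⟩

theorem HH.quot (h : HH G p) {N : Subgroup G} [hN : N.Normal] (hs : IsPSolvable p N) : HH (G ⧸ N) p := by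
  intro H hH
  obtain ⟨K, hK⟩ : ∃ K, K = H.comap (QuotientGroup.mk' N) := ⟨_, rfl⟩
  have hNK : N ≤ K := by
    intro x hx
    rw [hK, mem_comap, QuotientGroup.mk'_apply, (QuotientGroup.eq_one_iff x).mpr hx]
    exact one_mem _
  have hKH : K.map (QuotientGroup.mk' N) = H := by
    rw [hK, map_comap_eq_self_of_surjective (QuotientGroup.mk'_surjective N)]
  -- the restriction of the projection
  let f : K →* H := ((QuotientGroup.mk' N).comp K.subtype).codRestrict H (fun x => by
    have h1 : K ≤ H.comap (QuotientGroup.mk' N) := hK.le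
    exact h1 x.2)
  have hf : Function.Surjective f := by
    rintro ⟨y, hy⟩
    rw [← hKH] at hy
    obtain ⟨x, hx, hxy⟩ := hy
    exact ⟨⟨x, hx⟩, Subtype.ext hxy⟩
  have hker : f.ker = N.subgroupOf K := by
    ext x
    rw [MonoidHom.mem_ker, mem_subgroupOf, ← QuotientGroup.eq_one_iff]
    constructor
    · intro hx; exact congrArg Subtype.val hx
    · intro hx; exact Subtype.ext hx
  have hKM' : (Nat.card (K ⧸ f.ker)).Coprime p := by
    rw [Nat.card_congr (QuotientGroup.quotientKerEquivOfSurjective f hf).toEquiv]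
    exact hH
  obtain ⟨M, hMf⟩ : ∃ M, M = f.ker := ⟨_, rfl⟩
  have hM : M = N.subgroupOf K := hMf.trans hker
  haveI hMn : M.Normal := by rw [hMf]; infer_instance
  have hKM : (Nat.card (K ⧸ M)).Coprime p := by
    subst hMf
    exact hKM'
  have hKs : IsPSolvable p K := by
    haveI : Finite (K ⧸ M) := inferInstance
    apply Cfsg.Agent.H23.isPSolvable_of_extension M
    · have h1 : IsPSolvable p (N.subgroupOf K) :=
        Cfsg.Agent.H23.isPSolvable_of_equiv (subgroupOfEquivOfLe hNK).symm hs
      rw [hM]; exact h1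
    · exact Cfsg.Agent.H23.isPSolvable_of_card_coprime hKM
  obtain ⟨L, hL⟩ := Cfsg.Agent.H23.pcompl_exists hKs
  have hLM := hL.map M
  have hLt : L.map (QuotientGroup.mk' M) = ⊤ := by
    rw [← Subgroup.index_eq_one]
    obtain ⟨n, hn⟩ := hLM.2
    have h1 : (L.map (QuotientGroup.mk' M)).index ∣ Nat.card (K ⧸ M) := Subgroup.index_dvd_card _
    rw [hn] at h1 ⊢
    exact Nat.Coprime.eq_one_of_dvd (Nat.Coprime.pow_left _ hKM.symm) h1
  -- lifting
  have hlift : ∀ y ∈ H, ∃ x ∈ L.map K.subtype, QuotientGroup.mk' N x = y := by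
    intro y hy
    rw [← hKH] at hy
    obtain ⟨x, hx, rfl⟩ := hy
    have h1 : QuotientGroup.mk' M ⟨x, hx⟩ ∈ L.map (QuotientGroup.mk' M) := by rw [hLt]; exact mem_top _
    obtain ⟨l, hl, hlx⟩ := h1
    refine ⟨l, ⟨l, hl, rfl⟩, ?_⟩
    have h2 : l⁻¹ * ⟨x, hx⟩ ∈ M := QuotientGroup.eq.mp hlx
    rw [hM, mem_subgroupOf] at h2
    exact QuotientGroup.eq.mpr h2
  have h1 : Nat.card (L.map K.subtype) = Nat.card L :=
    (Nat.card_congr (L.equivMapOfInjective _ K.subtype_injective).toEquiv).symm
  obtain ⟨h2, h3⟩ := h (L.map K.subtype) (by rw [h1]; exact hL.1)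
  constructor
  · intro a ha b hb
    obtain ⟨a', ha', rfl⟩ := hlift a ha
    obtain ⟨b', hb', rfl⟩ := hlift b hb
    rw [← map_mul, ← map_mul, h2 a' ha' b' hb']
  · intro a ha
    obtain ⟨a', ha', rfl⟩ := hlift a ha
    rw [← map_pow, h3 a' ha', map_one]

omit [Finite G] in
theorem HH.prime_dvd [Finite G] (h : HH G p) {q : ℕ} (hq : q.Prime) (hqG : q ∣ Nat.card G) (hqp : q ≠ p) : q ∣ p - 1 := by
  haveI : Fact q.Prime := ⟨hq⟩
  obtain ⟨x, hx⟩ := exists_prime_orderOf_dvd_card' q hqG
  have h1 := (h (zpowers x) (by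
    rw [Nat.card_zpowers, hx]; exact (Nat.coprime_primes hq hp.out).mpr hqp)).2 x (mem_zpowers x)
  rw [← hx]
  exact orderOf_dvd_of_pow_eq_one h1

theorem main (n : ℕ) : ∀ (G : Type u) [Group G] [Finite G], Nat.card G = n → HH G p → Group.IsSolvable G := by
  induction n using Nat.strong_induction_on with
  | _ n ih =>
    intro G _ _ hGn h
    by_cases hN : ∃ N : Subgroup G, N.Normal ∧ N ≠ ⊥ ∧ N ≠ ⊤
    · obtain ⟨N, hNn, hN1, hN2⟩ := hN
      have h1 : Nat.card N < n := by
        rw [← hGn]
        exact lt_of_le_of_ne (Subgroup.card_le_card_group N) (fun h => hN2 ((Subgroup.card_eq_iff_eq_top N).mp h))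
      have h2 := ih _ h1 N rfl (h.sub N)
      have h3 : Nat.card (G ⧸ N) < n := by
        rw [← hGn, N.card_eq_card_quotient_mul_card_subgroup]
        have h4 : 1 < Nat.card N := by
          rw [Subgroup.one_lt_card_iff_ne_bot]; exact hN1
        have h5 : 0 < Nat.card (G ⧸ N) := Nat.card_pos
        nlinarith
      have h4 := ih _ h3 (G ⧸ N) rfl (h.quot (Cfsg.Agent.H23.isPSolvable_of_isSolvable h2))
      exact Group.isSolvable_of_ker_le_range N.subtype (QuotientGroup.mk' N) (by
        rw [QuotientGroup.ker_mk', range_subtype])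
    · push Not at hN
      rcases subsingleton_or_nontrivial G with hG | hG
      · infer_instance
      · have hsimple : IsSimpleGroup G := ⟨fun N hNn => by
          by_cases h1 : N = ⊥
          · exact Or.inl h1
          · exact Or.inr (hN N hNn h1)⟩
        by_cases h2 : p = 2
        · subst h2
          exact Cfsg.Agent.H3.burnside_paqb 2 2 Nat.prime_two Nat.prime_two _ G rfl (fun r hr hrd => by
            by_contra hcon
            push Not at hcon
            have := h.prime_dvd hr hrd hcon.1
            exact hr.one_lt.ne' (Nat.dvd_one.mp this))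
        · by_cases h3 : p = 3
          · subst h3
            exact Cfsg.Agent.H3.burnside_paqb 2 3 Nat.prime_two Nat.prime_three _ G rfl (fun r hr hrd => by
              by_contra hcon
              push Not at hcon
              have := h.prime_dvd hr hrd hcon.2
              exact hcon.1 ((Nat.prime_dvd_prime_iff_eq hr Nat.prime_two).mp this))
          · by_contra hns
            have hp5 : 5 ≤ p := by
              have h4 := hp.out.two_le
              have h5 : p ≠ 4 := by
                rintro rfl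
                exact absurd hp.out (by decide)
              omega
            refine simple_case hsimple hns (fun K hK => ?_) (fun H hH => (h H hH).1) hp5
            have h1 : Nat.card K < n := by
              rw [← hGn]
              exact lt_of_le_of_ne (Subgroup.card_le_card_group K) (fun h => hK ((Subgroup.card_eq_iff_eq_top K).mp h))
            exact ih _ h1 K rfl (h.sub K)

end
end Cfsg.Agent.H14.SE
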