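import Cfsg.Agent.H21.OT15h
import Cfsg.Agent.H2.WType

set_option autoImplicit false
set_option linter.unusedVariables false

/-! The types II - V in terms of the standard factorisation. -/

namespace Cfsg.Agent.H14.TY

open Subgroup Cfsg
open Cfsg.Agent.L (cj nz SylIn)
open Cfsg.Agent.H14 (IsPiSub)
open Cfsg.Agent.OOT
open Cfsg.Agent.H21

universe u
variable {G : Type u} [Group G] [Finite G] (hG : IsMinSimpleOddOrder G)

omit [Finite G] in
theorem kappa_ne {M K : Subgroup G} [Finite G] (hK : IsPiHallOf (kappa M) K M) (h : K ≠ ⊥) :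
    (kappa M).Nonempty := by
  obtain ⟨p, hp, hd⟩ := Nat.exists_prime_and_dvd (n := Nat.card K)
    (fun h1 => h (Subgroup.card_eq_one.1 h1))
  exact ⟨p, hK.2.1 p hp hd⟩

theorem hall_coprime {M K : Subgroup G} {π : Set ℕ} (h : IsPiHallOf π K M) :
    (Nat.card K).Coprime (K.relIndex M) := by
  rw [Nat.coprime_iff_gcd_eq_one]
  by_contra hne
  obtain ⟨q, hq, hd⟩ := Nat.exists_prime_and_dvd hne
  exact h.2.2 q hq (h.2.1 q hq (hd.trans (Nat.gcd_dvd_left _ _))) (hd.trans (Nat.gcd_dvd_right _ _))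

omit [Finite G] in
theorem exponent_subgroupOf {A D : Subgroup G} (hA : A ≤ D) :
    Monoid.exponent (A.subgroupOf D) = Monoid.exponent A :=
  Monoid.exponent_eq_of_mulEquiv (Subgroup.subgroupOfEquivOfLe hA)

omit [Finite G] in
theorem fittingHall_eq {D H : Subgroup G} (h : fittingHallOf D = H) :
    fittingHall D = H.subgroupOf D := by
  rw [← h]
  exact (Subgroup.comap_map_eq_self_of_injective D.subtype_injective _).symm

omit [Finite G] in
/-- type F, for a subgroup `D` -/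
theorem typeF_of {D H V V₁ V₀ : Subgroup G} (hsol : Group.IsSolvable D) (hodd : Odd (Nat.card D))
    (hH : fittingHallOf D = H) (hH1 : H ≠ ⊥) (hc : IsComplIn H V D) (hV1 : V ≠ ⊥)
    (h1 : V₁ ≤ V) (h2 : V ≤ normalizer (V₁ : Set G)) (h3 : IsMulCommutative V₁)
    (h4 : ∀ x ∈ H, x ≠ 1 → V ⊓ centralizer ({x} : Set G) ≤ V₁)
    (h5 : V₀ ≤ V) (h6 : Monoid.exponent V₀ = Monoid.exponent V)
    (h7 : ∀ u ∈ V₀, u ≠ 1 → ∀ x ∈ H, u * x = x * u → x = 1) : IsOfTypeF D := by
  have hHD : H ≤ D := hc.1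
  have hVD : V ≤ D := hc.2.1
  have e := fittingHall_eq hH
  refine ⟨hsol, hodd, ?_, ?_, V.subgroupOf D, ?_, ?_, ⟨V₁.subgroupOf D, ?_, ?_, ?_, ?_⟩,
    V₀.subgroupOf D, ?_, ?_, ?_⟩
  · rw [e]
    intro h0
    rw [Subgroup.subgroupOf_eq_bot, disjoint_iff, inf_eq_left.2 hHD] at h0
    exact hH1 h0
  · rw [e]
    intro h0
    rw [Subgroup.subgroupOf_eq_top] at h0
    apply hV1
    rw [← hc.2.2.1]
    exact (inf_eq_right.2 (hVD.trans h0)).symm
  · intro h0
    rw [Subgroup.subgroupOf_eq_bot, disjoint_iff, inf_eq_left.2 hVD] at h0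
    exact hV1 h0
  · rw [e]; exact complIn_isComplement hc
  · exact fun x hx => h1 hx
  · rintro ⟨v, hvD⟩ hv
    have hv' := h2 hv
    rw [Subgroup.mem_normalizer_iff] at hv' ⊢
    rintro ⟨w, hw⟩
    exact hv' w
  · refine ⟨⟨?_⟩⟩
    rintro ⟨⟨a, haD⟩, ha⟩ ⟨⟨b, hbD⟩, hb⟩
    apply Subtype.ext
    apply Subtype.ext
    have := congrArg Subtype.val (h3.is_comm.comm ⟨a, ha⟩ ⟨b, hb⟩)
    exact this
  · rintro ⟨x, hxD⟩ hx hx1 ⟨y, hyD⟩ ⟨hy, hyc⟩
    rw [e] at hx
    refine h4 x hx (fun h0 => hx1 (Subtype.ext h0)) ⟨hy, ?_⟩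
    have h8 := mem_cent_singleton.1 hyc
    exact mem_cent_singleton.2 (congrArg Subtype.val h8)
  · exact fun x hx => h5 hx
  · rw [exponent_subgroupOf (h5.trans hVD), exponent_subgroupOf hVD, h6]
  · rintro ⟨u, huD⟩ hu hu1 ⟨x, hxD⟩ hx hux
    rw [e] at hx
    exact Subtype.ext (h7 u hu (fun h0 => hu1 (Subtype.ext h0)) x hx (congrArg Subtype.val hux))

theorem nz_fhOf (D : Subgroup G) :
    normalizer (D : Set G) ≤ normalizer ((fittingHallOf D : Subgroup G) : Set G) := by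
  intro g hg
  apply L.mem_nz_iff.2
  rw [cj_fhOf, L.mem_nz_iff.1 hg]

include hG

theorem dual_selfNorm {M K M' K' : Subgroup G} (D : Dual M K M' K') :
    IsSelfNormalizingCyclic K K' := by
  have hcyc := D.cyclic_Z hG
  have hZ : Zof M K = K ⊔ K' := by rw [← D.e]
  refine ⟨D.pm.ne, D.pm'.ne, ?_, fun a ha b hb => D.comm ha hb, ?_, ?_⟩
  · exact (Subgroup.disjoint_of_coprime_natCard (D.coprime hG)).eq_bot
  · rw [← hZ]; exact hcyc
  · intro X hX hXne
    rw [← hZ] at hX ⊢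
    have hXhat : X ⊆ Zhat M K := by
      intro x hx
      have h1 := hX hx
      refine ⟨h1.1, ?_⟩
      rw [D.e]
      exact h1.2
    apply le_antisymm
    · intro g hg
      obtain ⟨x, hx⟩ := hXne
      have h1 : g * x * g⁻¹ ∈ X := (Subgroup.mem_set_normalizer_iff.1 hg x).1 hx
      exact D.pm.Zhat_conj hG (hXhat hx) (hXhat h1).1
    · intro g hg
      rw [Subgroup.mem_set_normalizer_iff]
      intro x
      have hc := comm_of_cyclic hcyc
      constructor
      · intro hx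
        have : g * x * g⁻¹ = x := by
          rw [hc g hg x (hXhat hx).1, mul_inv_cancel_right]
        rwa [this]
      · intro hx
        have h1 := (hXhat hx).1
        have h2 : g⁻¹ * (g * x * g⁻¹) * g = g * x * g⁻¹ := by
          rw [hc g⁻¹ ((Zof M K).inv_mem hg) _ h1, inv_mul_cancel_right]
        have h3 : g * x * g⁻¹ = x := by rw [← h2]; group
        rwa [h3] at hx

section Dec
variable {M K U : Subgroup G} (hM : IsCoatom M) (h : IsSigmaDecomposition M K U)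
include hM h

theorem dec_compl_der (hK : K ≠ ⊥) : IsComplIn ⁅M, M⁆ K M := by
  rw [dec_derived hG hM h hK]
  exact complIn_symm (dec_compl_K hG hM h)

theorem typeP_of_dec (hK : K ≠ ⊥) {V : Subgroup G} (hVn : Group.IsNilpotent V)
    (hKV : K ≤ normalizer (V : Set G)) (hV : IsComplIn (fittingHallOf M) V ⁅M, M⁆) :
    IsTypePWith M K V (Kst M K) := by
  have hPM := dec_PM hM h hK
  obtain ⟨M', hD, -⟩ := PM.exists_dual hG hPM
  obtain ⟨hf1, hf2, hf3⟩ := row1356 hG hM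
  obtain ⟨hk1, hk2, hk3, hk4⟩ := row1364 hG hM h hK
  have hf2' : fittingHallOf M ⊔ (M ⊓ centralizer (fittingHallOf M : Set G)) = fittingOf M := by
    rw [sup_comm]; exact hf2.symm
  have hcd := dec_compl_der hG hM h hK
  exact {
    W₁_ne := hK
    W₁_cyclic := h.cyclic
    W₁_hall := hall_coprime h.hall
    W₁_compl := hcd
    U_nilpotent := hVn
    U_normal := hKV
    U_compl := hV
    H_not_cyclic := hk4
    derived_two_le := by rw [hf2']; exact hf1
    fitting_eq := hf2'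
    fitting_le := hf3 (kappa_ne h.hall hK)
    W₂_le := le_inf hk3 (dec_kst_le hG hM h hK)
    W₂_centralizer := by
      intro x hx hx1
      apply le_antisymm
      · intro z hz
        have hzM : z ∈ M ⊓ centralizer ({x} : Set G) := ⟨hcd.1 hz.1, hz.2⟩
        rw [dec_cent hG hM h hx hx1] at hzM
        obtain ⟨k, hk, y, hy, rfl⟩ := mem_Z.1 hzM
        have hyM : y ∈ ⁅M, M⁆ := by
          rw [dec_derived hG hM h hK]; exact mem_sup_right (kst_le_ms M K hy)
        have hkM : k ∈ ⁅M, M⁆ := by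
          have := Subgroup.mul_mem _ (Subgroup.mem_inf.1 hz).1 (Subgroup.inv_mem _ hyM)
          rwa [mul_inv_cancel_right] at this
        have hk1 : k ∈ ⁅M, M⁆ ⊓ K := ⟨hkM, hk⟩
        rw [hcd.2.2.1, mem_bot] at hk1
        rw [hk1, one_mul]; exact hy
      · intro y hy
        refine ⟨?_, ?_⟩
        · rw [dec_derived hG hM h hK]; exact mem_sup_right (kst_le_ms M K hy)
        · exact mem_cent_singleton.2 (kst_comm hx hy).symm
    selfNormalizing := dual_selfNorm hG hD }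

theorem not_nz_U (hK : K ≠ ⊥) (hU : U ≠ ⊥) : ¬ normalizer (U : Set G) ≤ M := by
  have hPM := dec_PM hM h hK
  obtain ⟨M', hD, -⟩ := PM.exists_dual hG hPM
  obtain ⟨r, hr, hrU⟩ := Nat.exists_prime_and_dvd (n := Nat.card U)
    (fun h1 => hU (Subgroup.card_eq_one.1 h1))
  haveI : Fact r.Prime := ⟨hr⟩
  obtain ⟨R, hR⟩ := L.exists_sylIn (p := r) U
  have hR1 : R ≠ ⊥ := ne_bot_of_sylIn hR hrU
  have hRt : R ≠ ⊤ := fun e => hM.1 (top_le_iff.1 (e ▸ (hR.le.trans (dec_U_le h))))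
  obtain ⟨H, hH, hRH⟩ := exists_coatom_of_nz hG hR1 hRt
  have := (thm_14_12 hG hM h hK hU hD hr hrU hR hH hRH).2.2.2.1
  intro h'
  exact this (inf_le_right.trans h')

theorem fh_ms_of_U (hU : U ≠ ⊥) : Group.IsNilpotent (sigmaCore M) := by
  have hp : ¬ IsP1 M := fun h' => hU ((dec_P1_iff hG hM h).1 h')
  exact (not_p1_facts hG hM hp (dec_U_hall hG hM h)).2.1

theorem der_nz (hK : K ≠ ⊥) : M ≤ normalizer ((⁅M, M⁆ : Subgroup G) : Set G) := by
  rw [dec_derived hG hM h hK]; exact dec_UMs_nz hG hM h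

/-- `(M')_F = M_F` when `M' = U M_σ` and `M_σ` is nilpotent -/
theorem fh_der (hK : K ≠ ⊥) (hn : Group.IsNilpotent (sigmaCore M)) :
    fittingHallOf ⁅M, M⁆ = fittingHallOf M := by
  have hF := fhOf_eq_ms hG hM hn
  have hD := dec_derived hG hM h hK
  have hDM : ⁅M, M⁆ ≤ M := (dec_compl_der hG hM h hK).1
  have hMsD : sigmaCore M ≤ ⁅M, M⁆ := by rw [hD]; exact le_sup_right
  apply le_antisymm
  · -- `(M')_F` is a normal nilpotent Hall subgroup of `M`
    have hDh : (Nat.card (⁅M, M⁆ : Subgroup G)).Coprime ((⁅M, M⁆ : Subgroup G).relIndex M) := by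
      rw [hD]; exact hall_coprime (dec_UMs_hall hG hM h)
    apply le_fhOf ((fhOf_le _).trans hDM)
    · exact (der_nz hG hM h hK).trans (nz_fhOf _)
    · exact fhOf_nilpotent _
    · rw [← Subgroup.relIndex_mul_relIndex _ _ _ (fhOf_le ⁅M, M⁆) hDM]
      exact Nat.Coprime.mul_right (fhOf_coprime _)
        (hDh.coprime_dvd_left (card_dvd_of_le (fhOf_le ⁅M, M⁆)))
  · rw [hF]
    apply le_fhOf hMsD (hDM.trans (le_nz_ms M)) hn
    exact (hall_coprime (ms_hall hG hM)).coprime_dvd_right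
      ⟨_, (Subgroup.relIndex_mul_relIndex _ _ _ hMsD hDM).symm⟩

theorem typeII_of_dec (hK : K ≠ ⊥) (hU : U ≠ ⊥) : IsOfTypeII M := by
  have hn := fh_ms_of_U hG hM h hU
  have hF := fhOf_eq_ms hG hM hn
  have hD := dec_derived hG hM h hK
  obtain ⟨hp, hTI, hle⟩ := row1372 hG hM h hK hU
  have hUab := dec_U_comm hG hM h hK
  have hUn : Group.IsNilpotent U := H10.isNilpotent_of_comm fun a b => hUab.is_comm.comm a b
  have hc : IsComplIn (fittingHallOf M) U ⁅M, M⁆ := by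
    rw [hF, hD]
    exact complIn_of_sup ((dec_U_le h).trans (le_nz_ms M)) (dec_U_inf_ms hG hM h) (sup_comm _ _)
  obtain ⟨V₀, hV0, hVe, hVf⟩ := row1360 hG hM h
  refine ⟨K, U, Kst M K, typeP_of_dec hG hM h hK hUn h.normal hc, hU, hp, hTI, hUab,
    not_nz_U hG hM h hK hU, ?_, fh_der hG hM h hK hn⟩
  have hDM : ⁅M, M⁆ ≤ M := (dec_compl_der hG hM h hK).1
  refine typeF_of (H := fittingHallOf M) (V := U) (V₁ := U) (V₀ := V₀)
    (H1.isSolvable_of_le hDM (coatom_sol hG hM)) ?_ (fh_der hG hM h hK hn) ?_ hc hU le_rfl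
    le_normalizer hUab (fun x _ _ => inf_le_left) hV0 hVe ?_
  · exact OOT.odd_sub hG _
  · exact (row1355 hG hM).1
  · intro u hu hu1 x hx hux
    by_contra hx1
    exact hu1 (hVf u hu ⟨dec_U_le h (hV0 hu), x, hF ▸ hx, hx1, hux⟩)

end Dec

/-- every prime of `W₁` lies in `κ(M)` -/
theorem kappa_of_typeP {M W₁ V W₂ : Subgroup G} (hM : IsCoatom M) (hP : IsTypePWith M W₁ V W₂)
    {q : ℕ} (hq : q.Prime) (hd : q ∣ Nat.card W₁) : q ∈ kappa M := by
  haveI : Fact q.Prime := ⟨hq⟩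
  have hW : W₁ ≤ M := hP.W₁_compl.2.1
  have hrel : W₁.relIndex M = Nat.card (⁅M, M⁆ : Subgroup G) := complIn_relIndex_right hP.W₁_compl
  have hqD : ¬ q ∣ Nat.card (⁅M, M⁆ : Subgroup G) := by
    intro h'
    have h1 := hP.W₁_hall
    rw [hrel] at h1
    exact hq.one_lt.ne' (Nat.dvd_one.1 (h1 ▸ Nat.dvd_gcd hd h'))
  obtain ⟨-, hFs, hsD, -, -⟩ := row1355 hG hM
  have hqs : q ∉ sigma M := fun h' =>
    hqD ((dvd_of_hall (ms_hall hG hM) hq h' (hd.trans (card_dvd_of_le hW))).trans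
      (card_dvd_of_le hsD))
  rw [mem_kappa_iff]
  refine ⟨hq, hd.trans (card_dvd_of_le hW), hqs, fun P hPM => ?_⟩
  -- a Sylow subgroup inside `W₁`
  obtain ⟨S, hS⟩ := L.exists_sylIn (p := q) W₁
  have hSM : SylIn q S M := by
    refine ⟨hS.le.trans hW, hS.isPGroup, fun h' => ?_⟩
    rw [← Subgroup.relIndex_mul_relIndex S W₁ M hS.le hW] at h'
    rcases (Nat.Prime.dvd_mul hq).1 h' with h1 | h1
    · exact hS.not_dvd h1
    · rw [hrel] at h1; exact hqD h1
  obtain ⟨m, hm, rfl⟩ := hSM.exists_conj_eq hPM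
  have hSc : IsCyclic S := H2.isCyclic_of_le hS.le hP.W₁_cyclic
  refine ⟨isCyclic_cj.2 hSc, ?_⟩
  obtain ⟨x, hx, hx1⟩ := exists_ne_one (ne_bot_of_sylIn hS hd)
  obtain ⟨y, hy, hy1⟩ := exists_ne_one hP.selfNormalizing.2.1
  have hyM : y ∈ sigmaCore M := hFs ((hP.W₂_le hy).1)
  have hxy := hP.selfNormalizing.2.2.2.1 x (hS.le hx) y hy
  refine ⟨m * x * m⁻¹, L.conj_mem_cj hx, fun e => hx1 (by simpa using e), m * y * m⁻¹,
    (Subgroup.mem_normalizer_iff.1 (le_nz_ms M hm) y).1 hyM, fun e => hy1 (by simpa using e), ?_⟩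
  calc m * x * m⁻¹ * (m * y * m⁻¹) = m * (x * y) * m⁻¹ := by group
    _ = m * (y * x) * m⁻¹ := by rw [hxy]
    _ = _ := by group

theorem K_ne_of_typeP {M K W₁ V W₂ : Subgroup G} (hM : IsCoatom M) (hK : IsPiHallOf (kappa M) K M)
    (hP : IsTypePWith M W₁ V W₂) : K ≠ ⊥ := by
  obtain ⟨q, hq, hd⟩ := Nat.exists_prime_and_dvd (n := Nat.card W₁)
    (fun h1 => hP.W₁_ne (Subgroup.card_eq_one.1 h1))
  have h1 := dvd_of_hall hK hq (kappa_of_typeP hG hM hP hq hd)
    (hd.trans (card_dvd_of_le hP.W₁_compl.2.1))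
  rintro rfl
  rw [Subgroup.card_bot] at h1
  exact hq.one_lt.ne' (Nat.dvd_one.1 h1)

/-- nontrivial nilpotent Hall subgroups of `M_σ` have their normalizer in `M` -/
theorem nz_le_of_hall_ms {M V : Subgroup G} (hM : IsCoatom M) (hVs : V ≤ sigmaCore M)
    (hVn : Group.IsNilpotent V) (hV1 : V ≠ ⊥)
    (hVh : (Nat.card V).Coprime (V.relIndex (sigmaCore M))) : normalizer (V : Set G) ≤ M := by
  obtain ⟨p, hp, hd⟩ := Nat.exists_prime_and_dvd (n := Nat.card V)
    (fun h1 => hV1 (Subgroup.card_eq_one.1 h1))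
  haveI : Fact p.Prime := ⟨hp⟩
  have h1 := nil_piCore_hall hVn {p}
  have h2 : SylIn p (piCoreOf {p} V) V := sylIn_iff_hallOf.2 h1
  have h3 : SylIn p (piCoreOf {p} V) (sigmaCore M) := by
    refine ⟨h2.le.trans hVs, h2.isPGroup, fun h' => ?_⟩
    rw [← Subgroup.relIndex_mul_relIndex _ V _ h2.le hVs] at h'
    rcases (Nat.Prime.dvd_mul hp).1 h' with h4 | h4
    · exact h2.not_dvd h4
    · exact hp.one_lt.ne' (Nat.dvd_one.1 (hVh ▸ Nat.dvd_gcd hd h4))
  have hps : p ∈ sigma M := (ms_hall hG hM).2.1 p hp (hd.trans (card_dvd_of_le hVs))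
  exact (normalizer_le_normalizer_piCoreOf {p} V).trans
    ((mem_sigma_iff'.1 hps).2.2 _ (sylIn_iff_hallOf.2 (IsPiHallOf.trans (π' := sigma M)
      (by rintro _ rfl; exact hps) (sylIn_iff_hallOf.1 h3) (ms_hall hG hM))))

section Dec
variable {M K U : Subgroup G} (hM : IsCoatom M) (h : IsSigmaDecomposition M K U)
include hM h

/-- with `U = 1` the complement `V` of `M_F` in `M' = M_σ` has its normalizer in `M` -/
theorem nz_V_le (hK : K ≠ ⊥) (hU : U = ⊥) {V : Subgroup G} (hV1 : V ≠ ⊥)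
    (hVn : Group.IsNilpotent V) (hc : IsComplIn (fittingHallOf M) V ⁅M, M⁆) :
    normalizer (V : Set G) ≤ M := by
  have hD : ⁅M, M⁆ = sigmaCore M := by rw [dec_derived hG hM h hK, hU, bot_sup_eq]
  rw [hD] at hc
  refine nz_le_of_hall_ms hG hM hc.2.1 hVn hV1 ?_
  rw [complIn_relIndex_right hc, ← complIn_relIndex_left hc]
  have h1 := fhOf_coprime M
  rw [← Subgroup.relIndex_mul_relIndex _ _ _ hc.1 (ms_le M)] at h1
  exact (h1.coprime_dvd_right (dvd_mul_right _ _)).symm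

theorem typeII_iff : IsOfTypeII M ↔ (K ≠ ⊥ ∧ U ≠ ⊥) := by
  constructor
  · rintro ⟨W₁, V, W₂, hP, hV1, -, -, hVc, hVN, -, -⟩
    have hK := K_ne_of_typeP hG hM h.hall hP
    exact ⟨hK, fun hU => hVN (nz_V_le hG hM h hK hU hV1 hP.U_nilpotent hP.U_compl)⟩
  · rintro ⟨hK, hU⟩
    exact typeII_of_dec hG hM h hK hU

/-- type III or IV data force `U = 1` -/
theorem U_bot_of_III {W₁ V W₂ : Subgroup G} (hP : IsTypePWith M W₁ V W₂) (hV1 : V ≠ ⊥)
    (hVN : normalizer (V : Set G) ≤ M) : K ≠ ⊥ ∧ U = ⊥ ∧ fittingHallOf M ≠ sigmaCore M := by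
  have hK := K_ne_of_typeP hG hM h.hall hP
  have hU : U = ⊥ := by
    by_contra hU
    have hn := fh_ms_of_U hG hM h hU
    have hF := fhOf_eq_ms hG hM hn
    have hD := dec_derived hG hM h hK
    have hDM : ⁅M, M⁆ ≤ M := (dec_compl_der hG hM h hK).1
    have hc : IsComplIn (fittingHallOf M) U ⁅M, M⁆ := by
      rw [hF, hD]
      exact complIn_of_sup ((dec_U_le h).trans (le_nz_ms M)) (dec_U_inf_ms hG hM h) (sup_comm _ _)
    -- both are Hall subgroups of `M'`
    have hH : IsPiHallOf (sigma M) (fittingHallOf M) ⁅M, M⁆ := by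
      rw [hF]
      exact IsPiHallOf.of_le (ms_hall hG hM) (by rw [hD]; exact le_sup_right) hDM
    have h1 := complIn_hall (π' := {p | p ∉ sigma M}) (fun p _ => Iff.rfl) hc hH
    have h2 := complIn_hall (π' := {p | p ∉ sigma M}) (fun p _ => Iff.rfl) hP.U_compl hH
    obtain ⟨g, hg, e⟩ := IsPiHallOf.conj (H1.isSolvable_of_le hDM (coatom_sol hG hM)) h1 h2
    apply not_nz_U hG hM h hK hU
    rw [← e]
    change nz (cj g V) ≤ M
    rw [L.nz_cj]
    calc cj g (nz V) ≤ cj g M := L.cj_mono hVN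
      _ = M := L.cj_eq_self_of_mem (hDM hg)
  refine ⟨hK, hU, fun hF => hV1 ?_⟩
  have hD : ⁅M, M⁆ = sigmaCore M := by rw [dec_derived hG hM h hK, hU, bot_sup_eq]
  have h1 := hP.U_compl.2.2.1
  rw [hF, ← hD, inf_eq_right.2 hP.U_compl.2.1] at h1
  exact h1

theorem typeIII_IV_iff : (IsOfTypeIII M ∨ IsOfTypeIV M) ↔
    (K ≠ ⊥ ∧ U = ⊥ ∧ fittingHallOf M ≠ sigmaCore M) := by
  constructor
  · rintro (⟨W₁, V, W₂, hP, hV1, -, -, -, hVN⟩ | ⟨W₁, V, W₂, hP, hV1, -, -, -, hVN⟩)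
    · exact U_bot_of_III hG hM h hP hV1 hVN
    · exact U_bot_of_III hG hM h hP hV1 hVN
  · rintro ⟨hK, hU, hF⟩
    obtain ⟨-, Q, D, hNF⟩ := exists_NF hG hM h hF
    obtain ⟨-, hTI, -⟩ := row1357 hG hM h hF
    have hD : ⁅M, M⁆ = sigmaCore M := hNF.der.symm
    set π : Set ℕ := {p | ¬ p ∣ Nat.card (fittingHallOf M)} with hπ
    set V := piCoreOf π D with hV
    have hVh : IsPiHallOf π V D := nil_piCore_hall hNF.D_nil π
    have hq : (Nat.card (Kst M K)) ∣ Nat.card (fittingHallOf M) :=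
      card_dvd_of_le (row1364 hG hM h hK).2.2.1
    have hVs : IsPiHallOf π V (sigmaCore M) := by
      refine IsPiHallOf.trans ?_ hVh hNF.D_hall
      intro p hp hp'
      rw [Set.mem_singleton_iff] at hp'
      exact hp (hp' ▸ hq)
    have hFs : IsPiHallOf {p | p ∣ Nat.card (fittingHallOf M)} (fittingHallOf M) (sigmaCore M) :=
      IsPiHallOf.of_le (fhOf_hall M) (fhOf_le_ms hG hM) (ms_le M)
    have hc : IsComplIn (fittingHallOf M) V ⁅M, M⁆ := by
      rw [hD]
      exact (IsPiHallOf.isComplIn (fun p _ => Iff.rfl) hFs hVs).1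
    have hVn : Group.IsNilpotent V := H1.isNilpotent_of_le hVh.1 hNF.D_nil
    have hKV : K ≤ normalizer (V : Set G) :=
      hNF.K_nz.trans (normalizer_le_normalizer_piCoreOf π D)
    have hV1 : V ≠ ⊥ := by
      intro h0
      have h1 := complIn_sup hc
      rw [h0, sup_bot_eq, hD] at h1
      exact hF h1
    have hP := typeP_of_dec hG hM h hK hVn hKV hc
    have hN := nz_V_le hG hM h hK hU hV1 hVn hc
    by_cases hab : IsMulCommutative V
    · exact Or.inl ⟨K, V, Kst M K, hP, hV1, hNF.Kp, hTI, hab, hN⟩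
    · exact Or.inr ⟨K, V, Kst M K, hP, hV1, hNF.Kp, hTI, hab, hN⟩

/-- if `M_F` is not TI, Theorem 15.7 applies -/
theorem not_TI {H : Subgroup G} (hH : H = fittingHallOf M) (hTI : ¬ IsTISubset (H : Set G)) :
    (K = ⊥ ∧ IsMulCommutative (fittingHallOf M) ∧ RankLE 2 (fittingHallOf M) ∧
        ¬ RankLE 1 (fittingHallOf M)) ∨
      (∃ p : ℕ, p.Prime ∧ p ∈ sigma M ∧ IsCyclic (pPrimeCore p ↥(fittingHallOf M)) ∧
        ∀ q : ℕ, q.Prime → q ∣ Nat.card (fittingHallOf M) →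
          Monoid.exponent (↥M ⧸ fittingHall ↥M) ∣ q - 1) ∨
      (∃ p : ℕ, p.Prime ∧ p ∈ sigma M ∧ IsCyclic (pPrimeCore p ↥(fittingHallOf M)) ∧
        Nat.card (pCore p ↥(fittingHallOf M)) = p ^ 3 ∧ K ≠ ⊥ ∧ U = ⊥ ∧
          (fittingHallOf M).relIndex M ∣ p + 1) := by
  subst hH
  unfold IsTISubset at hTI
  push Not at hTI
  obtain ⟨g, hg, x, hx, hgx, hx1⟩ := hTI
  have hgM : g ∉ M := fun h' => hg (le_normalizer_fhOf M h')
  have hX : fittingOf M ⊓ (fittingOf M).map (MulAut.conj g).toMonoidHom ≠ ⊥ := by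
    intro h0
    have h1 : g * x * g⁻¹ ∈ fittingOf M ⊓ (fittingOf M).map (MulAut.conj g).toMonoidHom :=
      ⟨fhOf_le_fittingOf M hgx, L.conj_mem_cj (fhOf_le_fittingOf M hx)⟩
    rw [h0, mem_bot] at h1
    exact hx1 (by simpa using h1)
  obtain ⟨-, -, h3⟩ := BB.S1440 hG M hM K U h g hgM hX
  rcases h3 with h3 | ⟨p, hp, -, hps, -, -, hc, he⟩ | ⟨p, hp, -, hps, -, hc, h3, -, hK, hU, hi⟩
  · exact Or.inl h3
  · exact Or.inr (Or.inl ⟨p, hp, hps, hc, he⟩)
  · exact Or.inr (Or.inr ⟨p, hp, hps, hc, h3, hK, hU, hi⟩)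

theorem typeV_iff : IsOfTypeV M ↔ (K ≠ ⊥ ∧ U = ⊥ ∧ fittingHallOf M = sigmaCore M) := by
  constructor
  · rintro ⟨W₁, V, W₂, hP, hV, -⟩
    have hK := K_ne_of_typeP hG hM h.hall hP
    obtain ⟨-, hFs, hsD, -, -⟩ := row1355 hG hM
    have h1 := complIn_sup hP.U_compl
    rw [hV, sup_bot_eq] at h1
    have h2 : sigmaCore M ≤ fittingHallOf M := by rw [h1]; exact hsD
    have hF : fittingHallOf M = sigmaCore M := le_antisymm hFs h2
    refine ⟨hK, ?_, hF⟩
    have hD := dec_derived hG hM h hK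
    have h3 : U ≤ sigmaCore M := by rw [← hF, h1, hD]; exact le_sup_left
    have h4 := dec_U_inf_ms hG hM h
    rwa [inf_eq_right.2 h3] at h4
  · rintro ⟨hK, hU, hF⟩
    have hD : ⁅M, M⁆ = sigmaCore M := by rw [dec_derived hG hM h hK, hU, bot_sup_eq]
    have hc : IsComplIn (fittingHallOf M) ⊥ ⁅M, M⁆ := by
      rw [hD, hF]
      exact ⟨le_rfl, bot_le, inf_bot_eq _, fun m hm => ⟨m, hm, 1, one_mem _, (mul_one m).symm⟩⟩
    have hcK : IsComplIn (fittingHallOf M) K M := by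
      rw [hF, ← hD]; exact dec_compl_der hG hM h hK
    refine ⟨K, ⊥, Kst M K, typeP_of_dec hG hM h hK (H10.isNilpotent_of_comm fun a b =>
      Subsingleton.elim _ _) ?_ hc, rfl, ?_⟩
    · intro k _
      rw [Subgroup.mem_normalizer_iff]
      intro x
      simp only [Subgroup.mem_bot]
      constructor
      · rintro rfl; simp
      · intro h'; simpa using h'
    by_cases hTI : IsTISubset (fittingHallOf M : Set G)
    · exact Or.inl hTI
    right
    have hpd : ∀ p : ℕ, p.Prime → p ∈ sigma M → p ∣ Nat.card (fittingHallOf M) := by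
      intro p hp hps
      rw [hF]
      exact dvd_of_hall (ms_hall hG hM) hp hps (mem_sigma_iff'.1 hps).2.1
    rcases not_TI hG hM h rfl hTI with h3 | ⟨p, hp, hps, hc, he⟩ | ⟨p, hp, hps, hc, h3, -, -, hi⟩
    · exact absurd h3.1 hK
    · refine Or.inl ⟨p, hp, hpd p hp hps, ?_, hc⟩
      refine dvd_trans ?_ (he p hp (hpd p hp hps))
      -- `|K|` divides the exponent of `M / M_F`
      obtain ⟨k, hk⟩ := h.cyclic.exists_generator
      have hkM : (k : G) ∈ M := h.hall.1 k.2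
      set e := Monoid.exponent (↥M ⧸ fittingHall ↥M) with he'
      have h1 : (QuotientGroup.mk (⟨k, hkM⟩ : M) : M ⧸ fittingHall M) ^ e = 1 :=
        Monoid.pow_exponent_eq_one _
      rw [← QuotientGroup.mk_pow, QuotientGroup.eq_one_iff] at h1
      have h2 : (k : G) ^ e ∈ fittingHallOf M ⊓ K :=
        ⟨⟨_, h1, rfl⟩, K.pow_mem k.2 _⟩
      rw [hcK.2.2.1, mem_bot] at h2
      have h4 : orderOf k ∣ e := by
        rw [← Subgroup.orderOf_coe]
        exact orderOf_dvd_of_pow_eq_one h2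
      rwa [orderOf_eq_card_of_forall_mem_zpowers hk] at h4
    · refine Or.inr ⟨p, hp, hpd p hp hps, h3, ?_, hc⟩
      rwa [complIn_relIndex_left hcK] at hi

/-- S1380, weak form -/
theorem typeI_iff : H2.WTypeI M ↔ (K = ⊥ ∧ U ≠ ⊥) := by
  constructor
  · rintro ⟨⟨-, -, hF1, hF2, V, hV1, hVc, -, V₀, hV₀, hexp, hfree⟩, -⟩
    obtain ⟨-, hFs, hsD, hDM, -⟩ := row1355 hG hM
    have hK : K = ⊥ := by
      by_contra hK
      obtain ⟨q, hq, hd⟩ := Nat.exists_prime_and_dvd (n := Nat.card K)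
        (fun h1 => hK (Subgroup.card_eq_one.1 h1))
      haveI : Fact q.Prime := ⟨hq⟩
      have hqκ := h.hall.2.1 q hq hd
      have hqs := kappa_not_sigma hqκ
      have hqF : ¬ q ∣ Nat.card (fittingHall M) := by
        rw [← card_fhOf]
        exact fun h' => hqs ((ms_hall hG hM).2.1 q hq (h'.trans (card_dvd_of_le hFs)))
      have hqV : q ∣ Nat.card V := by
        have h1 := hVc.card_mul_card
        have h2 : q ∣ Nat.card M := hd.trans (card_dvd_of_le h.hall.1)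
        rw [← h1] at h2
        exact ((Nat.Prime.dvd_mul hq).1 h2).resolve_left hqF
      obtain ⟨v, hv⟩ := exists_prime_orderOf_dvd_card' q hqV
      have hqe : q ∣ Monoid.exponent V₀ := by
        rw [hexp, ← hv]; exact Monoid.order_dvd_exponent v
      have hqV₀ : q ∣ Nat.card V₀ := hqe.trans Group.exponent_dvd_nat_card
      obtain ⟨u, hu⟩ := exists_prime_orderOf_dvd_card' q hqV₀
      have hu1 : (u : M) ≠ 1 := by
        intro h0
        have : u = 1 := Subtype.ext h0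
        rw [this, orderOf_one] at hu
        exact hq.one_lt.ne hu
      have huo : orderOf ((u : M) : G) = q := by
        rw [Subgroup.orderOf_coe, Subgroup.orderOf_coe]; exact hu
      obtain ⟨m, hm, hle⟩ := OOT.IsPiHallOf.exists_conj_le (coatom_sol hG hM) h.hall
        (K := zpowers ((u : M) : G)) (by rw [zpowers_le]; exact (u : M).2)
        (piSub_zpowers.2 (fun p hp hpd => by
          rw [huo] at hpd
          rw [(Nat.prime_dvd_prime_iff_eq hp hq).1 hpd]; exact hqκ))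
      have hk : m * ((u : M) : G) * m⁻¹ ∈ K := hle (L.conj_mem_cj (mem_zpowers _))
      obtain ⟨y, hy, hy1⟩ := exists_ne_one (PM.kst_ne hG (dec_PM hM h hK))
      have hyF := (row1364 hG hM h hK).2.2.1 hy
      have hc := kst_comm hk hy
      -- move back
      have hyF' : m⁻¹ * y * m ∈ fittingHallOf M := by
        have := (Subgroup.mem_normalizer_iff.1 (le_normalizer_fhOf M (M.inv_mem hm)) y).1 hyF
        simpa using this
      obtain ⟨z, hz, hz'⟩ := hyF'
      have hz'' : (z : G) = m⁻¹ * y * m := hz'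
      have h1 := hfree u u.2 hu1 z hz (by
        apply Subtype.ext
        change ((u : M) : G) * (z : G) = (z : G) * ((u : M) : G)
        rw [hz'']
        calc ((u : M) : G) * (m⁻¹ * y * m) = m⁻¹ * ((m * ((u : M) : G) * m⁻¹) * y) * m := by group
          _ = m⁻¹ * (y * (m * ((u : M) : G) * m⁻¹)) * m := by rw [hc]
          _ = _ := by group)
      apply hy1
      have h2 : m⁻¹ * y * m = 1 := by rw [← hz'', h1]; rfl
      calc y = m * (m⁻¹ * y * m) * m⁻¹ := by group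
        _ = 1 := by rw [h2]; group
    refine ⟨hK, fun hU => ?_⟩
    have h1 : M ≤ sigmaCore M := by
      intro m hm
      obtain ⟨u, hu, s, hs, rfl⟩ := h.compl.2.2.2 m hm
      rw [hU, mem_bot] at hu
      rw [hK, bot_sup_eq] at hs
      rw [hu, one_mul]; exact hs
    exact absurd (h1.trans hsD) (not_le_of_gt hDM)
  · rintro ⟨hK, hU⟩
    have hn := fh_ms_of_U hG hM h hU
    have hF := fhOf_eq_ms hG hM hn
    have hKs : K ⊔ sigmaCore M = fittingHallOf M := by rw [hK, bot_sup_eq, hF]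
    have hc : IsComplIn (fittingHallOf M) U M := by
      rw [← hKs]; exact complIn_symm h.compl
    obtain ⟨V₀, hV0, hVe, hVf⟩ := row1360 hG hM h
    refine ⟨?_, ?_⟩
    · refine typeF_of (H := fittingHallOf M) (V := U)
        (V₁ := Subgroup.closure ((U : Set G) ∩ sigmaHat M)) (V₀ := V₀)
        (coatom_sol hG hM) (OOT.odd_sub hG _) rfl (row1355 hG hM).1 hc hU ?_ ?_
        (dec_hat_abelian hG hM h) ?_ hV0 hVe ?_
      · rw [Subgroup.closure_le]; exact Set.inter_subset_left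
      · -- `U` normalizes
        have key : ∀ v ∈ U, ∀ x ∈ (U : Set G) ∩ sigmaHat M, v * x * v⁻¹ ∈ (U : Set G) ∩ sigmaHat M := by
          rintro v hv x ⟨hx, hxM, y, hy, hy1, hxy⟩
          have hvM := dec_U_le h hv
          refine ⟨U.mul_mem (U.mul_mem hv hx) (U.inv_mem hv),
            M.mul_mem (M.mul_mem hvM hxM) (M.inv_mem hvM), v * y * v⁻¹,
            (Subgroup.mem_normalizer_iff.1 (le_nz_ms M hvM) y).1 hy,
            fun e => hy1 (by simpa using e), ?_⟩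
          calc v * x * v⁻¹ * (v * y * v⁻¹) = v * (x * y) * v⁻¹ := by group
            _ = v * (y * x) * v⁻¹ := by rw [hxy]
            _ = _ := by group
        intro v hv
        apply L.mem_nz_iff.2
        apply L.eq_of_le_of_card_le
        · change (Subgroup.closure ((U : Set G) ∩ sigmaHat M)).map (MulAut.conj v).toMonoidHom ≤ _
          rw [MonoidHom.map_closure, Subgroup.closure_le]
          rintro _ ⟨x, hx, rfl⟩
          exact Subgroup.subset_closure (key v hv x hx)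
        · rw [L.card_cj]
      · intro x hx hx1 u hu
        exact Subgroup.subset_closure ⟨hu.1, dec_U_le h hu.1, x, hF ▸ hx, hx1,
          mem_cent_singleton.1 hu.2⟩
      · intro u hu hu1 x hx hux
        by_contra hx1
        exact hu1 (hVf u hu ⟨dec_U_le h (hV0 hu), x, hF ▸ hx, hx1, hux⟩)
    · by_cases hTI : IsTISubset (fittingHallOf M : Set G)
      · exact Or.inl hTI
      right
      rcases not_TI hG hM h rfl hTI with h3 | ⟨p, hp, hps, hc', he⟩ | ⟨p, hp, hps, hc', h3, h4, -⟩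
      · exact Or.inl h3.2
      · refine Or.inr ⟨he, p, hp, ?_, hc'⟩
        rw [hF]
        exact dvd_of_hall (ms_hall hG hM) hp hps (mem_sigma_iff'.1 hps).2.1
      · exact absurd hK h4

end Dec

theorem hall_top {M : Subgroup G} (hM : IsCoatom M) {H : Subgroup G} (hH : H ≤ sigmaCore M)
    (hc : (Nat.card H).Coprime (H.relIndex (sigmaCore M))) : (Nat.card H).Coprime H.index := by
  have h1 : (Nat.card H).Coprime (sigmaCore M).index := by
    rw [Nat.coprime_iff_gcd_eq_one]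
    by_contra hne
    obtain ⟨q, hq, hd⟩ := Nat.exists_prime_and_dvd hne
    exact (ms_hallG hG hM).2 q hq ((ms_hall hG hM).2.1 q hq ((hd.trans (Nat.gcd_dvd_left _ _)).trans
      (card_dvd_of_le hH))) (hd.trans (Nat.gcd_dvd_right _ _))
  rw [← Subgroup.relIndex_mul_index hH]
  exact Nat.Coprime.mul_right hc h1

theorem fh_hall_ms {M : Subgroup G} (hM : IsCoatom M) :
    (Nat.card (fittingHallOf M)).Coprime ((fittingHallOf M).relIndex (sigmaCore M)) := by
  have h1 := fhOf_coprime M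
  rw [← Subgroup.relIndex_mul_relIndex _ _ _ (fhOf_le_ms hG hM) (ms_le M)] at h1
  exact h1.coprime_dvd_right (dvd_mul_right _ _)

/-- `M_s = M_σ` -/
theorem typeCore_eq {M : Subgroup G} (hM : IsCoatom M) : typeCore M = sigmaCore M := by
  classical
  obtain ⟨K, U, h⟩ := exists_dec' hG hM
  by_cases hF : fittingHallOf M = sigmaCore M
  · have h1 : ¬ (IsOfTypeIII M ∨ IsOfTypeIV M) := fun h' =>
      ((typeIII_IV_iff hG hM h).1 h').2.2 hF
    rw [typeCore, if_neg h1, hF]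
  · obtain ⟨hU, -, hp⟩ := row1357 hG hM h hF
    have hK : K ≠ ⊥ := by
      rintro rfl
      rw [Subgroup.card_bot] at hp
      exact Nat.not_prime_one hp
    rw [typeCore, if_pos ((typeIII_IV_iff hG hM h).2 ⟨hK, hU, hF⟩), dec_derived hG hM h hK, hU,
      bot_sup_eq]

theorem row1389 {M : Subgroup G} (hM : IsCoatom M) :
    (∀ (p : ℕ), p.Prime → ∀ (P : Sylow p ↥(typeCore M)), (P : Subgroup ↥(typeCore M)) ≠ ⊥ →
        normalizer ((((P : Subgroup ↥(typeCore M)).map (typeCore M).subtype : Subgroup G)) : Set G)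
          ≤ M) ∧
      (Nat.card (fittingHallOf M)).Coprime (fittingHallOf M).index ∧
      (Nat.card (typeCore M)).Coprime (typeCore M).index := by
  rw [typeCore_eq hG hM]
  refine ⟨?_, hall_top hG hM (fhOf_le_ms hG hM) (fh_hall_ms hG hM), ?_⟩
  · intro p hp P hP
    haveI : Fact p.Prime := ⟨hp⟩
    have h1 := L.sylIn_of_sylow P
    have hpd : p ∣ Nat.card (sigmaCore M) := by
      by_contra hd
      apply hP
      have h2 : Nat.card (P : Subgroup ↥(sigmaCore M)) = 1 := by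
        obtain ⟨n, hn⟩ := IsPGroup.iff_card.1 P.isPGroup'
        rcases Nat.eq_zero_or_pos n with h0 | h0
        · rw [hn, h0, pow_zero]
        · exact absurd ((dvd_pow_self p h0.ne').trans (hn ▸ Subgroup.card_subgroup_dvd_card _)) hd
      exact Subgroup.card_eq_one.1 h2
    have hps : p ∈ sigma M := (ms_hall hG hM).2.1 p hp hpd
    exact (mem_sigma_iff'.1 hps).2.2 _ (sylIn_iff_hallOf.2 (IsPiHallOf.trans (π' := sigma M)
      (by rintro _ rfl; exact hps) (sylIn_iff_hallOf.1 h1) (ms_hall hG hM)))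
  · apply hall_top hG hM le_rfl
    rw [Subgroup.relIndex_self]
    exact Nat.coprime_one_right _

/-- `A₁(M) = M_σ^#` -/
theorem typeA1_eq {M : Subgroup G} (hM : IsCoatom M) :
    typeA1 M = (sigmaCore M : Set G) \ {1} := by
  rw [typeA1, typeCore_eq hG hM]

section Dec
variable {M K U : Subgroup G} (hM : IsCoatom M) (h : IsSigmaDecomposition M K U)
include hM h

/-- `wA M = A(M)^#` for `K = 1` -/
theorem wA_eq_sigmaA (hK : K = ⊥) : H2.wA M = sigmaA M U \ {1} := by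
  have hU : U ≠ ⊥ := by
    rintro rfl
    obtain ⟨-, -, hsD, hDM, -⟩ := row1355 hG hM
    have h1 : M ≤ sigmaCore M := by
      intro m hm
      obtain ⟨u, hu, s, hs, rfl⟩ := h.compl.2.2.2 m hm
      rw [mem_bot] at hu
      rw [hK, bot_sup_eq] at hs
      rw [hu, one_mul]; exact hs
    exact absurd (h1.trans hsD) (not_le_of_gt hDM)
  have hF := fhOf_eq_ms hG hM (fh_ms_of_U hG hM h hU)
  have hsup : U ⊔ sigmaCore M = M := by
    have := complIn_sup h.compl
    rwa [hK, bot_sup_eq] at this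
  ext a
  constructor
  · rintro ⟨haM, ha1, x, hx, hx1, hax⟩
    exact ⟨⟨⟨haM, x, hF ▸ hx, hx1, hax⟩, by rw [hsup]; exact haM⟩, ha1⟩
  · rintro ⟨⟨⟨haM, x, hx, hx1, hax⟩, -⟩, ha1⟩
    exact ⟨haM, ha1, x, by rw [hF]; exact hx, hx1, hax⟩

/-- `typeA M = A(M)^#` for `M` of type P -/
theorem typeA_eq_sigmaA (hK : K ≠ ⊥) : typeA M = sigmaA M U \ {1} := by
  classical
  have hnI : ¬ IsOfTypeI M := fun h' => hK ((typeI_iff hG hM h).1 (H2.WTypeI.of_typeI h')).1
  have hD := dec_derived hG hM h hK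
  have hDM : ⁅M, M⁆ ≤ M := (dec_compl_der hG hM h hK).1
  rw [typeA, if_neg hnI, typeCore_eq hG hM]
  ext a
  constructor
  · rintro ⟨haM, ha1, x, hx, hx1, hax⟩
    exact ⟨⟨⟨hDM haM, x, hx, hx1, hax⟩, by rw [← hD]; exact haM⟩, ha1⟩
  · rintro ⟨⟨⟨haM, x, hx, hx1, hax⟩, ha⟩, ha1⟩
    exact ⟨by rw [hD]; exact ha, ha1, x, hx, hx1, hax⟩

theorem der_cent (hK : K ≠ ⊥) {x : G} (hx : x ∈ K) (hx1 : x ≠ 1) :
    ⁅M, M⁆ ⊓ centralizer ({x} : Set G) = Kst M K := by
  have hcd := dec_compl_der hG hM h hK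
  apply le_antisymm
  · intro z hz
    have hzM : z ∈ M ⊓ centralizer ({x} : Set G) := ⟨hcd.1 hz.1, hz.2⟩
    rw [dec_cent hG hM h hx hx1] at hzM
    obtain ⟨k, hk, y, hy, rfl⟩ := mem_Z.1 hzM
    have hyM : y ∈ ⁅M, M⁆ := by
      rw [dec_derived hG hM h hK]; exact mem_sup_right (kst_le_ms M K hy)
    have hkM : k ∈ ⁅M, M⁆ := by
      have := Subgroup.mul_mem _ (Subgroup.mem_inf.1 hz).1 (Subgroup.inv_mem _ hyM)
      rwa [mul_inv_cancel_right] at this
    have hk1 : k ∈ ⁅M, M⁆ ⊓ K := ⟨hkM, hk⟩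
    rw [hcd.2.2.1, mem_bot] at hk1
    rw [hk1, one_mul]; exact hy
  · intro y hy
    refine ⟨?_, ?_⟩
    · rw [dec_derived hG hM h hK]; exact mem_sup_right (kst_le_ms M K hy)
    · exact mem_cent_singleton.2 (kst_comm hx hy).symm

/-- uniqueness of the type P data up to conjugacy -/
theorem typeP_conj (hK : K ≠ ⊥) {W₁ V W₂ : Subgroup G} (hP : IsTypePWith M W₁ V W₂) :
    ∃ m ∈ M, cj m W₁ = K ∧ cj m W₂ = Kst M K := by
  have hcd := dec_compl_der hG hM h hK
  obtain ⟨m, hm, hle⟩ := OOT.IsPiHallOf.exists_conj_le (coatom_sol hG hM) h.hall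
    (K := W₁) hP.W₁_compl.2.1 (fun p hp hd => kappa_of_typeP hG hM hP hp hd)
  have hcard : Nat.card W₁ = Nat.card K := by
    rw [← complIn_relIndex_left hP.W₁_compl, ← complIn_relIndex_left hcd]
  have hW : cj m W₁ = K := L.eq_of_le_of_card_le hle (by rw [L.card_cj, hcard])
  refine ⟨m, hm, hW, ?_⟩
  obtain ⟨x, hx, hx1⟩ := exists_ne_one hP.W₁_ne
  have h1 : m * x * m⁻¹ ∈ K := by rw [← hW]; exact L.conj_mem_cj hx
  rw [← der_cent hG hM h hK h1 (fun e => hx1 (by simpa using e)), ← hP.W₂_centralizer x hx hx1,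
    L.cj_inf, ← commutator_cj, L.cj_eq_self_of_mem hm, cj_cent]

theorem exists_V (hK : K ≠ ⊥) : ∃ V : Subgroup G, Group.IsNilpotent V ∧
    K ≤ normalizer (V : Set G) ∧ IsComplIn (fittingHallOf M) V ⁅M, M⁆ := by
  have hDd := dec_derived hG hM h hK
  by_cases hF : fittingHallOf M = sigmaCore M
  · refine ⟨U, ?_, h.normal, ?_⟩
    · have hUab := dec_U_comm hG hM h hK
      exact H10.isNilpotent_of_comm fun a b => hUab.is_comm.comm a b
    · rw [hF, hDd]
      exact complIn_of_sup ((dec_U_le h).trans (le_nz_ms M)) (dec_U_inf_ms hG hM h) (sup_comm _ _)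
  · obtain ⟨-, Q, D, hNF⟩ := exists_NF hG hM h hF
    have hD : ⁅M, M⁆ = sigmaCore M := hNF.der.symm
    set π : Set ℕ := {p | ¬ p ∣ Nat.card (fittingHallOf M)} with hπ
    set V := piCoreOf π D with hV
    have hVh : IsPiHallOf π V D := nil_piCore_hall hNF.D_nil π
    have hq : (Nat.card (Kst M K)) ∣ Nat.card (fittingHallOf M) :=
      card_dvd_of_le (row1364 hG hM h hK).2.2.1
    have hVs : IsPiHallOf π V (sigmaCore M) := by
      refine IsPiHallOf.trans ?_ hVh hNF.D_hall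
      intro p hp hp'
      rw [Set.mem_singleton_iff] at hp'
      exact hp (hp' ▸ hq)
    have hFs : IsPiHallOf {p | p ∣ Nat.card (fittingHallOf M)} (fittingHallOf M) (sigmaCore M) :=
      IsPiHallOf.of_le (fhOf_hall M) (fhOf_le_ms hG hM) (ms_le M)
    refine ⟨V, H1.isNilpotent_of_le hVh.1 hNF.D_nil,
      hNF.K_nz.trans (normalizer_le_normalizer_piCoreOf π D), ?_⟩
    rw [hD]
    exact (IsPiHallOf.isComplIn (fun p _ => Iff.rfl) hFs hVs).1

theorem exists_typeP (hK : K ≠ ⊥) : ∃ V : Subgroup G, IsTypePWith M K V (Kst M K) := by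
  obtain ⟨V, h1, h2, h3⟩ := exists_V hG hM h hK
  exact ⟨V, typeP_of_dec hG hM h hK h1 h2 h3⟩

theorem sigmaA_sub_A0 (hK : K ≠ ⊥) {a : G} (ha : a ∈ sigmaA M U) : a ∈ sigmaA0 M K := by
  refine ⟨ha.1, ?_⟩
  rintro ⟨k, hk, hk1, m, hm, rfl⟩
  have h1 : k ∈ U ⊔ sigmaCore M :=
    (Subgroup.mem_normalizer_iff.1 (dec_UMs_nz hG hM h hm) k).2 ha.2
  have h2 : k ∈ K ⊓ (U ⊔ sigmaCore M) := ⟨hk, h1⟩
  rw [(dec_compl_K hG hM h).2.2.1, Subgroup.mem_bot] at h2
  exact hk1 h2

/-- `typeA0 M = A₀(M)^#` for `M` of type P -/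
theorem typeA0_eq_sigmaA0 (hK : K ≠ ⊥) : typeA0 M = sigmaA0 M K \ {1} := by
  have hnI : ¬ IsOfTypeI M := fun h' => hK ((typeI_iff hG hM h).1 (H2.WTypeI.of_typeI h')).1
  have hA := typeA_eq_sigmaA hG hM h hK
  have hdiff := A0_diff hG hM h hK
  have hW : K ⊔ Kst M K = Zof M K := rfl
  ext v
  constructor
  · rintro (hv | ⟨-, W₁, V, W₂, hP, m, hm, w, hw, hw1, hw2, rfl⟩)
    · rw [hA] at hv
      exact ⟨sigmaA_sub_A0 hG hM h hK hv.1, hv.2⟩
    · obtain ⟨g, hg, e1, e2⟩ := typeP_conj hG hM h hK hP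
      have h1 : g * w * g⁻¹ ∈ Zhat M K := by
        refine ⟨?_, ?_⟩
        · change g * w * g⁻¹ ∈ K ⊔ Kst M K
          rw [← e2, ← e1, ← L.cj_sup]
          exact L.conj_mem_cj hw
        · rintro (h' | h')
          · have h'' : g * w * g⁻¹ ∈ cj g W₁ := by rw [e1]; exact h'
            exact hw1 (L.conj_mem_cj_iff.1 h'')
          · have h'' : g * w * g⁻¹ ∈ cj g W₂ := by rw [e2]; exact h'
            exact hw2 (L.conj_mem_cj_iff.1 h'')
      have h2 : m * w * m⁻¹ ∈ {a : G | ∃ m ∈ M, ∃ z ∈ Zhat M K, a = m * z * m⁻¹} :=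
        ⟨m * g⁻¹, M.mul_mem hm (M.inv_mem hg), g * w * g⁻¹, h1, by group⟩
      rw [hdiff] at h2
      refine ⟨h2.1, ?_⟩
      rintro h3
      have h4 : w = 1 := by simpa using h3
      exact hw1 (h4 ▸ W₁.one_mem)
  · rintro ⟨hv, hv1⟩
    by_cases hvA : v ∈ sigmaA M U
    · left
      rw [hA]; exact ⟨hvA, hv1⟩
    · right
      have h2 : v ∈ sigmaA0 M K \ sigmaA M U := ⟨hv, hvA⟩
      rw [← hdiff] at h2
      obtain ⟨m, hm, z, hz, rfl⟩ := h2
      obtain ⟨V, hP⟩ := exists_typeP hG hM h hK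
      exact ⟨hnI, K, V, Kst M K, hP, m, hm, z, hz.1, fun h' => hz.2 (Or.inl h'),
        fun h' => hz.2 (Or.inr h'), rfl⟩

end Dec

end Cfsg.Agent.H14.TY
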